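import Cfsg.Agent.Lib.Blocks.Star.Local
import Cfsg.Agent.Lib.Blocks.Principal
import Cfsg.Agent.Lib.Blocks.SubsectionNorms
import Cfsg.Agent.Lib.Pairs.BlockFusion
import Cfsg.Agent.Lib.Char.Virtual
import Cfsg.Agent.Lib.Char.Brauer
import Cfsg.Agent.Lib.Char.Monomial
import Mathlib.GroupTheory.SchurZassenhaus

/-!
# The product of a character with a character of a defect group

For a character `lam` of `P` invariant under fusion, `star lam χ` is the class function `u s ↦ ∑ f, wt lam u f * χ^(u, f) s`.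
-/

namespace CfsgLib.Star

open Cfsg CfsgLib.Blocks CfsgLib.Pairs MonoidAlgebra
open scoped ComplexConjugate Classical

variable {G : Type*} [Group G] [Fintype G] {M : Ideal AlgInt} [M.IsPrime] {p : ℕ} [Fact p.Prime]

/-- A linear character of `P` trivial on the focal subgroup, extended to the ambient group. -/
structure IsFocalChar {P : Subgroup G} (F : FusionSystem P) (lam : G → ℂ) : Prop where
  map_one : lam 1 = 1
  map_mul : ∀ x ∈ P, ∀ y ∈ P, lam (x * y) = lam x * lam y
  focal : ∀ x ∈ P, x ∈ F.focalSubgroup → lam x = 1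

/-- A generalized character of `P`, extended to the ambient group, invariant under fusion. -/
structure IsStableChar {P : Subgroup G} (F : FusionSystem P) (lam : G → ℂ) : Prop where
  gen : IsGeneralizedCharacter P (fun x : P => lam x)
  stable : ∀ Q : Subgroup G, ∀ φ ∈ F.Hom Q, ∀ x : Q, lam (φ x) = lam x

omit [Fintype G] in
theorem IsFocalChar.isStableChar {P : Subgroup G} {F : FusionSystem P} {lam : G → ℂ}
    (h : IsFocalChar F lam) : IsStableChar F lam := by
  have hinv : ∀ x : P, lam x * lam (x : G)⁻¹ = 1 := fun x => by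
    rw [← h.map_mul _ x.2 _ (inv_mem x.2), mul_inv_cancel, h.map_one]
  refine ⟨?_, fun Q φ hφ x => ?_⟩
  · let l : P →* ℂˣ :=
      { toFun := fun x => ⟨lam x, lam (x : G)⁻¹, hinv x, by rw [mul_comm]; exact hinv x⟩
        map_one' := Units.ext h.map_one
        map_mul' := fun x y => Units.ext (h.map_mul _ x.2 _ y.2) }
    exact Char.IsGen.of_irr (Char.isIrrCharacter_linear l)
  · obtain ⟨hQ, hφP⟩ := F.le_of_mem hφ
    have hfoc : (x : G)⁻¹ * φ x ∈ F.focalSubgroup :=
      Subgroup.subset_closure ⟨_, _, ⟨x, hφ, rfl⟩⟩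
    have hd := mul_mem (inv_mem (hQ x.2)) (hφP x)
    conv_lhs => rw [← mul_inv_cancel_left (x : G) (φ x)]
    rw [h.map_mul _ (hQ x.2) _ hd, h.focal _ hd hfoc, mul_one]

/-- The value at `u` of a character of `P`, read through the pair `a`. -/
noncomputable def wt (p : ℕ) (M : Ideal AlgInt) (P : Subgroup G)
    (e : Set (IrrCharacter (Subgroup.centralizer (P : Set G)))) (lam : G → ℂ) (u : G)
    (a : BrauerPairIdx G) : ℂ :=
  if h : ∃ x : G, Relation.ReflTransGen (NormalSubpairRel p M) (conjPair x a) ⟨P, e⟩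
  then lam (h.choose * u * h.choose⁻¹) else 1

/-- The `p`-part of an element. -/
noncomputable def pPt (p : ℕ) (g : G) : G := if h : ∃ u, IsPPart p g u then h.choose else 1

/-- The product of `χ` with a character of `P`. -/
noncomputable def star (p : ℕ) (M : Ideal AlgInt) [M.IsPrime] (P : Subgroup G)
    (e : Set (IrrCharacter (Subgroup.centralizer (P : Set G)))) (lam : G → ℂ) (χ : G → ℂ) (g : G) :
    ℂ :=
  thetaQ (wt p M P e lam) χ (Subgroup.zpowers (pPt p g)) (pPt p g) ((pPt p g)⁻¹ * g)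
    (1 : MonoidAlgebra (Res M) G)

omit [Fintype G] in
theorem pPart_unique {g u v : G} (hp : p.Prime) (hu : IsPPart p g u) (hv : IsPPart p g v) :
    u = v := by
  have := conj_pPart_eq hp hu hv (x := 1) (j := 1) (by simpa using hp.ne_one) (by simp)
  simpa using this

theorem isPPart_pPt (g : G) : IsPPart p g (pPt p g) := by
  have h := exists_pPart (Fact.out : p.Prime) g
  rw [pPt, dif_pos h]
  exact h.choose_spec

theorem pPt_mul {u s : G} (hu : ∃ k : ℕ, orderOf u = p ^ k) (hs : ¬ p ∣ orderOf s) (hc : Commute u s) :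
    pPt p (u * s) = u :=
  pPart_unique (Fact.out : p.Prime) (isPPart_pPt _) ⟨s, rfl, hc, hu, hs⟩

theorem star_mul (P : Subgroup G) (e : Set (IrrCharacter (Subgroup.centralizer (P : Set G))))
    (lam χ : G → ℂ) {u s : G} (hu : ∃ k : ℕ, orderOf u = p ^ k) (hs : ¬ p ∣ orderOf s)
    (hc : Commute u s) :
    star p M P e lam χ (u * s) =
      thetaQ (wt p M P e lam) χ (Subgroup.zpowers u) u s (1 : MonoidAlgebra (Res M) G) := by
  rw [star, pPt_mul hu hs hc, inv_mul_cancel_left]

theorem exists_decomp (g : G) : ∃ u s : G,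
    (∃ k : ℕ, orderOf u = p ^ k) ∧ ¬ p ∣ orderOf s ∧ Commute u s ∧ g = u * s := by
  obtain ⟨u, y, hg, hc, hk, hy⟩ := exists_pPart (Fact.out : p.Prime) g
  exact ⟨u, y, hk, hy, hc, hg.symm⟩

variable (hM : IsPModular p M) {B : Set (IrrCharacter G)} {P : Subgroup G}
  {e : Set (IrrCharacter (Subgroup.centralizer (P : Set G)))} {F : FusionSystem P}
  (hF : IsBlockFusionSystemOn p M B P e F) {lam : G → ℂ} (hlam : IsStableChar F lam)
include hM hF hlam

theorem wt_eq {u : G} {a : BrauerPairIdx G} (hu : u ∈ a.1) {x : G}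
    (hx : Relation.ReflTransGen (NormalSubpairRel p M) (conjPair x a) ⟨P, e⟩) :
    wt p M P e lam u a = lam (x * u * x⁻¹) := by
  have h : ∃ y : G, Relation.ReflTransGen (NormalSubpairRel p M) (conjPair y a) ⟨P, e⟩ := ⟨x, hx⟩
  rw [wt, dif_pos h]
  set y := h.choose with hy
  have hys := h.choose_spec
  rw [← hy] at hys
  have hmor : Mor p M P e (a.1.map (MulAut.conj x).toMonoidHom) (y * x⁻¹) :=
    ⟨conjBlock a.1 x a.2, hx, by
      show Relation.ReflTransGen _ (conjPair (y * x⁻¹) (conjPair x a)) _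
      rw [← conjPair_mul, inv_mul_cancel_right]
      exact hys⟩
  have hv : x * u * x⁻¹ ∈ a.1.map (MulAut.conj x).toMonoidHom := ⟨u, hu, rfl⟩
  have hφ : conjHom (a.1.map (MulAut.conj x).toMonoidHom) (y * x⁻¹) ∈
      F.Hom (a.1.map (MulAut.conj x).toMonoidHom) :=
    (mem_hom_iff hF).2 ⟨_, fun _ => rfl, hmor⟩
  have h2 := hlam.stable _ _ hφ ⟨x * u * x⁻¹, hv⟩
  show lam (y * u * y⁻¹) = lam (x * u * x⁻¹)
  refine Eq.trans (congrArg lam ?_) h2
  show y * u * y⁻¹ = y * x⁻¹ * (x * u * x⁻¹) * (y * x⁻¹)⁻¹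
  group

theorem isWeight_wt : IsWeight p M (wt p M P e lam) := by
  refine ⟨fun x u a hu => ?_, fun a ha => ?_⟩
  · by_cases h : ∃ y : G, Relation.ReflTransGen (NormalSubpairRel p M) (conjPair y a) ⟨P, e⟩
    · obtain ⟨y, hy⟩ := h
      rw [wt_eq hM hF hlam hu hy, wt_eq hM hF hlam (a := conjPair x a) (u := x * u * x⁻¹) (x := y * x⁻¹)
        ⟨u, hu, rfl⟩ (by rw [← conjPair_mul, inv_mul_cancel_right]; exact hy)]
      congr 1
      group
    · rw [wt, wt, dif_neg h, dif_neg fun ⟨y, hy⟩ => h ⟨y * x, by rw [conjPair_mul]; exact hy⟩]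
  · have hex : ∀ {u : G}, u ∈ a.1 → ∀ {f}, SubpairLE p M (Subgroup.zpowers u) f a.1 a.2 →
        ∀ {x : G}, Relation.ReflTransGen (NormalSubpairRel p M) (conjPair x a) ⟨P, e⟩ →
          Relation.ReflTransGen (NormalSubpairRel p M) (conjPair x ⟨Subgroup.zpowers u, f⟩) ⟨P, e⟩ :=
      fun {u} _ {f} hf {x} hx => (subpairLE_conjPair x hf).trans hx
    by_cases h : ∃ x : G, Relation.ReflTransGen (NormalSubpairRel p M) (conjPair x a) ⟨P, e⟩
    · obtain ⟨x, hx⟩ := h
      let φ : a.1 →* P := ((MulAut.conj x).toMonoidHom.comp a.1.subtype).codRestrict P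
        fun v => le_of_subpairLE hx ⟨v, v.2, rfl⟩
      exact ⟨fun u => lam (x * u * x⁻¹), Char.IsGen.comp φ hlam.gen,
        fun u hu f hf => wt_eq hM hF hlam (Subgroup.mem_zpowers u) (hex hu hf hx)⟩
    · refine ⟨fun _ => 1, Char.IsGen.one, fun u hu f hf => ?_⟩
      rw [wt, dif_neg]
      rintro ⟨x, hx⟩
      refine h ?_
      -- a conjugate of the lower pair lies below `(P, e)`, so the pair belongs to the block
      have hPeB := hF.1.1
      have hfB : IsBrauerPairOf p M B (Subgroup.zpowers u) f := by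
        have h1 : IsBrauerPairOf p M B (conjPair x ⟨Subgroup.zpowers u, f⟩).1
            (conjPair x ⟨Subgroup.zpowers u, f⟩).2 := (subpairLE_pairOf_iff hM hx B).1 hPeB
        have h2 := isBrauerPairOf_conjPair x⁻¹ (a := conjPair x ⟨Subgroup.zpowers u, f⟩) h1
        rwa [← conjPair_mul, inv_mul_cancel, conjPair_one] at h2
      have haB : IsBrauerPairOf p M B a.1 a.2 :=
        (subpairLE_pairOf_iff hM (a := ⟨Subgroup.zpowers u, f⟩) hf B).2 hfB
      exact exists_conj_le hM hF.1 haB

omit hM hF hlam in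
theorem norm_lam (hlin : IsFocalChar F lam) {u : G} (hu : u ∈ P) : lam u * conj (lam u) = 1 := by
  have hpow : ∀ n : ℕ, lam u ^ n = lam (u ^ n) := by
    intro n
    induction n with
    | zero => rw [pow_zero, pow_zero, hlin.map_one]
    | succ n ih => rw [pow_succ, pow_succ, ih, hlin.map_mul _ (pow_mem hu n) _ hu]
  have h1 : lam u ^ orderOf u = 1 := by rw [hpow, pow_orderOf_eq_one, hlin.map_one]
  rw [Complex.mul_conj', Complex.norm_eq_one_of_pow_eq_one h1 (orderOf_pos u).ne']
  simp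

theorem norm_wt (hlin : IsFocalChar F lam) {u : G} {a : BrauerPairIdx G} (hu : u ∈ a.1) :
    wt p M P e lam u a * conj (wt p M P e lam u a) = 1 := by
  by_cases h : ∃ y : G, Relation.ReflTransGen (NormalSubpairRel p M) (conjPair y a) ⟨P, e⟩
  · obtain ⟨y, hy⟩ := h
    rw [wt_eq hM hF hlam hu hy]
    exact norm_lam hlin (le_of_subpairLE hy ⟨u, hu, rfl⟩)
  · rw [wt, dif_neg h, map_one, one_mul]

theorem wt_one (h1 : lam 1 = 1) {a : BrauerPairIdx G} : wt p M P e lam 1 a = 1 := by
  rw [wt]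
  split_ifs with h
  · rw [mul_one, mul_inv_cancel, h1]
  · rfl

theorem star_isClassFunction (χ : IrrCharacter G) :
    IsClassFunction G (star p M P e lam (χ : G → ℂ)) := by
  intro g x
  obtain ⟨u, s, hk, hs, hc, rfl⟩ := exists_decomp (p := p) g
  have hcu : Commute (x * u * x⁻¹) (x * s * x⁻¹) := hc.map (MulAut.conj x).toMonoidHom
  have hk' : ∃ k : ℕ, orderOf (x * u * x⁻¹) = p ^ k := by
    obtain ⟨k, hk⟩ := hk
    exact ⟨k, by rw [← hk]; exact MulEquiv.orderOf_eq (MulAut.conj x) u⟩
  have hs' : ¬ p ∣ orderOf (x * s * x⁻¹) := by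
    rwa [show x * s * x⁻¹ = MulAut.conj x s from rfl, MulEquiv.orderOf_eq]
  rw [show x * (u * s) * x⁻¹ = x * u * x⁻¹ * (x * s * x⁻¹) by group,
    star_mul P e lam _ hk' hs' hcu, star_mul P e lam _ hk hs hc]
  have hmap : Subgroup.zpowers (x * u * x⁻¹) =
      (Subgroup.zpowers u).map (MulAut.conj x).toMonoidHom := by
    rw [MonoidHom.map_zpowers]
    simp
  have hone : ∀ H : Subgroup G, InvUnder H (1 : MonoidAlgebra (Res M) G) := fun H =>
    InvUnder.of_isCentralElt H IsCentralElt.one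
  have h := thetaQ_conj hM (wt p M P e lam) χ (localArg_zpowers hk hs hc)
    (fun y a ha => (isWeight_wt hM hF hlam).conj y u a ha) (Subgroup.mem_zpowers u) x
    (by rw [← hmap]; exact localArg_zpowers hk' hs' hcu) (one_mul (1 : MonoidAlgebra (Res M) G))
    (hone _) (hone _)
  rw [conjAlg_of_isCentralElt _ IsCentralElt.one, ← hmap] at h
  exact h

/-- The local sum at `1` as a combination of block parts. -/
theorem star_eq_sum_blockPart (χ : IrrCharacter G) {u : G} (hk : ∃ k : ℕ, orderOf u = p ^ k)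
    {s : Subgroup.centralizer (Subgroup.zpowers u : Set G)} (hs : ¬ p ∣ orderOf s)
    [Fintype {f : Set (IrrCharacter (Subgroup.centralizer (Subgroup.zpowers u : Set G))) // IsPBlock M f}] :
    star p M P e lam (χ : G → ℂ) (u * (s : G)) =
      ∑ f : {f : Set (IrrCharacter (Subgroup.centralizer (Subgroup.zpowers u : Set G))) // IsPBlock M f},
        wt p M P e lam u ⟨Subgroup.zpowers u, f.1⟩ *
          blockPart f.1 (fun c : Subgroup.centralizer (Subgroup.zpowers u : Set G) =>
            (χ : G → ℂ) (u * (c : G))) s := by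
  have hc : Commute u (s : G) := Subgroup.mem_centralizer_iff.1 s.2 u (Subgroup.mem_zpowers u)
  have hs' : ¬ p ∣ orderOf (s : G) := by rwa [Subgroup.orderOf_coe]
  have hla := localArg_zpowers hk hs' hc
  have hcomm : ∀ c : Subgroup.centralizer (Subgroup.zpowers u : Set G), Commute u (c : G) := fun c =>
    Subgroup.mem_centralizer_iff.1 c.2 u (Subgroup.mem_zpowers u)
  rw [star_mul P e lam _ hk hs' hc, thetaQ, finsum_eq_sum_of_fintype]
  refine Finset.sum_congr rfl fun f _ => ?_
  congr 1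
  have hcb : ∀ (g : G), g ∈ Subgroup.centralizer (Subgroup.zpowers u : Set G) →
      InvUnder (Subgroup.zpowers g)
        (inclElt (Subgroup.centralizer (Subgroup.zpowers u : Set G)) (blockIdemO M f.1)) :=
    fun g hg => invUnder_inclElt_of_commute hg
      (InvUnder.of_isCentralElt _ (isCentralElt_blockIdemO f.2))
  rw [sv_eq hM χ hla.2 (cutBr_mul_self hM hla.1 f.2 (one_mul _)
      (InvUnder.of_isCentralElt _ IsCentralElt.one))
    (invUnder_cutBr f.2 hla.3 (InvUnder.of_isCentralElt _ IsCentralElt.one))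
    (q := inclElt _ (blockIdemO M f.1)) (by rw [← map_mul, blockIdemO_mul_self f.2])
    (hcb _ hla.3) (by rw [red_inclElt, cutBr, resC_one, mul_one]; rfl),
    blockPart_eq_sum_blockCoeff f.1 (fun c d => ?_) s]
  · rw [tr, ← Finset.sum_filter_of_ne (p := fun x : G =>
        x ∈ Subgroup.centralizer (Subgroup.zpowers u : Set G)) (s := Finset.univ)
        (fun x _ hne => by by_contra hx; simp [coeff_inclElt_of_notMem _ _ hx] at hne),
      Finset.sum_subtype (p := fun x : G => x ∈ Subgroup.centralizer (Subgroup.zpowers u : Set G)) _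
        (by simp)]
    refine Finset.sum_congr rfl fun k _ => ?_
    rw [coeff_inclElt, ← coeff_inc, inc_blockIdemO f.2, coeff_blockIdem, Subgroup.coe_mul,
      ← mul_assoc, ← (hcomm k).eq, mul_assoc]
  · show (χ : G → ℂ) (u * ((d * c * d⁻¹ : Subgroup.centralizer (Subgroup.zpowers u : Set G)) : G)) =
      (χ : G → ℂ) (u * (c : G))
    rw [show u * ((d * c * d⁻¹ : Subgroup.centralizer (Subgroup.zpowers u : Set G)) : G) =
        (d : G) * (u * c) * (d : G)⁻¹ by
      simp only [Subgroup.coe_mul, Subgroup.coe_inv, ← mul_assoc, (hcomm d).eq]]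
    exact Char.IsIrr.isClassFunction χ.2 _ _

theorem star_eq_of_regular (h1 : lam 1 = 1) (χ : IrrCharacter G) {s : G} (hs : ¬ p ∣ orderOf s) :
    star p M P e lam (χ : G → ℂ) s = (χ : G → ℂ) s := by
  have := Fintype.ofFinite
    {f : Set (IrrCharacter (Subgroup.centralizer (Subgroup.zpowers (1 : G) : Set G))) // IsPBlock M f}
  have hsC : s ∈ Subgroup.centralizer (Subgroup.zpowers (1 : G) : Set G) := by
    rw [Subgroup.zpowers_one_eq_bot, Subgroup.mem_centralizer_iff]
    intro x hx
    rw [SetLike.mem_coe, Subgroup.mem_bot] at hx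
    simp [hx]
  have h := star_eq_sum_blockPart hM hF hlam χ (u := 1) ⟨0, by simp⟩ (s := ⟨s, hsC⟩)
    (by rwa [Subgroup.orderOf_mk])
  simp only [one_mul, wt_one hM hF hlam h1] at h
  rw [h]
  exact sum_blockPart (M := M) (θ := fun c : Subgroup.centralizer (Subgroup.zpowers (1 : G) : Set G) =>
    (χ : G → ℂ) (c : G)) (fun c d => Char.IsIrr.isClassFunction χ.2 _ _) _

end CfsgLib.Star
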