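import Cfsg.Agent.Lib.Blocks.Star.Irr

/-!
# The product is an action
-/

namespace CfsgLib.Star

open Cfsg CfsgLib.Blocks CfsgLib.Pairs MonoidAlgebra CfsgLib.Char
open scoped ComplexConjugate Classical

variable {G : Type*} [Group G] [Fintype G] {M : Ideal AlgInt} [M.IsPrime] {p : ℕ} [Fact p.Prime]

omit [Fact p.Prime] in
/-- A block part at a regular element only depends on the regular values. -/
theorem blockPart_congr_regular (hM : IsPModular p M) {C : Type*} [Group C] [Fintype C]
    {b : Set (IrrCharacter C)} (hb : IsPBlock M b) {φ φ' : C → ℂ}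
    (h : ∀ w : C, ¬ p ∣ orderOf w → φ w = φ' w) {y : C} (hy : ¬ p ∣ orderOf y) :
    blockPart b φ y = blockPart b φ' y := by
  simp only [blockPart_apply]
  congr 1
  refine Finset.sum_congr rfl fun w _ => ?_
  by_cases hw : p ∣ orderOf w
  · rw [sum_block_regular_singular hM hb hy (by rwa [orderOf_inv]), mul_zero, mul_zero]
  · rw [h w hw]

omit [Fact p.Prime] in
/-- The block part of a combination of block parts. -/
theorem blockPart_sum {C : Type*} [Group C] [Fintype C]
    [Fintype {f : Set (IrrCharacter C) // IsPBlock M f}]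
    (w : {f : Set (IrrCharacter C) // IsPBlock M f} → ℂ) (φ : C → ℂ)
    (f : {f : Set (IrrCharacter C) // IsPBlock M f}) (y : C) :
    blockPart f.1 (∑ f' : {f : Set (IrrCharacter C) // IsPBlock M f}, w f' • blockPart f'.1 φ) y =
      w f * blockPart f.1 φ y := by
  have := Fintype.ofFinite (IrrCharacter C)
  have hexp : ∀ b : Set (IrrCharacter C), blockPart b φ =
      ∑ ψ : IrrCharacter C, (if ψ ∈ b then classInner φ (ψ : C → ℂ) else 0) • (ψ : C → ℂ) := by
    intro b
    funext g
    rw [blockPart_eq, Finset.sum_apply, finsum_mem_eq_finite_toFinset_sum _ (Set.toFinite b),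
      ← Finset.sum_filter_add_sum_filter_not Finset.univ (fun ψ => ψ ∈ b)]
    rw [Finset.sum_eq_zero (s := Finset.univ.filter fun ψ => ψ ∉ b) fun ψ hψ => by
      rw [Pi.smul_apply, if_neg (Finset.mem_filter.1 hψ).2, zero_smul], add_zero]
    refine Finset.sum_congr (by ext; simp) fun ψ hψ => ?_
    rw [Pi.smul_apply, smul_eq_mul, if_pos (Finset.mem_filter.1 hψ).2]
  simp only [blockPart_eq]
  rw [finsum_mem_eq_finite_toFinset_sum _ (Set.toFinite f.1),
    finsum_mem_eq_finite_toFinset_sum _ (Set.toFinite f.1), Finset.mul_sum]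
  refine Finset.sum_congr rfl fun ψ hψ => ?_
  rw [Set.Finite.mem_toFinset] at hψ
  rw [classInner_sum_left, Finset.sum_eq_single f]
  · rw [classInner_smul_left, hexp, classInner_sum_irr, if_pos hψ, mul_assoc]
  · intro f' _ hne
    rw [classInner_smul_left, hexp, classInner_sum_irr, if_neg fun h =>
      hne (Subtype.ext (IsPBlock.eq_of_mem f'.2 f.2 h hψ)), mul_zero]
  · exact fun h => absurd (Finset.mem_univ f) h

variable (hM : IsPModular p M) {B : Set (IrrCharacter G)} {P : Subgroup G}
  {e : Set (IrrCharacter (Subgroup.centralizer (P : Set G)))} {F : FusionSystem P}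
  (hF : IsBlockFusionSystemOn p M B P e F) {lam : G → ℂ} (hlam : IsFocalChar F lam)

omit [Fintype G] [Fact p.Prime] [M.IsPrime] in
theorem IsFocalChar.mul {lam' : G → ℂ} (h : IsFocalChar F lam) (h' : IsFocalChar F lam') :
    IsFocalChar F (lam' * lam) :=
  ⟨by simp [h.map_one, h'.map_one],
    fun x hx y hy => by
      simp only [Pi.mul_apply]
      rw [h.map_mul x hx y hy, h'.map_mul x hx y hy, mul_mul_mul_comm],
    fun x hx hf => by simp [h.focal x hx hf, h'.focal x hx hf]⟩

omit [Fact p.Prime] [M.IsPrime] in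
theorem wt_mul (lam' lam : G → ℂ) (u : G) (a : BrauerPairIdx G) :
    wt p M P e (lam' * lam) u a = wt p M P e lam' u a * wt p M P e lam u a := by
  simp only [wt]
  split_ifs with h
  · rfl
  · rw [mul_one]

include hM hF hlam in
theorem star_star {lam' : G → ℂ} (hlam' : IsFocalChar F lam') (χ : IrrCharacter G) :
    star p M P e lam' (starIrr hM hF hlam χ : G → ℂ) =
      star p M P e (lam' * lam) (χ : G → ℂ) := by
  funext g
  obtain ⟨u, s, hk, hs, hc, rfl⟩ := exists_decomp (p := p) g
  have hsC : s ∈ Subgroup.centralizer (Subgroup.zpowers u : Set G) := by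
    refine Subgroup.mem_centralizer_iff.2 fun z hz => ?_
    obtain ⟨n, rfl⟩ := Subgroup.mem_zpowers_iff.1 hz
    exact (hc.zpow_left n).eq
  set C := Subgroup.centralizer (Subgroup.zpowers u : Set G) with hC
  have := Fintype.ofFinite {f : Set (IrrCharacter C) // IsPBlock M f}
  have hs' : ¬ p ∣ orderOf (⟨s, hsC⟩ : C) := by rwa [Subgroup.orderOf_mk]
  rw [show u * s = u * ((⟨s, hsC⟩ : C) : G) from rfl,
    star_eq_sum_blockPart hM hF hlam'.isStableChar (starIrr hM hF hlam χ) hk hs',
    star_eq_sum_blockPart hM hF (IsFocalChar.mul hlam hlam').isStableChar χ hk hs']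
  refine Finset.sum_congr rfl fun f _ => ?_
  rw [wt_mul, mul_assoc,
    blockPart_congr_regular hM f.2 (φ' := ∑ f' : {f : Set (IrrCharacter C) // IsPBlock M f},
      wt p M P e lam u ⟨Subgroup.zpowers u, f'.1⟩ •
        blockPart f'.1 (fun c : C => (χ : G → ℂ) (u * (c : G)))) (fun w hw => ?_) hs',
    blockPart_sum]
  simp only [Finset.sum_apply, Pi.smul_apply, smul_eq_mul]
  exact star_eq_sum_blockPart hM hF hlam.isStableChar χ hk hw

end CfsgLib.Star
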