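import Cfsg.Agent.Lib.Blocks.Star.Positive
import Cfsg.Agent.Lib.Pairs.Nilpotent
import Cfsg.Agent.Lib.Pairs.NilpotentLocal
import Cfsg.Agent.Lib.Pairs.Correspondence
import Cfsg.Agent.Lib.CharAction.RegBlock
import Cfsg.Agent.Lib.CharAction.RegGen

/-!
# Characters of nilpotent blocks

Broué–Puig: for a nilpotent block with maximal pair `(P, e)` and a character `χ` of height zero,
`η ↦ η * χ` is a bijection from the irreducible characters of `P` onto the block.
-/

namespace CfsgLib.Star

open Cfsg CfsgLib.Blocks CfsgLib.Pairs CfsgLib.Char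
open scoped ComplexConjugate Classical

variable {G : Type*} [Group G] [Fintype G] {M : Ideal AlgInt} [M.IsPrime] {p : ℕ} [Fact p.Prime]

/-- A function on `P` extended by zero. -/
noncomputable def extP (P : Subgroup G) (η : P → ℂ) (g : G) : ℂ := if h : g ∈ P then η ⟨g, h⟩ else 0

omit [Fintype G] in
theorem extP_coe (P : Subgroup G) (η : P → ℂ) (x : P) : extP P η (x : G) = η x := by
  rw [extP, dif_pos x.2]

variable (hM : IsPModular p M) {B : Set (IrrCharacter G)} {P : Subgroup G}
  {e : Set (IrrCharacter (Subgroup.centralizer (P : Set G)))} {F : FusionSystem P}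
  (hF : IsBlockFusionSystemOn p M B P e F)

omit [Fintype G] [M.IsPrime] [Fact p.Prime] in
theorem isStableChar_extP (hinn : ∀ Q : Subgroup G, F.Hom Q = (innerFusionSystem P).Hom Q)
    (η : IrrCharacter P) : IsStableChar F (extP P (η : P → ℂ)) := by
  refine ⟨?_, fun Q φ hφ x => ?_⟩
  · rw [show (fun x : P => extP P (η : P → ℂ) (x : G)) = (η : P → ℂ) from funext (extP_coe P _)]
    exact IsGen.of_irr η.2
  · rw [hinn] at hφ
    obtain ⟨hQ, g, hg, hφ⟩ := hφ
    rw [hφ, extP, extP, dif_pos (P.mul_mem (P.mul_mem hg (hQ x.2)) (P.inv_mem hg)), dif_pos (hQ x.2)]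
    exact IsIrr.isClassFunction η.2 ⟨(x : G), hQ x.2⟩ ⟨g, hg⟩

omit [Fintype G] [M.IsPrime] [Fact p.Prime] in
theorem isStableChar_one : IsStableChar F (fun _ => (1 : ℂ)) :=
  ⟨IsGen.one, fun _ _ _ _ => rfl⟩

include hM hF

theorem star_const_one (χ : IrrCharacter G) :
    star p M P e (fun _ => (1 : ℂ)) (χ : G → ℂ) = (χ : G → ℂ) := by
  funext g
  obtain ⟨u, s, hk, hs, hc, rfl⟩ := exists_decomp (p := p) g
  have hsC : s ∈ Subgroup.centralizer (Subgroup.zpowers u : Set G) := by
    refine Subgroup.mem_centralizer_iff.2 fun z hz => ?_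
    obtain ⟨n, rfl⟩ := Subgroup.mem_zpowers_iff.1 hz
    exact (hc.zpow_left n).eq
  have := Fintype.ofFinite {f : Set (IrrCharacter
    (Subgroup.centralizer (Subgroup.zpowers u : Set G))) // IsPBlock M f}
  have hs' : ¬ p ∣ orderOf (⟨s, hsC⟩ : Subgroup.centralizer (Subgroup.zpowers u : Set G)) := by
    rwa [Subgroup.orderOf_mk]
  have hw : ∀ a, wt p M P e (fun _ => (1 : ℂ)) u a = 1 := fun a => by
    rw [wt]
    split_ifs <;> rfl
  rw [show u * s = u * ((⟨s, hsC⟩ : Subgroup.centralizer (Subgroup.zpowers u : Set G)) : G) from rfl,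
    star_eq_sum_blockPart hM hF isStableChar_one χ hk hs']
  simp only [hw, one_mul]
  refine sum_blockPart (M := M) (θ := fun c : Subgroup.centralizer (Subgroup.zpowers u : Set G) =>
    (χ : G → ℂ) (u * (c : G))) (fun c d => ?_) _
  have hd : Commute u (d : G) := Subgroup.mem_centralizer_iff.1 d.2 u (Subgroup.mem_zpowers u)
  simp only [Subgroup.coe_mul, Subgroup.coe_inv]
  rw [show u * ((d : G) * c * (d : G)⁻¹) = (d : G) * (u * c) * (d : G)⁻¹ by
    simp only [← mul_assoc, hd.eq]]
  exact Char.IsIrr.isClassFunction χ.2 _ _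

variable {χ : IrrCharacter G} (hχ : χ ∈ B)
include hχ

/-- On the regular elements the product is the multiple by the degree. -/
theorem star_apply_regular {lam : G → ℂ} (hlam : IsStableChar F lam) {s : G} (hs : ¬ p ∣ orderOf s) :
    star p M P e lam (χ : G → ℂ) s = lam 1 * (χ : G → ℂ) s := by
  have hsC : s ∈ Subgroup.centralizer (Subgroup.zpowers (1 : G) : Set G) := by
    rw [Subgroup.zpowers_one_eq_bot, Subgroup.mem_centralizer_iff]
    intro x hx
    rw [SetLike.mem_coe, Subgroup.mem_bot] at hx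
    simp [hx]
  have := Fintype.ofFinite
    {f : Set (IrrCharacter (Subgroup.centralizer (Subgroup.zpowers (1 : G) : Set G))) // IsPBlock M f}
  have h1 : ∃ k : ℕ, orderOf (1 : G) = p ^ k := ⟨0, by simp⟩
  have hs' : ¬ p ∣ orderOf (⟨s, hsC⟩ : Subgroup.centralizer (Subgroup.zpowers (1 : G) : Set G)) := by
    rwa [Subgroup.orderOf_mk]
  have h := star_eq_sum_blockPart hM hF hlam χ h1 hs'
  rw [one_mul] at h
  have h2 : (χ : G → ℂ) s = ∑ f : {f : Set (IrrCharacter
      (Subgroup.centralizer (Subgroup.zpowers (1 : G) : Set G))) // IsPBlock M f},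
      blockPart f.1 (fun c : Subgroup.centralizer (Subgroup.zpowers (1 : G) : Set G) =>
        (χ : G → ℂ) (1 * (c : G))) ⟨s, hsC⟩ := by
    rw [sum_blockPart (M := M) (θ := fun c : Subgroup.centralizer (Subgroup.zpowers (1 : G) : Set G) =>
      (χ : G → ℂ) (1 * (c : G))) (fun c d => ?_) ⟨s, hsC⟩, one_mul]
    simp only [one_mul]
    exact Char.IsIrr.isClassFunction χ.2 (c : G) (d : G)
  rw [h, h2, Finset.mul_sum]
  refine Finset.sum_congr rfl fun f _ => ?_
  by_cases hf : IsBrauerPairOf p M B (Subgroup.zpowers (1 : G)) f.1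
  · obtain ⟨x, hx⟩ := exists_conj_le hM hF.1 hf
    rw [wt_eq hM hF hlam (a := ⟨Subgroup.zpowers (1 : G), f.1⟩) (Subgroup.mem_zpowers 1) hx, mul_one,
      mul_inv_cancel]
  · rw [part_eq_zero_of_not_pairOf hM h1 hF.1.1.2.1 hχ f.2 hf hs', mul_zero, mul_zero]

variable (hinn : ∀ Q : Subgroup G, F.Hom Q = (innerFusionSystem P).Hom Q)
include hinn

/-- The products by the characters of `P`, weighted by their degrees, sum to a multiple of the
regular part. -/
theorem sum_degree_star [Fintype (IrrCharacter P)] (g : G) :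
    ∑ η : IrrCharacter P, (η : P → ℂ) 1 * star p M P e (extP P (η : P → ℂ)) (χ : G → ℂ) g =
      (Nat.card P : ℂ) * regCut p (χ : G → ℂ) g := by
  obtain ⟨u, s, hk, hs, hc, rfl⟩ := exists_decomp (p := p) g
  have hsC : s ∈ Subgroup.centralizer (Subgroup.zpowers u : Set G) := by
    refine Subgroup.mem_centralizer_iff.2 fun z hz => ?_
    obtain ⟨n, rfl⟩ := Subgroup.mem_zpowers_iff.1 hz
    exact (hc.zpow_left n).eq
  by_cases hu1 : u = 1
  · subst hu1
    have hst : ∀ η : IrrCharacter P, star p M P e (extP P (η : P → ℂ)) (χ : G → ℂ) s =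
        (η : P → ℂ) 1 * (χ : G → ℂ) s := fun η => by
      rw [star_apply_regular hM hF hχ (isStableChar_extP hinn η) hs, ← Subgroup.coe_one P, extP_coe]
    rw [one_mul, regCut, if_neg hs]
    simp only [hst, ← mul_assoc, ← Finset.sum_mul]
    congr 1
    have := column_orthogonality (G := P) 1 1
    rw [if_pos (IsConj.refl _)] at this
    refine Eq.trans (Finset.sum_congr rfl fun η _ => ?_) (this.trans ?_)
    · rw [← IsIrr.map_inv η.2, inv_one]
    · congr 1
      rw [show Subgroup.centralizer ({(1 : P)} : Set P) = ⊤ by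
        ext; simp [Subgroup.mem_centralizer_singleton_iff], Subgroup.card_top]
  have hsing : p ∣ orderOf (u * s) := by
    refine (IsPPart.dvd_orderOf_iff hM.1 (⟨s, rfl, hc, hk, hs⟩ : IsPPart p (u * s) u)).2 hu1
  rw [regCut, if_pos hsing, mul_zero]
  have := Fintype.ofFinite {f : Set (IrrCharacter
    (Subgroup.centralizer (Subgroup.zpowers u : Set G))) // IsPBlock M f}
  have hs' : ¬ p ∣ orderOf (⟨s, hsC⟩ : Subgroup.centralizer (Subgroup.zpowers u : Set G)) := by
    rwa [Subgroup.orderOf_mk]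
  rw [show u * s = u * ((⟨s, hsC⟩ : Subgroup.centralizer (Subgroup.zpowers u : Set G)) : G) from rfl,
    Finset.sum_congr rfl fun η _ => by
      rw [star_eq_sum_blockPart hM hF (isStableChar_extP hinn η) χ hk hs', Finset.mul_sum],
    Finset.sum_comm]
  refine Finset.sum_eq_zero fun f _ => ?_
  by_cases hf : IsBrauerPairOf p M B (Subgroup.zpowers u) f.1
  · obtain ⟨x, hx⟩ := exists_conj_le hM hF.1 hf
    have hv : x * u * x⁻¹ ∈ P := le_of_subpairLE hx ⟨u, Subgroup.mem_zpowers u, rfl⟩
    simp only [wt_eq hM hF (isStableChar_extP hinn _) (a := ⟨Subgroup.zpowers u, f.1⟩)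
      (Subgroup.mem_zpowers u) hx]
    simp only [← mul_assoc, ← Finset.sum_mul]
    refine mul_eq_zero_of_left ?_ _
    have h := column_orthogonality (G := P) ⟨x * u * x⁻¹, hv⟩ 1
    rw [if_neg fun hconj => hu1 ?_] at h
    · refine Eq.trans (Finset.sum_congr rfl fun η _ => ?_) h
      rw [← IsIrr.map_inv η.2, inv_one, extP, dif_pos hv, mul_comm]
    · have hv1 := congrArg Subtype.val (isConj_one_left.1 hconj)
      have : x * u * x⁻¹ = 1 := hv1
      simpa using this
  · refine Finset.sum_eq_zero fun η _ => ?_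
    rw [part_eq_zero_of_not_pairOf hM hk hF.1.1.2.1 hχ f.2 hf hs', mul_zero, mul_zero]

variable (hnil : IsNilpotentBlock p M B) (hχ0 : blockHeight p B (χ : G → ℂ) = 0)
include hnil hχ0

/-- The inner products of the products are those of the characters of `P`. -/
theorem classInner_star_extP [Fintype P] (η η' : IrrCharacter P) :
    classInner (star p M P e (extP P (η : P → ℂ)) (χ : G → ℂ))
        (star p M P e (extP P (η' : P → ℂ)) (χ : G → ℂ)) =
      classInner (η : P → ℂ) (η' : P → ℂ) := by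
  have := Fintype.ofFinite (BrauerPairIdx G)
  have hex : ∀ v : P, ∃ f : Set (IrrCharacter (Subgroup.centralizer (Subgroup.zpowers (v : G) : Set G))),
      SubpairLE p M (Subgroup.zpowers (v : G)) f P e ∧ IsPBlock M f := fun v => by
    obtain ⟨f, ⟨hf, hle⟩, -⟩ := existsUnique_below hM hF.1.1.1 (Subgroup.zpowers_le.2 v.2)
    exact ⟨f, hle, hf⟩
  choose fb hfb hfbb using hex
  let b : P → BrauerPairIdx G := fun v => ⟨Subgroup.zpowers (v : G), fb v⟩
  have hk : ∀ v : P, ∃ k : ℕ, orderOf (v : G) = p ^ k := fun v => by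
    obtain ⟨k, hk⟩ := IsPGroup.iff_orderOf.1 hF.1.1.1.1 v
    exact ⟨k, by rw [Subgroup.orderOf_coe, hk]⟩
  have hpair : ∀ v : P, IsBrauerPairOf p M B (Subgroup.zpowers (v : G)) (fb v) := fun v =>
    (subpairLE_pairOf_iff hM (a := b v) (hfb v) B).1 hF.1.1
  have hCeq : ∀ v : P, Subgroup.centralizer (Subgroup.zpowers (v : G) : Set G) =
      Subgroup.centralizer ({(v : G)} : Set G) := fun v => by
    rw [Subgroup.zpowers_eq_closure, Subgroup.centralizer_closure]
  let R : P → ℂ := fun v =>
    (Nat.card (P ⊓ Subgroup.centralizer ({(v : G)} : Set G) : Subgroup G) : ℂ) /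
      (Nat.card (Subgroup.centralizer ({(v : G)} : Set G)) : ℂ) *
      partInner p (χ : G → ℂ) (χ : G → ℂ) v (b v)
  have hgen : ∀ (lam lam' : G → ℂ), IsStableChar F lam → IsStableChar F lam' →
      classInner (star p M P e lam (χ : G → ℂ)) (star p M P e lam' (χ : G → ℂ)) =
        (Nat.card P : ℂ)⁻¹ * ∑ v : P, lam v * conj (lam' v) * R v := by
    intro lam lam' hl hl'
    let Hs : G → BrauerPairIdx G → ℂ := fun u a => if u ∈ a.1 then
      wt p M P e lam u a * conj (wt p M P e lam' u a) * partInner p (χ : G → ℂ) (χ : G → ℂ) u a else 0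
    rw [classInner_star hM hF hl hl' hχ, Finset.sum_congr rfl (g := fun t => Hs t.1 t.2) fun t ht => by
      obtain ⟨-, h1, -⟩ := Finset.mem_filter.1 ht
      simp only [Hs]
      rw [if_pos (h1 ▸ Subgroup.mem_zpowers t.1)],
      sum_brauerElts hM hF Hs (fun x u a => ?_) hinn b (fun _ => rfl) hfb, ← mul_assoc,
      inv_mul_cancel₀ (Nat.cast_ne_zero.2 Nat.card_pos.ne'), one_mul]
    · congr 1
      refine Finset.sum_congr rfl fun v _ => ?_
      simp only [Hs, b, R, if_pos (Subgroup.mem_zpowers (v : G))]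
      rw [wt_eq hM hF hl (Subgroup.mem_zpowers (v : G)) (x := 1) (by rw [conjPair_one]; exact hfb v),
        wt_eq hM hF hl' (Subgroup.mem_zpowers (v : G)) (x := 1) (by rw [conjPair_one]; exact hfb v)]
      simp only [one_mul, inv_one, mul_one]
      ring
    · simp only [Hs]
      have hiff : x * u * x⁻¹ ∈ (conjPair x a).1 ↔ u ∈ a.1 := by
        show x * u * x⁻¹ ∈ a.1.map _ ↔ _
        rw [map_conj_eq]
        exact iff_of_eq (congrArg (· ∈ a.1) (by group))
      by_cases hu : u ∈ a.1
      · rw [if_pos hu, if_pos (hiff.2 hu), (isWeight_wt hM hF hl).conj x u a hu,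
          (isWeight_wt hM hF hl').conj x u a hu, partInner_conj]
      · rw [if_neg hu, if_neg fun h => hu (hiff.1 h)]
  -- every local value is one
  have hR : ∀ v, R v = 1 := by
    obtain ⟨ζ, hζ⟩ : ∃ ζ : ℂ, IsPrimitiveRoot ζ (Nat.card G) :=
      ⟨_, Complex.isPrimitiveRoot_exp _ Nat.card_pos.ne'⟩
    let c : P → ℚ := fun v =>
      (Nat.card (P ⊓ Subgroup.centralizer ({(v : G)} : Set G) : Subgroup G) : ℚ) /
        (Nat.card (Subgroup.centralizer ({(v : G)} : Set G)) : ℚ)
    let part : ∀ v : P, Subgroup.centralizer (Subgroup.zpowers (v : G) : Set G) → ℂ := fun v =>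
      blockPart (fb v) (fun w : Subgroup.centralizer (Subgroup.zpowers (v : G) : Set G) =>
        (χ : G → ℂ) ((v : G) * (w : G)))
    let κ : P → Type _ := fun v =>
      {y : Subgroup.centralizer (Subgroup.zpowers (v : G) : Set G) // ¬ p ∣ orderOf y}
    have hval : ∀ v : P, (c v : ℂ) * ∑ y : κ v, part v y.1 * conj (part v y.1) = R v := fun v => by
      have h1 : partInner p (χ : G → ℂ) (χ : G → ℂ) v (b v) =
          ∑ y : κ v, part v y.1 * conj (part v y.1) :=
        Finset.sum_subtype _ (fun y => by simp) _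
      simp only [R, c, h1]
      push_cast
      ring
    have hint : ∀ v, IsIntegral ℤ (R v) := fun v => by
      have hd := isDefectGroup_local hM hnil hF.1 (hfb v)
      have hcard : Nat.card (P ⊓ Subgroup.centralizer ({(v : G)} : Set G) : Subgroup G) =
          p ^ blockDefect p (fb v) := by
        rw [← IsDefectGroup.card_eq hM (hfbb v) hd, CfsgLib.Fusion.card_subgroupOf_eq inf_le_right,
          hCeq v]
      have h := isIntegral_partInner hM χ χ (hfbb v)
      simp only [R, b, hcard, hCeq v] at h ⊢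
      push_cast
      rw [div_mul_eq_mul_div, mul_div_assoc, div_eq_inv_mul]
      exact h
    have hne : ∀ v, R v ≠ 0 := fun v => by
      obtain ⟨y, hy, hy0⟩ := exists_part_ne_zero_height_zero hM (hk v) (hCeq v)
        (isInducedBlock_of_pairOf hM (hpair v)) hχ hχ0
      refine mul_ne_zero (div_ne_zero (Nat.cast_ne_zero.2 Nat.card_pos.ne')
        (Nat.cast_ne_zero.2 Nat.card_pos.ne')) ?_
      simp only [partInner, b, Complex.mul_conj, ← Complex.ofReal_sum, ne_eq, Complex.ofReal_eq_zero]
      intro h0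
      exact hy0 (Complex.normSq_eq_zero.1 ((Finset.sum_eq_zero_iff_of_nonneg
        fun z _ => Complex.normSq_nonneg _).1 h0 y (Finset.mem_filter.2 ⟨Finset.mem_univ _, hy⟩)))
    have hsum : ∑ v : P, R v = (Nat.card P : ℂ) := by
      have h := hgen _ _ (isStableChar_one (F := F)) (isStableChar_one (F := F))
      rw [star_const_one hM hF, classInner_irr_self] at h
      simp only [map_one, one_mul] at h
      rw [eq_comm, inv_mul_eq_iff_eq_mul₀ (Nat.cast_ne_zero.2 Nat.card_pos.ne'), mul_one] at h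
      exact h
    intro v
    rw [← hval]
    refine eq_one_of_sum_norms (κ := κ) Finset.univ c (fun v _ => ?_) (fun v y => part v y.1)
      Nat.card_pos.ne' hζ (fun v _ y => blockPart_mem_adjoin _ χ _ hζ _)
      (fun v _ => (hval v).symm ▸ hint v) (fun v _ => (hval v).symm ▸ hne v) ?_ v (Finset.mem_univ v)
    · exact div_nonneg (Nat.cast_nonneg _) (Nat.cast_nonneg _)
    · simp only [hval, hsum, Finset.card_univ, Nat.card_eq_fintype_card]
  rw [hgen _ _ (isStableChar_extP hinn η) (isStableChar_extP hinn η'), Cfsg.classInner]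
  congr 1
  refine Finset.sum_congr rfl fun v _ => ?_
  rw [hR, mul_one, extP_coe, extP_coe]

omit hnil hχ0 in
theorem star_extP_one (η : IrrCharacter P) :
    star p M P e (extP P (η : P → ℂ)) (χ : G → ℂ) 1 = (η : P → ℂ) 1 * (χ : G → ℂ) 1 := by
  rw [star_apply_regular hM hF hχ (isStableChar_extP hinn η) (by simpa using hM.1.ne_one),
    ← Subgroup.coe_one P, extP_coe, Subgroup.coe_one]

theorem star_extP_isIrr (η : IrrCharacter P) :
    IsIrrCharacter G (star p M P e (extP P (η : P → ℂ)) (χ : G → ℂ)) := by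
  refine IsGen.isIrr_of_norm_one (star_isGen hM hF (isStableChar_extP hinn η) χ) ?_ ?_
  · have := Fintype.ofFinite P
    rw [classInner_star_extP hM hF hχ hinn hnil hχ0, classInner_irr_self]
  · rw [star_extP_one hM hF hχ hinn]
    obtain ⟨n, hn0, hn⟩ := IsIrr.exists_degree χ.2
    obtain ⟨m, hm0, hm⟩ := IsIrr.exists_degree η.2
    rw [hn, hm, ← Nat.cast_mul, Complex.natCast_re]
    exact_mod_cast Nat.mul_pos hm0 hn0

/-- **Broué–Puig**: the characters of a nilpotent block are the products with the characters of the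
defect group. -/
theorem exists_equiv_of_nilpotent :
    ∃ Φ : IrrCharacter P ≃ B, ∀ η, (((Φ η : B) : IrrCharacter G) : G → ℂ) =
      star p M P e (extP P (η : P → ℂ)) (χ : G → ℂ) := by
  have := Fintype.ofFinite P
  have := Fintype.ofFinite (IrrCharacter P)
  have hB := hF.1.1.2.1
  let S : IrrCharacter P → IrrCharacter G := fun η => ⟨_, star_extP_isIrr hM hF hχ hinn hnil hχ0 η⟩
  have hmem : ∀ η, S η ∈ B := fun η => by
    rw [IsPBlock.eq_blockOf hB hχ]
    show SameBlock M (χ : G → ℂ) (S η : G → ℂ)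
    by_contra hs
    have h0 := sum_regular_eq_zero hM (χ := S η) (ψ := χ) fun h => hs (SameBlock.symm' h)
    have h1 : (η : P → ℂ) 1 * ∑ x ∈ Finset.univ.filter (fun x : G => ¬ p ∣ orderOf x),
        ((Complex.normSq ((χ : G → ℂ) x) : ℝ) : ℂ) = 0 := by
      rw [← h0, Finset.mul_sum]
      refine Finset.sum_congr rfl fun x hx => ?_
      show _ = star p M P e (extP P (η : P → ℂ)) (χ : G → ℂ) x * (χ : G → ℂ) x⁻¹
      rw [star_apply_regular hM hF hχ (isStableChar_extP hinn η) (Finset.mem_filter.1 hx).2,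
        ← Subgroup.coe_one P, extP_coe, IsIrr.map_inv χ.2, mul_assoc, Complex.mul_conj]
    rw [mul_eq_zero, or_iff_right (IsIrr.apply_one_ne_zero η.2), ← Complex.ofReal_sum,
      Complex.ofReal_eq_zero] at h1
    have h2 := (Finset.sum_eq_zero_iff_of_nonneg fun x _ => Complex.normSq_nonneg _).1 h1 1
      (Finset.mem_filter.2 ⟨Finset.mem_univ _, by simpa using hM.1.ne_one⟩)
    exact IsIrr.apply_one_ne_zero χ.2 (Complex.normSq_eq_zero.1 h2)
  have hinj : Function.Injective fun η => (⟨S η, hmem η⟩ : B) := by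
    intro η η' h
    by_contra hne
    have h1 := congrArg (fun ψ : B => ((ψ : IrrCharacter G) : G → ℂ)) h
    have h2 := classInner_star_extP hM hF hχ hinn hnil hχ0 η η'
    simp only [S] at h1
    rw [h1, classInner_irr_self ⟨_, star_extP_isIrr hM hF hχ hinn hnil hχ0 η'⟩,
      classInner_irr_of_ne hne] at h2
    exact one_ne_zero h2
  have hsurj : Function.Surjective fun η => (⟨S η, hmem η⟩ : B) := by
    rintro ⟨ψ, hψ⟩
    by_contra hcon
    push Not at hcon
    have hortho : ∀ η : IrrCharacter P, classInner (star p M P e (extP P (η : P → ℂ)) (χ : G → ℂ)) (ψ : G → ℂ) = 0 :=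
      fun η => classInner_irr_of_ne (χ := S η) fun h => hcon η (Subtype.ext h)
    have h1 : classInner (fun g => (Nat.card P : ℂ) * regCut p (χ : G → ℂ) g) (ψ : G → ℂ) = 0 := by
      rw [show (fun g => (Nat.card P : ℂ) * regCut p (χ : G → ℂ) g) =
        ∑ η : IrrCharacter P, (η : P → ℂ) 1 • star p M P e (extP P (η : P → ℂ)) (χ : G → ℂ) from
        funext fun g => by
          rw [Finset.sum_apply, ← sum_degree_star hM hF hχ hinn g]
          rfl, classInner_sum_left]
      exact Finset.sum_eq_zero fun η _ => by rw [classInner_smul_left, hortho, mul_zero]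
    rw [CfsgLib.CharAction.classInner_const_mul, mul_eq_zero,
      or_iff_right (Nat.cast_ne_zero.2 Nat.card_pos.ne')] at h1
    have h2 : CfsgLib.CharAction.regNum p (χ : G → ℂ) (ψ : G → ℂ) = 0 := by
      have := CfsgLib.CharAction.regNum_eq (p := p) χ ψ
      rw [h1, mul_zero] at this
      exact_mod_cast this.symm
    have h3 := (CfsgLib.CharAction.not_pow_succ_dvd_regNum_iff hM hB hχ hψ).2 hχ0
    rw [h2] at h3
    exact h3 (dvd_zero _)
  exact ⟨Equiv.ofBijective _ ⟨hinj, hsurj⟩, fun η => rfl⟩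

end CfsgLib.Star

namespace CfsgLib.Star

open Cfsg CfsgLib.Blocks CfsgLib.Pairs CfsgLib.Char

variable {G : Type*} [Group G] [Fintype G] {M : Ideal AlgInt} [M.IsPrime] {p : ℕ} [Fact p.Prime]
  {B : Set (IrrCharacter G)}

/-- Every defect group of a nilpotent block carries a parametrization of the block. -/
theorem exists_param_of_nilpotent (hM : IsPModular p M) (hnil : IsNilpotentBlock p M B)
    {P : Subgroup G} (hP : IsDefectGroup p M B P) :
    ∃ χ ∈ B, ∃ Φ : IrrCharacter P ≃ B, blockHeight p B (χ : G → ℂ) = 0 ∧ ∀ η : IrrCharacter P,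
      ∀ x : G, ¬ p ∣ orderOf x → (((Φ η : B) : IrrCharacter G) : G → ℂ) x =
        (η : P → ℂ) 1 * (χ : G → ℂ) x := by
  have hB := hnil.1
  obtain ⟨e, he⟩ := exists_pairOf_of_isDefectGroup hM hB hP
  obtain ⟨R, g, hR, hle⟩ := exists_maximal_above he
  obtain rfl : P = R := Subgroup.eq_of_le_of_card_ge (le_of_subpairLE hle) (le_of_eq (by
    rw [IsDefectGroup.card_eq hM hB (isDefectGroup_of_maximal hM hR),
      IsDefectGroup.card_eq hM hB hP]))
  have hF := isBlockFusionSystemOn_blockFusion hM hR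
  have hinn := (nilpotent_iff_inner hF hM).1 hnil
  obtain ⟨χ, hχ, hχ0⟩ := exists_height_zero (p := p) (IsPBlock.nonempty hB)
  obtain ⟨Φ, hΦ⟩ := exists_equiv_of_nilpotent hM hF hχ hinn hnil hχ0
  refine ⟨χ, hχ, Φ, hχ0, fun η x hx => ?_⟩
  rw [hΦ, star_apply_regular hM hF hχ (isStableChar_extP hinn η) hx, ← Subgroup.coe_one P, extP_coe]

end CfsgLib.Star
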