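import Cfsg.Agent.Lib.Blocks.Star.Compose
import Cfsg.Agent.Lib.Blocks.SubsectionHeight
import Cfsg.Agent.Lib.Pairs.Sylow
import Cfsg.Agent.S4428

/-!
# The stabilizer of a character under the product
-/

namespace CfsgLib.Star

open Cfsg CfsgLib.Blocks CfsgLib.Pairs MonoidAlgebra CfsgLib.Char
open scoped ComplexConjugate Classical

variable {G : Type*} [Group G] [Fintype G] {M : Ideal AlgInt} [M.IsPrime] {p : ℕ} [Fact p.Prime]
variable (hM : IsPModular p M) {B : Set (IrrCharacter G)}
include hM

/-- The block of a Brauer element induces the block of the pair. -/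
theorem isInducedBlock_of_pairOf {u : G}
    {f : Set (IrrCharacter (Subgroup.centralizer (Subgroup.zpowers u : Set G)))}
    (hBe : IsBrauerPairOf p M B (Subgroup.zpowers u) f) :
    IsInducedBlock M (Subgroup.centralizer (Subgroup.zpowers u : Set G)) f B := by
  obtain ⟨⟨hP, he⟩, hB, hval⟩ := isBrauerPairOf_iff.1 hBe
  have hle : Subgroup.zpowers u ≤ Subgroup.centralizer (Subgroup.zpowers u : Set G) := by
    intro z hz
    refine Subgroup.mem_centralizer_iff.2 fun y hy => ?_
    obtain ⟨n, rfl⟩ := Subgroup.mem_zpowers_iff.1 hz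
    obtain ⟨m, rfl⟩ := Subgroup.mem_zpowers_iff.1 hy
    exact (Commute.zpow_zpow_self u m n).eq
  obtain ⟨B₂, hind⟩ := exists_isInducedBlock hM hP hle le_rfl (centralizer_le_normalizer' _) he
  obtain ⟨ξ, hξ⟩ := IsPBlock.nonempty he
  obtain ⟨-, hB₂, hall⟩ := isInducedBlock_iff.1 hind
  obtain ⟨χ₂, hχ₂⟩ := IsPBlock.nonempty hB₂
  have h1 := hall ξ hξ χ₂ hχ₂ _ (isCentralElt_blockIdemBar hB)
  have h2 := hval ξ hξ
  unfold CfsgLib.Pairs.pairVal CfsgLib.Pairs.resC at h2
  have h3 : omegaBar ξ (resElt (Subgroup.centralizer (Subgroup.zpowers u : Set G))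
      (blockIdemBar M B)) = 1 := by
    convert h2
  rw [omegaBar_blockIdemBar hB] at h1
  replace h1 := h3.symm.trans (by convert h1)
  have hBB : B₂ = B := IsPBlock.eq_of_mem hB₂ hB hχ₂ (by
    by_contra hn
    rw [if_neg hn] at h1
    exact one_ne_zero h1)
  exact hBB ▸ hind

theorem exists_part_ne_zero_height_zero {u : G} (hu : ∃ k : ℕ, orderOf u = p ^ k) {H : Subgroup G}
    (hH : H = Subgroup.centralizer ({u} : Set G)) {f : Set (IrrCharacter H)}
    (hind : IsInducedBlock M H f B) {χ : IrrCharacter G} (hχ : χ ∈ B)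
    (h0 : blockHeight p B (χ : G → ℂ) = 0) :
    ∃ y : H, ¬ p ∣ orderOf y ∧ blockPart f (fun c : H => (χ : G → ℂ) (u * (c : G))) y ≠ 0 := by
  subst hH
  exact Cfsg.Agent.S4428.result p M hM B (isInducedBlock_iff.1 hind).2.1 χ hχ h0 u hu f hind

theorem exists_part_ne_zero_major {u : G} (hu : ∃ k : ℕ, orderOf u = p ^ k) {H : Subgroup G}
    (hH : H = Subgroup.centralizer ({u} : Set G)) {f : Set (IrrCharacter H)}
    (hind : IsInducedBlock M H f B) (hd : blockDefect p f = blockDefect p B)
    {χ : IrrCharacter G} (hχ : χ ∈ B) :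
    ∃ y : H, ¬ p ∣ orderOf y ∧ blockPart f (fun c : H => (χ : G → ℂ) (u * (c : G))) y ≠ 0 := by
  subst hH
  have h := contribution_self_ne_zero hM hu hind hχ hd
  rw [contribution] at h
  obtain ⟨w, hw, hne⟩ := Finset.exists_ne_zero_of_sum_ne_zero (right_ne_zero_of_mul h)
  exact ⟨w, (Finset.mem_filter.1 hw).2, left_ne_zero_of_mul hne⟩

variable {P : Subgroup G} {e : Set (IrrCharacter (Subgroup.centralizer (P : Set G)))}

/-- The block at a central element of the defect group has full defect. -/
theorem blockDefect_eq_of_central (hmax : IsMaximalBrauerPair p M B P e) {u : G}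
    (hc : u ∈ Subgroup.centralizer (P : Set G))
    {f : Set (IrrCharacter (Subgroup.centralizer (Subgroup.zpowers u : Set G)))}
    (hle : SubpairLE p M (Subgroup.zpowers u) f P e) :
    blockDefect p f = blockDefect p B := by
  have hPC : P ≤ Subgroup.centralizer (Subgroup.zpowers u : Set G) := by
    intro x hx
    refine Subgroup.mem_centralizer_iff.2 fun z hz => ?_
    obtain ⟨n, rfl⟩ := Subgroup.mem_zpowers_iff.1 hz
    exact ((show Commute u x from (Subgroup.mem_centralizer_iff.1 hc x hx).symm).zpow_left n).eq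
  have hfB := (subpairLE_pairOf_iff hM (a := ⟨Subgroup.zpowers u, f⟩) hle B).1 hmax.1
  have hind := isInducedBlock_of_pairOf hM hfB
  have hB := hmax.1.2.1
  have hco : ∀ k : Subgroup.centralizer (Subgroup.zpowers u : Set G), blockCoeff f k =
      subgroupBlockCoeff (Subgroup.centralizer (Subgroup.zpowers u : Set G)) f (k : G) := fun k => by
    unfold subgroupBlockCoeff
    rw [dif_pos k.2]
  have hbr := brv_centralizerIn hM hmax.1.1 hle
  rw [inf_eq_left.2 hPC] at hbr
  obtain ⟨D, hD, hPD⟩ := exists_defectGroup_ge hM hfB.1.2 le_rfl hfB.1.2 hco hPC hmax.1.1.1 hbr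
  obtain ⟨E, hE, hDE⟩ := IsInducedBlock.defectGroup_le hM hind hD
  have hP := isDefectGroup_of_maximal hM hmax
  have h1 : Nat.card D = p ^ blockDefect p f := IsDefectGroup.card_eq hM hfB.1.2 hD
  have h2 : Nat.card P = p ^ blockDefect p B := IsDefectGroup.card_eq hM hB hP
  have h3 : Nat.card E = p ^ blockDefect p B := IsDefectGroup.card_eq hM hB hE
  have h4 : Nat.card P ≤ Nat.card D := by
    rw [← CfsgLib.Fusion.card_subgroupOf_eq hPC]
    exact Nat.le_of_dvd Nat.card_pos (Subgroup.card_dvd_of_le hPD)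
  have h5 : Nat.card D ≤ Nat.card E := by
    rw [← Subgroup.card_map_of_injective (K := D)
      (f := (Subgroup.centralizer (Subgroup.zpowers u : Set G)).subtype)
      (Subgroup.subtype_injective _)]
    exact Nat.le_of_dvd Nat.card_pos (Subgroup.card_dvd_of_le hDE)
  refine Nat.pow_right_injective (Fact.out : p.Prime).two_le (le_antisymm ?_ ?_)
  · show p ^ blockDefect p f ≤ p ^ blockDefect p B
    omega
  · show p ^ blockDefect p B ≤ p ^ blockDefect p f
    omega

variable {F : FusionSystem P} (hF : IsBlockFusionSystemOn p M B P e F) {lam : G → ℂ}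
  (hlam : IsFocalChar F lam)
include hF hlam

/-- If the product fixes `χ`, then `lam` is trivial where some part of `χ` does not vanish. -/
theorem lam_eq_one_of_fixed {χ : IrrCharacter G} (hfix : star p M P e lam (χ : G → ℂ) = (χ : G → ℂ))
    {u : G} (hk : ∃ k : ℕ, orderOf u = p ^ k)
    {f : Set (IrrCharacter (Subgroup.centralizer (Subgroup.zpowers u : Set G)))} (hf : IsPBlock M f)
    (hle : SubpairLE p M (Subgroup.zpowers u) f P e)
    (hne : ∃ y : Subgroup.centralizer (Subgroup.zpowers u : Set G), ¬ p ∣ orderOf y ∧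
      blockPart f (fun c : Subgroup.centralizer (Subgroup.zpowers u : Set G) =>
        (χ : G → ℂ) (u * (c : G))) y ≠ 0) : lam u = 1 := by
  obtain ⟨y, hy, hne⟩ := hne
  have := Fintype.ofFinite {f : Set (IrrCharacter (Subgroup.centralizer (Subgroup.zpowers u : Set G))) // IsPBlock M f}
  have h := blockPart_congr_regular hM hf (φ := fun c : Subgroup.centralizer (Subgroup.zpowers u : Set G) => (χ : G → ℂ) (u * (c : G)))
    (φ' := ∑ f' : {f : Set (IrrCharacter (Subgroup.centralizer (Subgroup.zpowers u : Set G))) // IsPBlock M f},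
      wt p M P e lam u ⟨Subgroup.zpowers u, f'.1⟩ •
        blockPart f'.1 (fun c : Subgroup.centralizer (Subgroup.zpowers u : Set G) => (χ : G → ℂ) (u * (c : G)))) (fun w hw => by
      simp only [Finset.sum_apply, Pi.smul_apply, smul_eq_mul]
      rw [← star_eq_sum_blockPart hM hF hlam.isStableChar χ hk hw, hfix]) hy
  rw [blockPart_sum (f := ⟨f, hf⟩), wt_eq hM hF hlam.isStableChar (a := ⟨Subgroup.zpowers u, f⟩)
    (Subgroup.mem_zpowers u) (x := 1) (by rw [conjPair_one]; exact hle)] at h
  simp only [one_mul, inv_one, mul_one] at h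
  exact (mul_eq_right₀ hne).1 h.symm

end CfsgLib.Star
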