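import Cfsg.Agent.Lib.Blocks.Vanishing
import Cfsg.Agent.Lib.Pairs.Basic
import Mathlib.RingTheory.IntegralClosure.IsIntegralClosure.Basic
import Mathlib.FieldTheory.IsAlgClosed.Basic
import Mathlib.RingTheory.Coprime.Lemmas
import Mathlib.Analysis.Complex.Polynomial.Basic
import Mathlib.LinearAlgebra.FreeModule.Finite.Basic

/-!
# Idempotents of fixed-point algebras over the local ring and their twisted traces

For `g` with `p`-part `u`, the value `∑ w, q w * χ (w * g)` at an idempotent `q` fixed by `g` only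
depends on the Brauer image at `u` of the reduction of `q`.
-/

namespace CfsgLib.Star

open Cfsg CfsgLib.Blocks CfsgLib.Pairs MonoidAlgebra

variable {G : Type*} [Group G]

section Fix

variable [Fintype G] (R : Type*) [CommSemiring R] (H : Subgroup G)

/-- The subalgebra of elements fixed under conjugation by `H`. -/
noncomputable def fixAlg : Subalgebra R (MonoidAlgebra R G) where
  carrier := {a | InvUnder H a}
  mul_mem' ha hb := InvUnder.mul ha hb
  one_mem' := InvUnder.of_isCentralElt H IsCentralElt.one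
  add_mem' := fun {a b} ha hb u hu x => by simp [ha u hu x, hb u hu x]
  zero_mem' := InvUnder.of_isCentralElt H IsCentralElt.zero
  algebraMap_mem' r := by
    rw [Algebra.algebraMap_eq_smul_one]
    exact InvUnder.of_isCentralElt H (IsCentralElt.one.smul r)

variable {R H}

theorem mem_fixAlg {a : MonoidAlgebra R G} : a ∈ fixAlg R H ↔ InvUnder H a := Iff.rfl

omit [Fintype G] in
/-- Invariance under two subgroups is invariance under their join. -/
theorem invUnder_sup {U S : Subgroup G} {R : Type*} [Semiring R] {a : MonoidAlgebra R G}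
    (hU : InvUnder U a) (hS : InvUnder S a) : InvUnder (U ⊔ S) a := by
  let K : Subgroup G :=
    { carrier := {u | ∀ x, a.coeff (u * x * u⁻¹) = a.coeff x}
      one_mem' := fun x => by simp
      mul_mem' := fun {u v} hu hv x => by
        rw [← hv x, ← hu (v * x * v⁻¹)]
        congr 1
        group
      inv_mem' := fun {u} hu x => by
        conv_rhs => rw [show x = u * (u⁻¹ * x * u) * u⁻¹ by group, hu]
        congr 1
        group }
  exact fun u hu => (sup_le (fun u hu => hU u hu) (fun u hu => hS u hu) : U ⊔ S ≤ K) hu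

theorem invUnder_aeval {R : Type*} [CommSemiring R] {H : Subgroup G} {z : MonoidAlgebra R G}
    (hz : InvUnder H z) (P : Polynomial R) : InvUnder H (Polynomial.aeval z P) := by
  have h := (Polynomial.aeval (⟨z, hz⟩ : fixAlg R H) P).2
  rwa [Polynomial.aeval_subalgebra_coe] at h

end Fix

variable {M : Ideal AlgInt} [M.IsPrime]

open Polynomial in
theorem isAlgClosed_res : IsAlgClosed (Res M) := by
  refine IsAlgClosed.of_exists_root _ fun q hq hirr => ?_
  obtain ⟨Q, hQ, hdeg, hQm⟩ := Polynomial.lifts_and_natDegree_eq_and_monic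
    (Polynomial.map_surjective (resHom M) IsLocalRing.residue_surjective q) hq
  have hd : (Q.map (localRing M).subtype).degree ≠ 0 := by
    rw [hQm.degree_map, Polynomial.degree_eq_natDegree hQm.ne_zero]
    intro h0
    have := hirr.natDegree_pos
    rw [← hdeg] at this
    norm_cast at h0
    omega
  obtain ⟨z, hz⟩ := IsAlgClosed.exists_root _ hd
  rw [Polynomial.IsRoot, Polynomial.eval_map] at hz
  have hzO : z ∈ localRing M := mem_localRing_of_isIntegral_localRing ⟨Q, hQm, hz⟩
  refine ⟨resHom M ⟨z, hzO⟩, ?_⟩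
  show q.eval (resHom M ⟨z, hzO⟩) = 0
  rw [← hQ, Polynomial.eval_map, Polynomial.eval₂_at_apply]
  have : Q.eval (⟨z, hzO⟩ : localRing M) = 0 := Subtype.ext (by
    rw [ZeroMemClass.coe_zero, ← hz]
    exact (Polynomial.hom_eval₂ Q (RingHom.id _) (localRing M).subtype ⟨z, hzO⟩))
  rw [this, map_zero]

variable [Fintype G]

open Polynomial in
omit [Fintype G] [M.IsPrime] in
/-- The idempotent polynomial of a split polynomial over a local ring. -/
theorem exists_idem_split {O : Type*} [CommRing O] [IsLocalRing O] (R0 : Multiset O) :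
    ∃ P c T1 T2 : O[X], P * P - P = X * (R0.map fun r => X - C r).prod * T1 ∧
      c * X * P - P = X * (R0.map fun r => X - C r).prod * T2 ∧ P.coeff 0 = 0 ∧
      (((X * (R0.map fun r => X - C r).prod).map (IsLocalRing.residue O)).eval 1 = 0 →
        (P.map (IsLocalRing.residue O)).eval 1 = 1) := by
  classical
  set res := IsLocalRing.residue O
  set R1 := R0.filter fun r => res r ≠ 0
  set R2 := R0.filter fun r => res r = 0
  set f1 := (R1.map fun r => X - C r).prod
  set h2 := (R2.map fun r => X - C r).prod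
  have hsub : ∀ a b : O, res a ≠ res b → IsCoprime (X - C a) (X - C b) := by
    intro a b hab
    refine isCoprime_X_sub_C_of_isUnit_sub ?_
    by_contra hu
    exact hab (sub_eq_zero.1 (by
      rw [← map_sub]
      exact (IsLocalRing.residue_eq_zero_iff _).2 hu))
  have hsub' : ∀ (a : O) (R : Multiset O), (∀ b ∈ R, res a ≠ res b) →
      IsCoprime (X - C a) (R.map fun r => X - C r).prod := by
    intro a R
    induction R using Multiset.induction with
    | empty => intro _; simpa using isCoprime_one_right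
    | cons b R ih =>
      intro h
      rw [Multiset.map_cons, Multiset.prod_cons]
      exact IsCoprime.mul_right (hsub a b (h b (Multiset.mem_cons_self b R)))
        (ih fun c hc => h c (Multiset.mem_cons_of_mem hc))
  have hX : IsCoprime (X : O[X]) f1 := by
    rw [show (X : O[X]) = X - C 0 by simp]
    exact hsub' 0 R1 fun b hb => by
      rw [map_zero]
      exact Ne.symm (Multiset.mem_filter.1 hb).2
  have hh2 : ∀ R : Multiset O, (∀ a ∈ R, res a = 0) → IsCoprime (R.map fun r => X - C r).prod f1 := by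
    intro R
    induction R using Multiset.induction with
    | empty => intro _; simpa using isCoprime_one_left
    | cons b R ih =>
      intro h
      rw [Multiset.map_cons, Multiset.prod_cons]
      refine IsCoprime.mul_left (hsub' b R1 fun c hc => ?_)
        (ih fun c hc => h c (Multiset.mem_cons_of_mem hc))
      rw [h b (Multiset.mem_cons_self b R)]
      exact Ne.symm (Multiset.mem_filter.1 hc).2
  have hcop : IsCoprime (X * h2) f1 :=
    IsCoprime.mul_left hX (hh2 R2 fun a ha => (Multiset.mem_filter.1 ha).2)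
  obtain ⟨a, b, hab⟩ := hcop
  obtain ⟨c, d, hcd⟩ := hX
  have hprod : (R0.map fun r => X - C r).prod = h2 * f1 := by
    rw [← Multiset.prod_add, ← Multiset.map_add, Multiset.filter_add_not]
  refine ⟨a * (X * h2), c, -(a * b), -(d * a), ?_, ?_, by simp [mul_coeff_zero], fun h1 => ?_⟩
  · rw [hprod]; linear_combination (a * (X * h2)) * hab
  · rw [hprod]; linear_combination (a * (X * h2)) * hcd
  · have he : (h2.map res).eval 1 = 1 := by
      rw [Polynomial.map_multiset_prod, eval_multiset_prod, Multiset.map_map, Multiset.map_map]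
      refine Multiset.prod_eq_one fun q hq => ?_
      obtain ⟨r, hr, rfl⟩ := Multiset.mem_map.1 hq
      simp [(Multiset.mem_filter.1 hr).2]
    rw [hprod] at h1
    simp only [Polynomial.map_mul, map_X, eval_mul, eval_X, he, one_mul] at h1
    have := congrArg (fun q => (q.map res).eval 1) hab
    simpa [he, h1] using this

open Polynomial in
/-- An idempotent polynomial in `z`, on which `z` is invertible. -/
theorem exists_idem_poly (z : MonoidAlgebra (localRing M) G) :
    ∃ (f P c : (localRing M)[X]), aeval z f = 0 ∧ aeval z P * aeval z P = aeval z P ∧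
      aeval z c * z * aeval z P = aeval z P ∧ P.coeff 0 = 0 ∧
      ((f.map (resHom M)).eval 1 = 0 → (P.map (resHom M)).eval 1 = 1) := by
  classical
  obtain ⟨f, hfm, hf0⟩ := IsIntegral.of_finite (localRing M) z
  set fC := f.map (localRing M).subtype with hfC
  have hroots : ∀ r ∈ fC.roots, r ∈ localRing M := fun r hr => by
    refine mem_localRing_of_isIntegral_localRing ⟨f, hfm, ?_⟩
    have := (mem_roots'.1 hr).2
    rwa [IsRoot, eval_map] at this
  set R0 : Multiset (localRing M) := fC.roots.attach.map fun r => ⟨r.1, hroots r.1 r.2⟩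
  have hf : f = (R0.map fun r => X - C r).prod := by
    refine map_injective (localRing M).subtype Subtype.val_injective ?_
    rw [Polynomial.map_multiset_prod, Multiset.map_map, Multiset.map_map]
    refine ((IsAlgClosed.splits fC).eq_prod_roots_of_monic (hfm.map _)).trans ?_
    conv_lhs => rw [← Multiset.attach_map_val fC.roots, Multiset.map_map]
    exact congrArg Multiset.prod (Multiset.map_congr rfl fun r _ => by simp)
  obtain ⟨P, c, T1, T2, h1, h2, h0, he⟩ := exists_idem_split R0
  rw [← hf] at h1 h2 he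
  have hg : aeval z (X * f) = 0 := by rw [map_mul, aeval_def (p := f), hf0, mul_zero]
  have e1 := congrArg (aeval z) h1
  have e2 := congrArg (aeval z) h2
  simp only [map_sub, map_mul, aeval_X] at e1 e2
  rw [aeval_def (p := f), hf0, mul_zero, zero_mul, sub_eq_zero] at e1 e2
  exact ⟨X * f, P, c, hg, e1, e2, h0, he⟩

omit [Fintype G] in
open Polynomial in
theorem red_aeval (z : MonoidAlgebra (localRing M) G) (P : (localRing M)[X]) :
    red M (aeval z P) = aeval (red M z) (P.map (resHom M)) := by
  induction P using Polynomial.induction_on' with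
  | add p q hp hq => rw [map_add, map_add, hp, hq, Polynomial.map_add, map_add]
  | monomial n c =>
    rw [Polynomial.map_monomial, aeval_monomial, aeval_monomial, map_mul, map_pow]
    congr 1
    classical
    refine MonoidAlgebra.ext (Finsupp.ext fun g => ?_)
    simp [coeff_single, Finsupp.single_apply, apply_ite (resHom M)]

open Polynomial in
/-- A polynomial without constant term at an idempotent. -/
theorem aeval_idem {k A : Type*} [CommRing k] [Ring A] [Algebra k A] {y : A} (hy : y * y = y)
    {P : k[X]} (h0 : P.coeff 0 = 0) : aeval y P = P.eval 1 • y := by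
  rw [aeval_eq_sum_range, eval_eq_sum_range, Finset.sum_smul]
  refine Finset.sum_congr rfl fun n _ => ?_
  rcases n with _ | n
  · simp [h0]
  · rw [one_pow, mul_one, IsIdempotentElem.pow_succ_eq n hy]

/-! ### Algebra -/

section Ring

variable {A : Type*} [Ring A]

theorem idem_pair_identities {q q' : A} (hq : q * q = q) (hq' : q' * q' = q') :
    (q * q' + (1 - q) * (1 - q')) * (q' * q + (1 - q') * (1 - q)) = 1 - (q - q') * (q - q') ∧
    (q' * q + (1 - q') * (1 - q)) * (q * q' + (1 - q) * (1 - q')) = 1 - (q - q') * (q - q') ∧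
    q * (q * q' + (1 - q) * (1 - q')) = (q * q' + (1 - q) * (1 - q')) * q' ∧
    Commute (1 - (q - q') * (q - q')) q ∧ Commute (1 - (q - q') * (q - q')) q' := by
  have h1 : ∀ X, q * (q * X) = q * X := fun X => by rw [← mul_assoc, hq]
  have h2 : ∀ X, q' * (q' * X) = q' * X := fun X => by rw [← mul_assoc, hq']
  refine ⟨?_, ?_, ?_, ?_, ?_⟩ <;>
    simp only [Commute, SemiconjBy, mul_sub, sub_mul, mul_add, add_mul, one_mul, mul_one, mul_assoc,
      hq, hq', h1, h2] <;>
    abel

theorem cut_conj {z c r x x' q q' : A} (hr : r * r = r) (hc : c * z * r = r) (hzc : Commute z c)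
    (hxx' : x * x' = z) (hx'x : x' * x = z) (hqx : q * x = x * q') (hrx : Commute r x)
    (hrx' : Commute r x') (hcx : Commute c x) (hrq' : Commute r q') :
    (x * r + (1 - r)) * (q' * r * (x' * c * r + (1 - r))) = q * r ∧
      (x' * c * r + (1 - r)) * (x * r + (1 - r)) = 1 := by
  have hzcr : z * (c * r) = r := by rw [← mul_assoc, hzc.eq, hc]
  have hr' : ∀ X, r * (r * X) = r * X := fun X => by rw [← mul_assoc, hr]
  have h0 : r * (1 - r) = 0 := by rw [mul_sub, mul_one, hr, sub_self]
  have h0' : (1 - r) * r = 0 := by rw [sub_mul, one_mul, hr, sub_self]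
  constructor
  · have e1 : (1 - r) * (q' * r) = 0 := by rw [← hrq'.eq, ← mul_assoc, h0', zero_mul]
    have e2 : q' * r * (x' * c * r + (1 - r)) = q' * r * (x' * c * r) := by
      rw [mul_add, mul_assoc q' r (1 - r), h0, mul_zero, add_zero]
    rw [e2, add_mul, ← mul_assoc (1 - r), e1, zero_mul, add_zero]
    calc x * r * (q' * r * (x' * c * r)) = x * (r * q') * (r * x') * (c * r) := by
          simp only [mul_assoc]
      _ = x * (q' * r) * (r * x') * (c * r) := by rw [hrq'.eq]
      _ = x * q' * (r * x') * (c * r) := by simp only [mul_assoc, hr']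
      _ = q * x * (x' * r) * (c * r) := by rw [hqx, hrx'.eq]
      _ = q * z * r * (c * r) := by rw [← hxx']; simp only [mul_assoc]
      _ = q * r := by
        have : z * r = r * z := by rw [← hxx', mul_assoc, ← hrx'.eq, ← mul_assoc, ← hrx.eq, mul_assoc]
        rw [mul_assoc q z r, this, mul_assoc q, mul_assoc r, hzcr, hr]
  · have e1 : (1 - r) * (x * r) = 0 := by rw [← hrx.eq, ← mul_assoc, h0', zero_mul]
    have e2 : x' * c * r * (1 - r) = 0 := by rw [mul_assoc, h0, mul_zero]
    have e3 : x' * c * r * (x * r) = r := by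
      calc x' * c * r * (x * r) = x' * c * (r * x) * r := by simp only [mul_assoc]
        _ = x' * (c * x) * (r * r) := by rw [hrx.eq]; simp only [mul_assoc]
        _ = z * (c * r) := by rw [hcx.eq, hr, ← hx'x]; simp only [mul_assoc]
        _ = r := hzcr
    rw [add_mul, mul_add, mul_add, e1, e2, e3, (IsIdempotentElem.one_sub hr).eq]
    abel

theorem commute_aeval {k : Type*} [CommSemiring k] [Algebra k A] {z y : A} (h : Commute z y)
    (T : Polynomial k) : Commute (Polynomial.aeval z T) y := by
  induction T using Polynomial.induction_on' with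
  | add p q hp hq => rw [map_add]; exact hp.add_left hq
  | monomial n c =>
    rw [Polynomial.aeval_monomial]
    exact (Algebra.commute_algebraMap_left c y).mul_left (h.pow_left n)

theorem ac_reduce {a c ε ε' : A} (hac : a * c = ε) (hca : c * a = ε') (hε : ε * ε = ε) :
    ε * a * ε' * (ε' * c * ε) = ε := by
  subst hac hca
  have h : ∀ X, a * (c * (a * (c * X))) = a * (c * X) := fun X => by
    simp only [← mul_assoc] at hε ⊢
    rw [hε]
  have hε' : a * (c * (a * c)) = a * c := by rw [← mul_assoc]; exact hε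
  simp only [mul_assoc, h, hε']

end Ring

/-! ### Twisted traces -/

/-- The character `χ` at `a * g`. -/
noncomputable def tr (χ : G → ℂ) (g : G) (a : MonoidAlgebra (localRing M) G) : ℂ :=
  ∑ w : G, (a.coeff w : ℂ) * χ (w * g)

theorem tr_add (χ : G → ℂ) (g : G) (a b : MonoidAlgebra (localRing M) G) :
    tr χ g (a + b) = tr χ g a + tr χ g b := by
  simp [tr, add_mul, Finset.sum_add_distrib]

theorem tr_zero (χ : G → ℂ) (g : G) : tr χ g (0 : MonoidAlgebra (localRing M) G) = 0 := by
  simp [tr]

theorem tr_mul_comm {χ : G → ℂ} (hχ : IsClassFunction G χ) {g : G}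
    {a : MonoidAlgebra (localRing M) G} (ha : InvUnder (Subgroup.zpowers g) a)
    (b : MonoidAlgebra (localRing M) G) : tr χ g (a * b) = tr χ g (b * a) := by
  have hexp : ∀ a b : MonoidAlgebra (localRing M) G, tr χ g (a * b) =
      ∑ x : G, ∑ y : G, (a.coeff x : ℂ) * b.coeff y * χ (x * y * g) := by
    intro a b
    simp only [tr, coeff_mul_eq_sum, AddSubmonoidClass.coe_finsetSum, Finset.sum_mul, Subring.coe_mul]
    rw [Finset.sum_comm]
    refine Finset.sum_congr rfl fun x _ => Fintype.sum_equiv (Equiv.mulLeft x⁻¹) _ _ fun w => ?_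
    simp [mul_assoc]
  rw [hexp, hexp]
  conv_rhs => rw [Finset.sum_comm]
  refine Fintype.sum_equiv (MulAut.conj g).toEquiv _ _ fun x => Finset.sum_congr rfl fun y _ => ?_
  simp only [MulEquiv.toEquiv_eq_coe, MulEquiv.coe_toEquiv, MulAut.conj_apply]
  rw [ha g (Subgroup.mem_zpowers g) x]
  rw [show χ (y * (g * x * g⁻¹) * g) = χ (x * y * g) by
    rw [show y * (g * x * g⁻¹) * g = y * g * x by group, ← hχ (y * g * x) x]
    congr 1
    group]
  ring

variable {p : ℕ} [Fact p.Prime] (hM : IsPModular p M)
include hM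

omit hM in
theorem resC_aeval [CharP (Res M) p] {U : Subgroup G} (hU : IsPGroup p U)
    {z : MonoidAlgebra (Res M) G} (hz : InvUnder U z) (P : Polynomial (Res M)) :
    resC U (Polynomial.aeval z P) = Polynomial.aeval (resC U z) P := by
  induction P using Polynomial.induction_on' with
  | add p q hp hq => rw [map_add, map_add, resC_add, hp, hq]
  | monomial n c =>
    rw [Polynomial.aeval_monomial, Polynomial.aeval_monomial, ← Algebra.smul_def, ← Algebra.smul_def,
      resC_smul, resC_pow hU hz]

omit [Fact p.Prime] in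
theorem tr_eq_zero_of_resC_eq_zero (χ : IrrCharacter G) {g u : G} (hu : IsPPart p g u)
    {f : MonoidAlgebra (localRing M) G} (hf : f * f = f) (hinv : InvUnder (Subgroup.zpowers g) f)
    (h0 : resC (Subgroup.zpowers u) (red M f) = 0) : tr (χ : G → ℂ) g f = 0 := by
  refine sum_apply_mul_eq_zero hM hu hf (fun z => hinv g (Subgroup.mem_zpowers g) z)
    (fun c hc => ?_) χ
  have hcC : c ∈ Subgroup.centralizer (Subgroup.zpowers u : Set G) := by
    rw [Subgroup.mem_centralizer_iff]
    rintro _ ⟨n, rfl⟩
    exact (hc.zpow_right n).eq.symm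
  have := congrArg (fun a => a.coeff ⟨c, hcC⟩) h0
  simp only [coeff_resC, coeff_red, coeff_zero, Finsupp.coe_zero, Pi.zero_apply] at this
  exact residue_eq_zero_iff.1 this

omit hM [Fintype G] [Fact p.Prime] in
theorem isPGroup_zpowers_pPart {g u : G} (hu : IsPPart p g u) :
    IsPGroup p (Subgroup.zpowers u) := by
  obtain ⟨-, -, -, ⟨k, hk⟩, -⟩ := hu
  exact IsPGroup.of_card (n := k) (by rw [Nat.card_zpowers, hk])

omit hM [Fintype G] in
theorem mem_zpowers_pPart {g u : G} (hu : IsPPart p g u) : u ∈ Subgroup.zpowers g := by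
  obtain ⟨m, hm, hgm, k, hk⟩ := IsPPart.exists_exponent (Fact.out : p.Prime) hu
  obtain ⟨t, -, ht⟩ := Nat.exists_mul_mod_eq_one_of_coprime (k := p ^ (k + 1)) (n := m)
    (Nat.Coprime.pow_right _ (((Fact.out : p.Prime).coprime_iff_not_dvd).2 hm).symm)
    (Nat.one_lt_pow (by omega) (Fact.out : p.Prime).one_lt)
  have : g ^ (m * t) = u := by
    rw [pow_mul, hgm, ← pow_mul]
    conv_rhs => rw [← pow_one u]
    refine pow_eq_pow_iff_modEq.2 ?_
    have h1 : m * t ≡ 1 [MOD p ^ (k + 1)] := by
      rw [Nat.ModEq, ht, Nat.mod_eq_of_lt (Nat.one_lt_pow (by omega) (Fact.out : p.Prime).one_lt)]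
    exact h1.of_dvd (hk ▸ pow_dvd_pow p (by omega))
  exact ⟨((m * t : ℕ) : ℤ), (zpow_natCast g (m * t)).trans this⟩

/-- The twisted trace of an idempotent only depends on the Brauer image of its reduction. -/
theorem tr_eq_of_resC_eq (χ : IrrCharacter G) {g u : G} (hu : IsPPart p g u)
    {q q' : MonoidAlgebra (localRing M) G} (hq : q * q = q) (hq' : q' * q' = q')
    (hi : InvUnder (Subgroup.zpowers g) q) (hi' : InvUnder (Subgroup.zpowers g) q')
    (h : resC (Subgroup.zpowers u) (red M q) = resC (Subgroup.zpowers u) (red M q')) :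
    tr (χ : G → ℂ) g q = tr (χ : G → ℂ) g q' := by
  have := charP_residueField hM
  have hUp := isPGroup_zpowers_pPart hu
  have hle : Subgroup.zpowers u ≤ Subgroup.zpowers g := Subgroup.zpowers_le.2 (mem_zpowers_pPart hu)
  set A := fixAlg (localRing M) (Subgroup.zpowers g)
  have hred : ∀ {a : MonoidAlgebra (localRing M) G}, InvUnder (Subgroup.zpowers g) a →
      InvUnder (Subgroup.zpowers u) (red M a) := fun ha v hv x => by
    simp [ha v (hle hv) x]
  set d := q - q' with hd
  set z := 1 - d * d with hz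
  have hdA : d ∈ A := sub_mem (H := A) hi hi'
  have hzA : z ∈ A := sub_mem (one_mem A) (mul_mem hdA hdA)
  obtain ⟨f, P, c, hf, hr, hc, hP0, hP1⟩ := exists_idem_poly z
  set r := Polynomial.aeval z P with hrdef
  set cz := Polynomial.aeval z c with hczdef
  have hrA : r ∈ A := invUnder_aeval hzA P
  have hczA : cz ∈ A := invUnder_aeval hzA c
  have hz1 : resC (Subgroup.zpowers u) (red M z) = 1 := by
    rw [hz, map_sub, map_one, resC_sub, resC_one, map_mul, resC_mul hUp (hred hdA) (hred hdA), hd,
      map_sub, resC_sub, h, sub_self, mul_zero, sub_zero]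
  have hev : ∀ T : Polynomial (localRing M), resC (Subgroup.zpowers u) (red M (Polynomial.aeval z T))
      = algebraMap (Res M) _ ((T.map (resHom M)).eval 1) := fun T => by
    rw [red_aeval, resC_aeval hUp (hred hzA), hz1,
      ← Polynomial.aeval_algebraMap_apply_eq_algebraMap_eval, map_one]
  have hr1 : resC (Subgroup.zpowers u) (red M r) = 1 := by
    rw [hrdef, hev, hP1 ?_, map_one]
    have h0 := hev f
    rw [hf, map_zero, resC_zero] at h0
    exact (FaithfulSMul.algebraMap_eq_zero_iff (Res M) _).1 h0.symm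
  obtain ⟨hxx', hx'x, hqx, hcommq, hcommq'⟩ := idem_pair_identities hq hq'
  rw [← hd, ← hz] at hxx' hx'x hcommq hcommq'
  have hpoly : ∀ {y}, Commute z y → ∀ T : Polynomial (localRing M), Commute (Polynomial.aeval z T) y :=
    fun hy T => commute_aeval hy T
  have hcut : ∀ y : MonoidAlgebra (localRing M) G, y * y = y → y ∈ A → Commute z y →
      tr (χ : G → ℂ) g y = tr (χ : G → ℂ) g (y * r) := by
    intro y hy hyA hzy
    have hyr : Commute r y := hpoly hzy P
    have e : y = y * r + y * (1 - r) := by rw [← mul_add, add_sub_cancel, mul_one]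
    conv_lhs => rw [e, tr_add]
    rw [tr_eq_zero_of_resC_eq_zero hM χ hu (f := y * (1 - r)), add_zero]
    · have hc2 : Commute (1 - r) y := (Commute.one_left y).sub_left hyr
      rw [mul_assoc, ← mul_assoc (1 - r), hc2.eq, mul_assoc y (1 - r),
        show (1 - r) * (1 - r) = 1 - r from (IsIdempotentElem.one_sub hr), ← mul_assoc, hy]
    · exact mul_mem hyA (sub_mem (one_mem A) hrA)
    · rw [map_mul, map_sub, map_one, resC_mul hUp (hred hyA)
        (InvUnder.sub (InvUnder.of_isCentralElt _ IsCentralElt.one) (hred hrA)), resC_sub, resC_one,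
        hr1, sub_self, mul_zero]
  rw [hcut q hq hi hcommq, hcut q' hq' hi' hcommq']
  set x := q * q' + (1 - q) * (1 - q') with hx
  set x' := q' * q + (1 - q') * (1 - q) with hx'
  have hxA : x ∈ A := add_mem (mul_mem (s := A) hi hi')
    (mul_mem (sub_mem (one_mem A) hi) (sub_mem (one_mem A) hi'))
  have hx'A : x' ∈ A := add_mem (mul_mem (s := A) hi' hi)
    (mul_mem (sub_mem (one_mem A) hi') (sub_mem (one_mem A) hi))
  have hzx : Commute z x := by
    rw [Commute, SemiconjBy]; nth_rw 1 [← hxx']; rw [← hx'x, mul_assoc]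
  have hzx' : Commute z x' := by
    rw [Commute, SemiconjBy]; nth_rw 1 [← hx'x]; rw [← hxx', mul_assoc]
  have hzz : Commute z z := Commute.refl z
  obtain ⟨hmain, hX21⟩ := cut_conj (q := q) (q' := q') hr hc (hpoly hzz c).symm hxx' hx'x hqx
    (hpoly hzx P) (hpoly hzx' P) (hpoly hzx c) (hpoly hcommq' P)
  rw [← hmain, tr_mul_comm (Char.IsIrr.isClassFunction χ.2)
    (add_mem (mul_mem hxA hrA) (sub_mem (one_mem A) hrA) : x * r + (1 - r) ∈ A),
    mul_assoc (q' * r), hX21, mul_one]

omit [Fact p.Prime] hM in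
/-- Lifting of an idempotent fixed by `H`. -/
theorem exists_lift_idem {H : Subgroup G} {ε : MonoidAlgebra (Res M) G} (hε : ε * ε = ε)
    (hinv : InvUnder H ε) :
    ∃ q : MonoidAlgebra (localRing M) G, q * q = q ∧ InvUnder H q ∧ red M q = ε := by
  let z : MonoidAlgebra (localRing M) G :=
    ofFun fun w => Function.surjInv IsLocalRing.residue_surjective (ε.coeff w)
  have hz : red M z = ε := MonoidAlgebra.ext (Finsupp.ext fun w => by
    simp [z, Function.surjInv_eq])
  have hzH : InvUnder H z := fun v hv x => by simp [z, hinv v hv x]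
  obtain ⟨f, P, c, hf, hP, hc, hP0, hP1⟩ := exists_idem_poly z
  refine ⟨_, hP, invUnder_aeval hzH P, ?_⟩
  rw [red_aeval, hz, aeval_idem hε (by simp [hP0])]
  by_cases h0 : ε = 0
  · simp [h0]
  rw [hP1, one_smul]
  have h1 : (Polynomial.aeval ε (f.map (resHom M))) * ε = 0 := by
    rw [← hz, ← red_aeval, hf, map_zero, zero_mul]
  have h2 : Polynomial.aeval ε (f.map (resHom M)) * ε =
      (f.map (resHom M)).eval 1 • ε := by
    rw [show Polynomial.aeval ε (f.map (resHom M)) * ε =
      Polynomial.aeval ε (f.map (resHom M) * Polynomial.X) by simp,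
      aeval_idem hε (by simp [Polynomial.mul_coeff_zero])]
    simp
  exact (smul_eq_zero.1 (h2.symm.trans h1)).resolve_right h0

omit [Fact p.Prime] hM in
/-- Lifting of two orthogonal idempotents fixed by `H`. -/
theorem exists_lift_idem_pair {H : Subgroup G} {ε ε' : MonoidAlgebra (Res M) G} (hε : ε * ε = ε)
    (hε' : ε' * ε' = ε') (h1 : ε * ε' = 0) (h2 : ε' * ε = 0)
    (hinv : InvUnder H ε) (hinv' : InvUnder H ε') :
    ∃ q q' : MonoidAlgebra (localRing M) G, q * q = q ∧ q' * q' = q' ∧ q * q' = 0 ∧ q' * q = 0 ∧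
      InvUnder H q ∧ InvUnder H q' ∧ red M q = ε ∧ red M q' = ε' := by
  obtain ⟨q, hq, hqH, hqr⟩ := exists_lift_idem hε hinv
  obtain ⟨q₀, -, hq₀H, hq₀r⟩ := exists_lift_idem hε' hinv'
  set z := (1 - q) * q₀ * (1 - q) with hz
  have hzA : z ∈ fixAlg (localRing M) H := mul_mem (mul_mem (sub_mem (one_mem _) hqH) hq₀H)
    (sub_mem (one_mem _) hqH)
  have hzr : red M z = ε' := by
    rw [hz, map_mul, map_mul, map_sub, map_one, hqr, hq₀r, sub_mul, one_mul, h1, sub_zero, mul_sub,
      mul_one, h2, sub_zero]
  obtain ⟨f, P, c, hf, hP, hc, hP0, hP1⟩ := exists_idem_poly z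
  have hdvd : ∃ T, P = Polynomial.X * T := Polynomial.X_dvd_iff.2 hP0
  obtain ⟨T, rfl⟩ := hdvd
  have hl : q * z = 0 := by
    rw [hz, ← mul_assoc, ← mul_assoc, show q * (1 - q) = 0 by rw [mul_sub, mul_one, hq, sub_self],
      zero_mul, zero_mul]
  have hr : z * q = 0 := by
    rw [hz, mul_assoc, show (1 - q) * q = 0 by rw [sub_mul, one_mul, hq, sub_self], mul_zero]
  refine ⟨q, _, hq, hP, ?_, ?_, hqH, invUnder_aeval hzA _, hqr, ?_⟩
  · rw [map_mul, Polynomial.aeval_X, ← mul_assoc, hl, zero_mul]
  · rw [mul_comm Polynomial.X T, map_mul, Polynomial.aeval_X, mul_assoc, hr, mul_zero]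
  · rw [red_aeval, hzr, aeval_idem hε' (by simp [hP0])]
    by_cases h0 : ε' = 0
    · simp [h0]
    rw [hP1, one_smul]
    have e1 : (Polynomial.aeval ε' (f.map (resHom M))) * ε' = 0 := by
      rw [← hzr, ← red_aeval, hf, map_zero, zero_mul]
    have e2 : Polynomial.aeval ε' (f.map (resHom M)) * ε' =
        (f.map (resHom M)).eval 1 • ε' := by
      rw [show Polynomial.aeval ε' (f.map (resHom M)) * ε' =
        Polynomial.aeval ε' (f.map (resHom M) * Polynomial.X) by simp,
        aeval_idem hε' (by simp [Polynomial.mul_coeff_zero])]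
      simp
    exact (smul_eq_zero.1 (e2.symm.trans e1)).resolve_right h0

/-- Equivalent idempotents have the same twisted trace. -/
theorem tr_eq_of_equiv (χ : IrrCharacter G) {g u : G} (hu : IsPPart p g u)
    {q q' : MonoidAlgebra (localRing M) G} (hq : q * q = q) (hq' : q' * q' = q')
    (hi : InvUnder (Subgroup.zpowers g) q) (hi' : InvUnder (Subgroup.zpowers g) q')
    {a c : MonoidAlgebra (Res M) G} (ha : InvUnder (Subgroup.zpowers g) a)
    (hc : InvUnder (Subgroup.zpowers g) c) (hac : a * c = red M q) (hca : c * a = red M q') :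
    tr (χ : G → ℂ) g q = tr (χ : G → ℂ) g q' := by
  have := charP_residueField hM
  let lift : MonoidAlgebra (Res M) G → MonoidAlgebra (localRing M) G := fun ε =>
    ofFun fun w => Function.surjInv IsLocalRing.residue_surjective (ε.coeff w)
  have hlift : ∀ ε, red M (lift ε) = ε := fun ε => MonoidAlgebra.ext (Finsupp.ext fun w => by
    simp [lift, Function.surjInv_eq])
  set A := fixAlg (localRing M) (Subgroup.zpowers g)
  have hliftA : ∀ {ε}, InvUnder (Subgroup.zpowers g) ε → lift ε ∈ A := fun h v hv x => by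
    simp [lift, h v hv x]
  set w := q * lift a * q' with hw
  set v := q' * lift c * q with hv
  have hwA : w ∈ A := mul_mem (mul_mem hi (hliftA ha)) hi'
  have hvA : v ∈ A := mul_mem (mul_mem hi' (hliftA hc)) hi
  have hqr : red M q * red M q = red M q := by rw [← map_mul, hq]
  have hqr' : red M q' * red M q' = red M q' := by rw [← map_mul, hq']
  have hwv : red M (w * v) = red M q := by
    simp only [hw, hv, map_mul, hlift]
    exact ac_reduce hac hca hqr
  have hvw : red M v * red M w = red M q' := by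
    simp only [hw, hv, map_mul, hlift]
    exact ac_reduce hca hac hqr'
  set z := w * v + (1 - q) with hz
  have hzA : z ∈ A := add_mem (mul_mem hwA hvA) (sub_mem (one_mem A) hi)
  have hqw : q * w = w := by simp only [hw, ← mul_assoc, hq]
  have hvq : v * q = v := by simp only [hv, mul_assoc, hq]
  have hqz : q * z = w * v := by
    rw [hz, mul_add, ← mul_assoc, hqw, mul_sub, mul_one, hq, sub_self, add_zero]
  have hzq : z * q = w * v := by
    rw [hz, add_mul, mul_assoc, hvq, sub_mul, one_mul, hq, sub_self, add_zero]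
  have hzcomm : Commute z q := hzq.trans hqz.symm
  have hz1 : red M z = 1 := by rw [hz, map_add, hwv, map_sub, map_one, add_sub_cancel]
  obtain ⟨f, P, cp, hf, hr, hcp, hP0, hP1⟩ := exists_idem_poly z
  set r := Polynomial.aeval z P with hrdef
  set cz := Polynomial.aeval z cp with hczdef
  have hrA : r ∈ A := invUnder_aeval hzA P
  have hczA : cz ∈ A := invUnder_aeval hzA cp
  have hr1 : red M r = 1 := by
    rw [hrdef, red_aeval, hz1, aeval_idem (mul_one 1) (by simp [hP0]), hP1 ?_, one_smul]
    have h0 : Polynomial.aeval (red M z) (f.map (resHom M)) = 0 := by rw [← red_aeval, hf, map_zero]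
    rw [hz1, ← map_one (algebraMap (Res M) (MonoidAlgebra (Res M) G)),
      Polynomial.aeval_algebraMap_apply_eq_algebraMap_eval] at h0
    exact (FaithfulSMul.algebraMap_eq_zero_iff (Res M) _).1 h0
  have hcz1 : red M cz = 1 := by
    have := congrArg (red M) hcp
    rwa [map_mul, map_mul, hz1, hr1, mul_one, mul_one] at this
  have hrq : Commute r q := commute_aeval hzcomm P
  have hczq : Commute cz q := commute_aeval hzcomm cp
  have hzc : Commute z cz := (commute_aeval (Commute.refl z) cp).symm
  have hzcr : z * (cz * r) = r := by rw [← mul_assoc, hzc.eq, hcp]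
  have hqr2 : w * (v * (cz * r)) = q * r := by rw [← mul_assoc, ← hqz, mul_assoc, hzcr]
  set q2 := v * (cz * r) * w with hq2
  have hq2i : q2 * q2 = q2 := by
    calc q2 * q2 = v * (cz * r) * (w * (v * (cz * r))) * w := by simp only [hq2, mul_assoc]
      _ = v * (cz * r) * (r * (q * w)) := by rw [hqr2, ← hrq.eq]; simp only [mul_assoc]
      _ = q2 := by rw [hqw, hq2]; simp only [mul_assoc]; rw [← mul_assoc r r, hr]
  have hq2A : q2 ∈ A := mul_mem (mul_mem hvA (mul_mem hczA hrA)) hwA
  have hq2r : red M q2 = red M q' := by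
    rw [hq2, map_mul, map_mul _ v, map_mul _ cz, hcz1, hr1, mul_one, mul_one, hvw]
  rw [← tr_eq_of_resC_eq hM χ hu hq2i hq' hq2A hi' (by rw [hq2r]), hq2,
    ← tr_mul_comm (Char.IsIrr.isClassFunction χ.2) hwA, hqr2]
  exact tr_eq_of_resC_eq hM χ hu hq (by
    rw [mul_assoc, ← mul_assoc r q r, hrq.eq, mul_assoc q r r, hr, ← mul_assoc, hq]) hi
    (mul_mem hi hrA : q * r ∈ A) (by rw [map_mul, hr1, mul_one])

omit [Fact p.Prime] hM in
open scoped Classical in
/-- The twisted trace of a lift of an idempotent. -/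
noncomputable def sv (χ : G → ℂ) (g : G) (x : MonoidAlgebra (Res M) G) : ℂ :=
  if h : ∃ q : MonoidAlgebra (localRing M) G,
      q * q = q ∧ InvUnder (Subgroup.zpowers g) q ∧ red M q = x
  then tr χ g h.choose else 0

theorem sv_eq (χ : IrrCharacter G) {g u : G} (hu : IsPPart p g u) {x : MonoidAlgebra (Res M) G}
    (hx : x * x = x) (hxi : InvUnder (Subgroup.zpowers g) x)
    {q : MonoidAlgebra (localRing M) G} (hq : q * q = q) (hqi : InvUnder (Subgroup.zpowers g) q)
    (h : resC (Subgroup.zpowers u) (red M q) = resC (Subgroup.zpowers u) x) :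
    sv (χ : G → ℂ) g x = tr (χ : G → ℂ) g q := by
  have he : ∃ q : MonoidAlgebra (localRing M) G,
      q * q = q ∧ InvUnder (Subgroup.zpowers g) q ∧ red M q = x := exists_lift_idem hx hxi
  rw [sv, dif_pos he]
  exact tr_eq_of_resC_eq hM χ hu he.choose_spec.1 hq he.choose_spec.2.1 hqi
    (by rw [he.choose_spec.2.2, h])

/-- The twisted trace only depends on the Brauer image. -/
theorem sv_congr (χ : IrrCharacter G) {g u : G} (hu : IsPPart p g u)
    {x y : MonoidAlgebra (Res M) G} (hx : x * x = x) (hxi : InvUnder (Subgroup.zpowers g) x)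
    (hy : y * y = y) (hyi : InvUnder (Subgroup.zpowers g) y)
    (h : resC (Subgroup.zpowers u) x = resC (Subgroup.zpowers u) y) :
    sv (χ : G → ℂ) g x = sv (χ : G → ℂ) g y := by
  obtain ⟨q, hq, hqi, hqr⟩ := exists_lift_idem hy hyi
  rw [sv_eq hM χ hu hx hxi hq hqi (by rw [hqr, h]), sv_eq hM χ hu hy hyi hq hqi (by rw [hqr])]

theorem sv_zero (χ : IrrCharacter G) {g u : G} (hu : IsPPart p g u) :
    sv (χ : G → ℂ) g (0 : MonoidAlgebra (Res M) G) = 0 := by
  have hi : InvUnder (Subgroup.zpowers g) (0 : MonoidAlgebra (Res M) G) :=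
    InvUnder.of_isCentralElt _ IsCentralElt.zero
  rw [sv_eq hM χ hu (mul_zero 0) hi (q := 0) (mul_zero 0)
    (InvUnder.of_isCentralElt _ IsCentralElt.zero) (by rw [map_zero]), tr_zero]

theorem sv_add (χ : IrrCharacter G) {g u : G} (hu : IsPPart p g u)
    {x y : MonoidAlgebra (Res M) G} (hx : x * x = x) (hxi : InvUnder (Subgroup.zpowers g) x)
    (hy : y * y = y) (hyi : InvUnder (Subgroup.zpowers g) y) (hxy : x * y = 0) (hyx : y * x = 0) :
    sv (χ : G → ℂ) g (x + y) = sv (χ : G → ℂ) g x + sv (χ : G → ℂ) g y := by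
  obtain ⟨q, q', hq, hq', h1, h2, hqi, hqi', hr, hr'⟩ := exists_lift_idem_pair hx hy hxy hyx hxi hyi
  rw [sv_eq hM χ hu hx hxi hq hqi (by rw [hr]), sv_eq hM χ hu hy hyi hq' hqi' (by rw [hr']), ← tr_add]
  exact sv_eq hM χ hu (by simp only [add_mul, mul_add, hx, hy, hxy, hyx, add_zero, zero_add])
    (add_mem (S := Subalgebra _ _) (s := fixAlg (Res M) _) hxi hyi)
    (by simp only [add_mul, mul_add, hq, hq', h1, h2, add_zero, zero_add])
    (add_mem (S := Subalgebra _ _) (s := fixAlg (localRing M) _) hqi hqi') (by rw [map_add, hr, hr'])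

theorem sv_equiv (χ : IrrCharacter G) {g u : G} (hu : IsPPart p g u)
    {x y a c : MonoidAlgebra (Res M) G} (hx : x * x = x) (hxi : InvUnder (Subgroup.zpowers g) x)
    (hy : y * y = y) (hyi : InvUnder (Subgroup.zpowers g) y) (ha : InvUnder (Subgroup.zpowers g) a)
    (hc : InvUnder (Subgroup.zpowers g) c) (hac : a * c = x) (hca : c * a = y) :
    sv (χ : G → ℂ) g x = sv (χ : G → ℂ) g y := by
  obtain ⟨q, hq, hqi, hqr⟩ := exists_lift_idem hx hxi
  obtain ⟨q', hq', hqi', hqr'⟩ := exists_lift_idem hy hyi
  rw [sv_eq hM χ hu hx hxi hq hqi (by rw [hqr]), sv_eq hM χ hu hy hyi hq' hqi' (by rw [hqr'])]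
  exact tr_eq_of_equiv hM χ hu hq hq' hqi hqi' ha hc (by rw [hac, hqr]) (by rw [hca, hqr'])

end CfsgLib.Star
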