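import Cfsg.Agent.Lib.Pairs.Conj

/-!
# Relative traces of the conjugation action on a group algebra
-/

namespace CfsgLib.Star

open Cfsg CfsgLib.Blocks CfsgLib.Pairs MonoidAlgebra

variable {G : Type*} [Group G] [Fintype G] {R : Type*} [CommRing R]

theorem conjAlg_add (x : G) (a b : MonoidAlgebra R G) :
    conjAlg x (a + b) = conjAlg x a + conjAlg x b :=
  MonoidAlgebra.ext (Finsupp.ext fun g => by simp)

theorem conjAlg_smul (x : G) (r : R) (a : MonoidAlgebra R G) :
    conjAlg x (r • a) = r • conjAlg x a :=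
  MonoidAlgebra.ext (Finsupp.ext fun g => by simp)

theorem conjAlg_one_elt (a : MonoidAlgebra R G) : conjAlg (1 : G) a = a :=
  MonoidAlgebra.ext (Finsupp.ext fun g => by simp)

theorem conjAlg_conjAlg (x y : G) (a : MonoidAlgebra R G) :
    conjAlg x (conjAlg y a) = conjAlg (x * y) a :=
  MonoidAlgebra.ext (Finsupp.ext fun g => by simp [mul_assoc])

theorem conjAlg_mul (x : G) (a b : MonoidAlgebra R G) :
    conjAlg x (a * b) = conjAlg x a * conjAlg x b := by
  refine MonoidAlgebra.ext (Finsupp.ext fun g => ?_)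
  rw [coeff_conjAlg, coeff_mul_eq_sum, coeff_mul_eq_sum]
  refine Fintype.sum_equiv (MulAut.conj x).toEquiv _ _ fun y => ?_
  simp only [MulEquiv.toEquiv_eq_coe, MulEquiv.coe_toEquiv, MulAut.conj_apply, coeff_conjAlg]
  congr 2 <;> group

theorem conjAlg_eq_self {H : Subgroup G} {a : MonoidAlgebra R G} (ha : InvUnder H a) {x : G}
    (hx : x ∈ H) : conjAlg x a = a :=
  MonoidAlgebra.ext (Finsupp.ext fun g => by
    rw [coeff_conjAlg, show x⁻¹ * g * x = x⁻¹ * g * x⁻¹⁻¹ by group, ha x⁻¹ (inv_mem hx)])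

theorem invUnder_of_conjAlg {H : Subgroup G} {a : MonoidAlgebra R G}
    (h : ∀ x ∈ H, conjAlg x a = a) : InvUnder H a := fun u hu g => by
  conv_lhs => rw [← h u hu, coeff_conjAlg]
  congr 1
  group

/-- The relative trace from `W` to `U`. -/
noncomputable def trG (U W : Subgroup G) (a : MonoidAlgebra R G) : MonoidAlgebra R G :=
  haveI := Fintype.ofFinite (U ⧸ W.subgroupOf U)
  ∑ q : U ⧸ W.subgroupOf U, conjAlg ((q.out : U) : G) a

theorem coeff_trG (U W : Subgroup G) [Fintype (U ⧸ W.subgroupOf U)] (a : MonoidAlgebra R G) (g : G) :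
    (trG U W a).coeff g =
      ∑ q : U ⧸ W.subgroupOf U, a.coeff (((q.out : U) : G)⁻¹ * g * (q.out : U)) := by
  simp only [trG, coeff_sum, Finsupp.coe_finsetSum, Finset.sum_apply, coeff_conjAlg]
  exact Finset.sum_congr (by ext; simp) fun _ _ => rfl

theorem conjAlg_out_mk {U W : Subgroup G} {a : MonoidAlgebra R G} (ha : InvUnder W a) (v : U) :
    conjAlg (((QuotientGroup.mk v : U ⧸ W.subgroupOf U).out : U) : G) a = conjAlg (v : G) a := by
  obtain ⟨w, hw⟩ := QuotientGroup.mk_out_eq_mul (W.subgroupOf U) v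
  rw [hw, Subgroup.coe_mul, ← conjAlg_conjAlg, conjAlg_eq_self ha (Subgroup.mem_subgroupOf.1 w.2)]

theorem invUnder_trG {U W : Subgroup G} {a : MonoidAlgebra R G} (ha : InvUnder W a) :
    InvUnder U (trG U W a) := by
  have := Fintype.ofFinite (U ⧸ W.subgroupOf U)
  refine invUnder_of_conjAlg fun x hx => MonoidAlgebra.ext (Finsupp.ext fun g => ?_)
  rw [coeff_conjAlg, coeff_trG, coeff_trG]
  refine Fintype.sum_equiv (MulAction.toPerm (⟨x, hx⟩ : U)) _ _ fun q => ?_
  induction q using QuotientGroup.induction_on with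
  | _ v =>
    have h1 := congrArg (fun z => z.coeff (x⁻¹ * g * x)) (conjAlg_out_mk (U := U) ha v)
    have h2 := congrArg (fun z => z.coeff g) (conjAlg_out_mk (U := U) ha (⟨x, hx⟩ * v))
    simp only [coeff_conjAlg] at h1 h2
    show _ = a.coeff _
    rw [h1]
    refine Eq.trans ?_ h2.symm
    congr 1
    simp only [Subgroup.coe_mul]
    group

theorem conjAlg_trG {U W : Subgroup G} (a : MonoidAlgebra R G) {x : G}
    (hx : ∀ u ∈ U, Commute x u) : conjAlg x (trG U W a) = trG U W (conjAlg x a) := by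
  have := Fintype.ofFinite (U ⧸ W.subgroupOf U)
  refine MonoidAlgebra.ext (Finsupp.ext fun g => ?_)
  rw [coeff_conjAlg, coeff_trG, coeff_trG]
  refine Finset.sum_congr rfl fun q _ => ?_
  rw [coeff_conjAlg]
  congr 1
  have hc : Commute x ((q.out : U) : G) := hx _ (q.out : U).2
  simp only [← mul_assoc]
  rw [(hc.inv_inv).eq, mul_assoc _ x ((q.out : U) : G), hc.eq]
  group

theorem invUnder_trG_of_commute {U W S : Subgroup G} {a : MonoidAlgebra R G}
    (hS : InvUnder S a) (hc : ∀ s ∈ S, ∀ u ∈ U, Commute s u) : InvUnder S (trG U W a) :=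
  invUnder_of_conjAlg fun s hs => by rw [conjAlg_trG a (hc s hs), conjAlg_eq_self hS hs]

theorem trG_sum {U W : Subgroup G} {ι : Type*} (s : Finset ι) (f : ι → MonoidAlgebra R G) :
    trG U W (∑ j ∈ s, f j) = ∑ j ∈ s, trG U W (f j) := by
  have := Fintype.ofFinite (U ⧸ W.subgroupOf U)
  refine MonoidAlgebra.ext (Finsupp.ext fun g => ?_)
  simp only [coeff_trG, coeff_sum, Finsupp.coe_finsetSum, Finset.sum_apply]
  exact Finset.sum_comm

theorem trG_smul {U W : Subgroup G} (r : R) (a : MonoidAlgebra R G) :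
    trG U W (r • a) = r • trG U W a := by
  have := Fintype.ofFinite (U ⧸ W.subgroupOf U)
  refine MonoidAlgebra.ext (Finsupp.ext fun g => ?_)
  simp only [coeff_trG, coeff_smul, Finsupp.smul_apply, smul_eq_mul, Finset.mul_sum]

theorem trG_mul_mul {U W : Subgroup G} (a : MonoidAlgebra R G) {b c : MonoidAlgebra R G}
    (hb : InvUnder U b) (hc : InvUnder U c) : trG U W (b * a * c) = b * trG U W a * c := by
  simp only [trG, Finset.mul_sum, Finset.sum_mul]
  refine Finset.sum_congr rfl fun q _ => ?_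
  rw [conjAlg_mul, conjAlg_mul, conjAlg_eq_self hb (q.out : U).2, conjAlg_eq_self hc (q.out : U).2]

theorem coeff_trG_centralizer {U W : Subgroup G} (a : MonoidAlgebra R G) {c : G}
    (hc : c ∈ Subgroup.centralizer (U : Set G)) :
    (trG U W a).coeff c = ((W.subgroupOf U).index : R) * a.coeff c := by
  have := Fintype.ofFinite (U ⧸ W.subgroupOf U)
  rw [coeff_trG, Finset.sum_congr rfl (g := fun _ => a.coeff c) fun q _ => ?_, Finset.sum_const,
    nsmul_eq_mul, Subgroup.index, Nat.card_eq_fintype_card, Finset.card_univ]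
  rw [show ((q.out : U) : G)⁻¹ * c * (q.out : U) = c by
    rw [mul_assoc, ← Subgroup.mem_centralizer_iff.1 hc _ (q.out : U).2, inv_mul_cancel_left]]

variable {p : ℕ} [Fact p.Prime]

theorem coeff_trG_eq_zero [CharP R p] {U W : Subgroup G} {a : MonoidAlgebra R G} (ha : InvUnder W a)
    (hUW : U ≤ Subgroup.normalizer (W : Set G)) (hU : IsPGroup p U) {u : G} (hu : u ∈ U) (huW : u ∉ W)
    {c : G} (hc : Commute c u) : (trG U W a).coeff c = 0 := by
  classical
  have := Fintype.ofFinite (U ⧸ W.subgroupOf U)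
  let T : Subgroup U := Subgroup.zpowers ⟨u, hu⟩
  have hT : IsPGroup p T := hU.to_subgroup T
  rw [coeff_trG, sum_eq_sum_fixedPoints (U := T) hT
    (fun q : U ⧸ W.subgroupOf U => a.coeff (((q.out : U) : G)⁻¹ * c * (q.out : U))) fun t q => ?_]
  · refine Finset.sum_eq_zero fun q hq => absurd ?_ huW
    have h := (Finset.mem_filter.1 hq).2 ⟨⟨u, hu⟩, Subgroup.mem_zpowers _⟩
    induction q using QuotientGroup.induction_on with
    | _ v =>
      have h2 := QuotientGroup.eq.1 (h : (((⟨u, hu⟩ : U) * v : U) : U ⧸ W.subgroupOf U) = _)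
      rw [Subgroup.mem_subgroupOf] at h2
      have h3 := (Subgroup.mem_normalizer_iff.1 (hUW v.2) _).1 h2
      simpa [mul_assoc] using inv_mem h3
  · induction q using QuotientGroup.induction_on with
    | _ v =>
      have h1 := congrArg (fun z => z.coeff c) (conjAlg_out_mk (U := U) ha v)
      have h2 := congrArg (fun z => z.coeff c) (conjAlg_out_mk (U := U) ha ((t : U) * v))
      simp only [coeff_conjAlg] at h1 h2
      show a.coeff _ = _
      rw [h1]
      refine h2.trans ?_
      congr 1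
      obtain ⟨n, hn⟩ := t.2
      have hct : Commute c ((t : U) : G) := by
        rw [← hn]
        simpa using hc.zpow_right n
      simp only [Subgroup.coe_mul, mul_inv_rev]
      rw [mul_assoc (v : G)⁻¹ ((t : U) : G)⁻¹ c, ← (hct.inv_right).eq]
      group

theorem resC_trG [CharP R p] {U Q N : Subgroup G} (hQ : IsPGroup p Q) (hQU : Q ≤ U)
    (hN : ∀ x, x ∈ N ↔ x ∈ U ∧ x ∈ Subgroup.normalizer (Q : Set G))
    {a : MonoidAlgebra R G} (ha : InvUnder Q a) :
    resC Q (trG U Q a) = resC Q (trG N Q a) := by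
  classical
  have := Fintype.ofFinite (U ⧸ Q.subgroupOf U)
  have := Fintype.ofFinite (N ⧸ Q.subgroupOf N)
  have hNU : N ≤ U := fun x hx => ((hN x).1 hx).1
  refine MonoidAlgebra.ext (Finsupp.ext fun c => ?_)
  rw [coeff_resC, coeff_resC, coeff_trG, coeff_trG]
  let T : Subgroup U := Q.subgroupOf U
  have hT : IsPGroup p T := hQ.of_equiv (Subgroup.subgroupOfEquivOfLe hQU).symm
  rw [sum_eq_sum_fixedPoints (U := T) hT
    (fun q : U ⧸ Q.subgroupOf U => a.coeff (((q.out : U) : G)⁻¹ * c * (q.out : U))) fun t q => ?_]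
  · symm
    let f : N ⧸ Q.subgroupOf N → U ⧸ Q.subgroupOf U :=
      Quotient.map' (Subgroup.inclusion hNU) fun x y h => by
        rw [QuotientGroup.leftRel_apply] at h ⊢
        simpa [Subgroup.mem_subgroupOf] using h
    have hf : ∀ v : N, f (QuotientGroup.mk v) = QuotientGroup.mk (Subgroup.inclusion hNU v) :=
      fun _ => rfl
    refine Finset.sum_bij (fun q _ => f q) (fun q _ => ?_) ?_ ?_ ?_
    · refine Finset.mem_filter.2 ⟨Finset.mem_univ _, fun t => ?_⟩
      induction q using QuotientGroup.induction_on with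
      | _ v =>
        show QuotientGroup.mk ((t : U) * Subgroup.inclusion hNU v) = QuotientGroup.mk _
        rw [QuotientGroup.eq, Subgroup.mem_subgroupOf]
        have h3 := (Subgroup.mem_normalizer_iff''.1 ((hN v).1 v.2).2 ((t : U) : G)⁻¹).1
          (inv_mem (Subgroup.mem_subgroupOf.1 t.2))
        simpa [mul_assoc] using h3
    · intro q _ q' _ h
      induction q using QuotientGroup.induction_on with
      | _ v =>
        induction q' using QuotientGroup.induction_on with
        | _ v' =>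
          rw [hf, hf, QuotientGroup.eq, Subgroup.mem_subgroupOf] at h
          rw [QuotientGroup.eq, Subgroup.mem_subgroupOf]
          simpa using h
    · intro q hq
      induction q using QuotientGroup.induction_on with
      | _ v =>
        have hfix := (Finset.mem_filter.1 hq).2
        have hv : (v : G) ∈ Subgroup.normalizer (Q : Set G) := by
          have hle : ∀ x ∈ Q, (v : G)⁻¹ * x * v ∈ Q := fun x hx => by
            have h := QuotientGroup.eq.1 (hfix ⟨⟨x⁻¹, hQU (inv_mem hx)⟩, inv_mem hx⟩ :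
              (((⟨x⁻¹, hQU (inv_mem hx)⟩ : U) * v : U) : U ⧸ Q.subgroupOf U) = _)
            rw [Subgroup.mem_subgroupOf] at h
            simpa [mul_assoc] using h
          have heq : Q.map (MulAut.conj (v : G)⁻¹).toMonoidHom = Q := by
            refine Subgroup.eq_of_le_of_card_ge ?_
              (le_of_eq (Subgroup.card_map_of_injective (MulAut.conj (v : G)⁻¹).injective).symm)
            rintro _ ⟨x, hx, rfl⟩
            simpa using hle x hx
          simpa using inv_mem (Subgroup.mem_normalizer_iff_map_conj_eq.2 heq)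
        exact ⟨QuotientGroup.mk ⟨v, (hN v).2 ⟨v.2, hv⟩⟩, Finset.mem_univ _, rfl⟩
    · intro q _
      induction q using QuotientGroup.induction_on with
      | _ v =>
        have h1 := congrArg (fun z => z.coeff (c : G)) (conjAlg_out_mk (U := N) ha v)
        have h2 := congrArg (fun z => z.coeff (c : G))
          (conjAlg_out_mk (U := U) ha (Subgroup.inclusion hNU v))
        simp only [coeff_conjAlg] at h1 h2
        rw [hf, h1, h2]
        rfl
  · induction q using QuotientGroup.induction_on with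
    | _ v =>
      have h1 := congrArg (fun z => z.coeff (c : G)) (conjAlg_out_mk (U := U) ha v)
      have h2 := congrArg (fun z => z.coeff (c : G)) (conjAlg_out_mk (U := U) ha ((t : U) * v))
      simp only [coeff_conjAlg] at h1 h2
      show a.coeff _ = _
      rw [h1]
      refine h2.trans ?_
      congr 1
      have hct : Commute (c : G) ((t : U) : G) :=
        (Subgroup.mem_centralizer_iff.1 c.2 _ (Subgroup.mem_subgroupOf.1 t.2)).symm
      simp only [Subgroup.coe_mul, mul_inv_rev]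
      rw [mul_assoc (v : G)⁻¹ ((t : U) : G)⁻¹ (c : G), ← (hct.inv_right).eq]
      group

omit [Fact p.Prime] in
/-- An invariant element whose support has stabilizers inside `W` is a relative trace. -/
theorem exists_eq_trG {U W S : Subgroup G} (hWU : W ≤ U)
    (hc : ∀ s ∈ S, ∀ u ∈ U, Commute s u) (hS : IsUnit (Nat.card S : R)) {a : MonoidAlgebra R G}
    (haU : InvUnder U a) (haS : InvUnder S a)
    (hstab : ∀ x, a.coeff x ≠ 0 → ∀ u ∈ U, u * x * u⁻¹ = x → u ∈ W) :
    ∃ h : MonoidAlgebra R G, InvUnder W h ∧ InvUnder S h ∧ trG U W h = a ∧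
      ∀ x, a.coeff x = 0 → h.coeff x = 0 := by
  classical
  let st : Setoid G :=
    { r := fun x y => ∃ u ∈ U, u * x * u⁻¹ = y
      iseqv := ⟨fun x => ⟨1, one_mem U, by simp⟩,
        fun {x y} ⟨u, hu, h⟩ => ⟨u⁻¹, inv_mem hu, by rw [← h]; group⟩,
        fun {x y z} ⟨u, hu, h⟩ ⟨v, hv, h'⟩ => ⟨v * u, mul_mem hv hu, by rw [← h', ← h]; group⟩⟩ }
  let r : G → G := fun x => (Quotient.mk st x).out
  have hr : ∀ x, ∃ u ∈ U, u * r x * u⁻¹ = x := fun x => Quotient.exact (Quotient.out_eq (Quotient.mk st x))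
  have hr' : ∀ u ∈ U, ∀ x, r (u * x * u⁻¹) = r x := fun u hu x =>
    congrArg Quotient.out (Quotient.sound ⟨u⁻¹, inv_mem hu, by group⟩)
  let h0 : MonoidAlgebra R G := ofFun fun x => if ∃ w ∈ W, w * r x * w⁻¹ = x then a.coeff x else 0
  have h0W : InvUnder W h0 := by
    intro w hw x
    simp only [h0, coeff_ofFun, hr' w (hWU hw), haU w (hWU hw)]
    refine if_congr ⟨?_, ?_⟩ rfl rfl
    · rintro ⟨v, hv, h⟩
      exact ⟨w⁻¹ * v, mul_mem (inv_mem hw) hv, by
        rw [show w⁻¹ * v * r x * (w⁻¹ * v)⁻¹ = w⁻¹ * (v * r x * v⁻¹) * w by group, h]; group⟩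
    · rintro ⟨v, hv, h⟩
      exact ⟨w * v, mul_mem hw hv, by
        rw [show w * v * r x * (w * v)⁻¹ = w * (v * r x * v⁻¹) * w⁻¹ by group, h]⟩
  have h0tr : trG U W h0 = a := by
    have := Fintype.ofFinite (U ⧸ W.subgroupOf U)
    refine MonoidAlgebra.ext (Finsupp.ext fun x => ?_)
    rw [coeff_trG]
    have hval : ∀ v : U, a.coeff ((v : G)⁻¹ * x * v) = a.coeff x := fun v => by
      rw [show (v : G)⁻¹ * x * v = (v : G)⁻¹ * x * (v : G)⁻¹⁻¹ by group, haU _ (inv_mem v.2)]
    have hrv : ∀ v : U, r ((v : G)⁻¹ * x * v) = r x := fun v => by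
      rw [show (v : G)⁻¹ * x * v = (v : G)⁻¹ * x * (v : G)⁻¹⁻¹ by group, hr' _ (inv_mem v.2)]
    obtain ⟨v, hv, hvx⟩ := hr x
    by_cases hx : a.coeff x = 0
    · rw [hx]
      exact Finset.sum_eq_zero fun q _ => by simp [h0, hval, hx]
    rw [Finset.sum_eq_single (QuotientGroup.mk (⟨v, hv⟩ : U))]
    · have h1 := congrArg (fun z => z.coeff x) (conjAlg_out_mk (U := U) h0W ⟨v, hv⟩)
      simp only [coeff_conjAlg] at h1
      rw [h1]
      simp only [h0, coeff_ofFun]
      have hrx' : v⁻¹ * x * v = r x := by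
        conv_lhs => rw [← hvx]
        group
      rw [if_pos ⟨1, one_mem W, by rw [hrv ⟨v, hv⟩, one_mul, inv_one, mul_one, hrx']⟩, hval ⟨v, hv⟩]
    · intro q _ hq
      simp only [h0, coeff_ofFun, hrv]
      refine if_neg fun ⟨w, hw, hwx⟩ => hq ?_
      rw [← QuotientGroup.out_eq' q, QuotientGroup.eq, Subgroup.mem_subgroupOf]
      have hrx : a.coeff (r x) ≠ 0 := by
        rw [show r x = v⁻¹ * (v * r x * v⁻¹) * v⁻¹⁻¹ by group, haU _ (inv_mem hv), hvx]
        exact hx
      have hm := hstab (r x) hrx (w⁻¹ * (((q.out : U) : G)⁻¹ * v))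
        (mul_mem (inv_mem (hWU hw)) (mul_mem (inv_mem (q.out : U).2) hv)) (by
          rw [show w⁻¹ * (((q.out : U) : G)⁻¹ * v) * r x * (w⁻¹ * (((q.out : U) : G)⁻¹ * v))⁻¹ =
            w⁻¹ * (((q.out : U) : G)⁻¹ * (v * r x * v⁻¹) * (q.out : U)) * w by group, hvx, ← hwx]
          group)
      have h2 := mul_mem hw hm
      simpa using h2
    · simp
  obtain ⟨t, ht⟩ := isUnit_iff_exists_inv.1 hS
  have := Fintype.ofFinite S
  refine ⟨t • ∑ s : S, conjAlg (s : G) h0, ?_, ?_, ?_, ?_⟩
  · refine invUnder_of_conjAlg fun w hw => ?_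
    refine MonoidAlgebra.ext (Finsupp.ext fun x => ?_)
    simp only [coeff_conjAlg, coeff_smul, Finsupp.smul_apply, coeff_sum, Finsupp.coe_finsetSum,
      Finset.sum_apply]
    congr 1
    refine Finset.sum_congr rfl fun s _ => ?_
    have hcm : Commute (s : G) w := hc s s.2 w (hWU hw)
    rw [show (s : G)⁻¹ * (w⁻¹ * x * w) * s = w⁻¹ * ((s : G)⁻¹ * x * s) * w⁻¹⁻¹ by
      simp only [inv_inv, mul_assoc, ← hcm.eq]
      simp only [← mul_assoc, hcm.inv_inv.eq], h0W _ (inv_mem hw)]
  · refine invUnder_of_conjAlg fun s hs => ?_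
    rw [conjAlg_smul]
    congr 1
    refine MonoidAlgebra.ext (Finsupp.ext fun x => ?_)
    simp only [coeff_conjAlg, coeff_sum, Finsupp.coe_finsetSum, Finset.sum_apply]
    refine Fintype.sum_equiv (Equiv.mulLeft ⟨s, hs⟩) _ _ fun s' => ?_
    simp [mul_assoc]
  · rw [trG_smul, trG_sum, Finset.sum_congr rfl (g := fun _ => a) fun s _ => by
      rw [← conjAlg_trG h0 (hc s s.2), h0tr, conjAlg_eq_self haS s.2],
      Finset.sum_const, ← Nat.cast_smul_eq_nsmul R, smul_smul, Finset.card_univ,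
      ← Nat.card_eq_fintype_card, mul_comm, ht, one_smul]
  · intro x hx
    simp only [coeff_smul, Finsupp.smul_apply, coeff_sum, Finsupp.coe_finsetSum, Finset.sum_apply,
      coeff_conjAlg, smul_eq_mul]
    rw [Finset.sum_eq_zero fun s _ => ?_, mul_zero]
    have : a.coeff ((s : G)⁻¹ * x * s) = 0 := by
      rw [show (s : G)⁻¹ * x * s = (s : G)⁻¹ * x * (s : G)⁻¹⁻¹ by group, haS _ (inv_mem s.2), hx]
    simp [h0, this]

end CfsgLib.Star
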