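import Cfsg.Agent.Lib.Blocks.Star.Lift
import Cfsg.Agent.Lib.Blocks.Star.Trace
import Cfsg.Agent.Lib.Pairs.Idx

/-!
# The local sums `theta`

For `u` a `p`-element, `s` a `p`-regular element centralizing it and an idempotent `i` fixed by
both, `thetaQ v χ Q u s i` is the `v`-weighted sum over the blocks `f` of `C(Q)` of the twisted
traces of the `f`-parts of the Brauer image of `i`.
-/

namespace CfsgLib.Star

open Cfsg CfsgLib.Blocks CfsgLib.Pairs MonoidAlgebra

variable {G : Type*} [Group G] [Fintype G] {M : Ideal AlgInt} [M.IsPrime]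

/-- The part in the block `f` of the Brauer image of `i`, inside the group algebra of `G`. -/
noncomputable def cutBr (M : Ideal AlgInt) [M.IsPrime] (Q : Subgroup G)
    (f : Set (IrrCharacter (Subgroup.centralizer (Q : Set G)))) (i : MonoidAlgebra (Res M) G) :
    MonoidAlgebra (Res M) G :=
  inclElt (Subgroup.centralizer (Q : Set G)) (blockIdemBar M f * resC Q i)

/-- The weighted sum of the block parts of the twisted trace. -/
noncomputable def thetaQ (v : G → BrauerPairIdx G → ℂ) (χ : G → ℂ) (Q : Subgroup G) (u s : G)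
    (i : MonoidAlgebra (Res M) G) : ℂ :=
  ∑ᶠ f : {f : Set (IrrCharacter (Subgroup.centralizer (Q : Set G))) // IsPBlock M f},
    v u ⟨Q, f.1⟩ * sv χ (u * s) (cutBr M Q f.1 i)

theorem invUnder_inclElt_of_commute {R : Type*} [CommRing R] {H : Subgroup G} {g : G} (hg : g ∈ H)
    {a : MonoidAlgebra R H} (ha : InvUnder (Subgroup.zpowers (⟨g, hg⟩ : H)) a) :
    InvUnder (Subgroup.zpowers g) (inclElt H a) := by
  refine InvUnder.inclElt ((Subgroup.zpowers_le.2 hg).trans Subgroup.le_normalizer)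
    fun u hu k k' hk => ?_
  obtain ⟨n, rfl⟩ := hu
  rw [show k' = (⟨g, hg⟩ : H) ^ n * k * ((⟨g, hg⟩ : H) ^ n)⁻¹ from Subtype.ext (by simpa using hk)]
  exact ha _ ⟨n, rfl⟩ k

theorem invUnder_resC {R : Type*} [CommRing R] {Q H : Subgroup G} {i : MonoidAlgebra R G}
    (hi : InvUnder H i) :
    InvUnder (H.subgroupOf (Subgroup.centralizer (Q : Set G))) (resC Q i) := fun u hu x => by
  simp only [coeff_resC, Subgroup.coe_mul, Subgroup.coe_inv]
  exact hi _ (Subgroup.mem_subgroupOf.1 hu) x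

theorem coeff_inclElt_resC {R : Type*} [CommRing R] (Q : Subgroup G) (i : MonoidAlgebra R G) (x : G)
    [Decidable (x ∈ Subgroup.centralizer (Q : Set G))] :
    (inclElt _ (resC Q i)).coeff x =
      if x ∈ Subgroup.centralizer (Q : Set G) then i.coeff x else 0 := by
  split_ifs with h
  · exact (coeff_inclElt _ _ ⟨x, h⟩).trans (coeff_resC Q i ⟨x, h⟩)
  · exact coeff_inclElt_of_notMem _ _ h

variable {p : ℕ} [Fact p.Prime] (hM : IsPModular p M)

/-- The elements `u`, `s` at which a local sum is formed. -/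
structure LocalArg (p : ℕ) (Q : Subgroup G) (u s : G) : Prop where
  isPGroup : IsPGroup p Q
  isPPart : IsPPart p (u * s) u
  mem : u * s ∈ Subgroup.centralizer (Q : Set G)

omit [Fintype G] [Fact p.Prime] in
theorem localArg_zpowers {u s : G} (hu : ∃ k : ℕ, orderOf u = p ^ k) (hs : ¬ p ∣ orderOf s)
    (hc : Commute u s) : LocalArg p (Subgroup.zpowers u) u s := by
  obtain ⟨k, hk⟩ := hu
  refine ⟨IsPGroup.of_card (n := k) (by rw [Nat.card_zpowers, hk]), ⟨s, rfl, hc, ⟨k, hk⟩, hs⟩,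
    Subgroup.mem_centralizer_iff.2 ?_⟩
  rintro _ ⟨n, rfl⟩
  exact (((Commute.refl u).mul_right hc).zpow_left n).eq

include hM

theorem cutBr_mul_self {Q : Subgroup G} (hQ : IsPGroup p Q)
    {f : Set (IrrCharacter (Subgroup.centralizer (Q : Set G)))} (hf : IsPBlock M f)
    {i : MonoidAlgebra (Res M) G} (hi : i * i = i) (hiQ : InvUnder Q i) :
    cutBr M Q f i * cutBr M Q f i = cutBr M Q f i := by
  have := charP_residueField hM
  rw [cutBr, ← map_mul, mul_assoc, ← mul_assoc (resC Q i),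
    ← ((isCentralElt_blockIdemBar hf).commute (resC Q i)).eq, mul_assoc, ← mul_assoc,
    blockIdemBar_mul_self hf, ← resC_mul hQ hiQ hiQ, hi]

omit hM [Fact p.Prime] in
theorem invUnder_cutBr {Q : Subgroup G} {f : Set (IrrCharacter (Subgroup.centralizer (Q : Set G)))}
    (hf : IsPBlock M f) {g : G} (hg : g ∈ Subgroup.centralizer (Q : Set G))
    {i : MonoidAlgebra (Res M) G} (hi : InvUnder (Subgroup.zpowers g) i) :
    InvUnder (Subgroup.zpowers g) (cutBr M Q f i) :=
  invUnder_inclElt_of_commute hg (InvUnder.mul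
    (InvUnder.of_isCentralElt _ (isCentralElt_blockIdemBar hf))
    ((invUnder_resC hi).mono (Subgroup.zpowers_le.2
      (Subgroup.mem_subgroupOf.2 (Subgroup.mem_zpowers g)))))

variable (v : G → BrauerPairIdx G → ℂ) (χ : IrrCharacter G) {Q : Subgroup G} {u s : G}
  (h : LocalArg p Q u s)
include h

theorem thetaQ_add {a b : MonoidAlgebra (Res M) G} (ha : a * a = a) (hb : b * b = b)
    (hab : a * b = 0) (hba : b * a = 0) (haQ : InvUnder Q a) (hbQ : InvUnder Q b)
    (hag : InvUnder (Subgroup.zpowers (u * s)) a) (hbg : InvUnder (Subgroup.zpowers (u * s)) b) :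
    thetaQ v (χ : G → ℂ) Q u s (a + b) =
      thetaQ v (χ : G → ℂ) Q u s a + thetaQ v (χ : G → ℂ) Q u s b := by
  have := charP_residueField hM
  rw [thetaQ, thetaQ, thetaQ, ← finsum_add_distrib (Set.toFinite _) (Set.toFinite _)]
  refine finsum_congr fun f => ?_
  rw [← mul_add]
  congr 1
  have hc := (isCentralElt_blockIdemBar f.2).commute
  have hzero : ∀ {x y : MonoidAlgebra (Res M) G}, InvUnder Q x → InvUnder Q y → x * y = 0 →
      cutBr M Q f.1 x * cutBr M Q f.1 y = 0 := fun {x y} hx hy hxy => by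
    rw [cutBr, cutBr, ← map_mul, mul_assoc, ← mul_assoc (resC Q x), ← (hc (resC Q x)).eq,
      mul_assoc, ← mul_assoc, blockIdemBar_mul_self f.2, ← resC_mul h.1 hx hy, hxy, resC_zero,
      mul_zero, map_zero]
  rw [show cutBr M Q f.1 (a + b) = cutBr M Q f.1 a + cutBr M Q f.1 b by
    simp only [cutBr, resC_add, mul_add, map_add]]
  exact sv_add hM χ h.2 (cutBr_mul_self hM h.1 f.2 ha haQ) (invUnder_cutBr f.2 h.3 hag)
    (cutBr_mul_self hM h.1 f.2 hb hbQ) (invUnder_cutBr f.2 h.3 hbg) (hzero haQ hbQ hab)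
    (hzero hbQ haQ hba)

theorem thetaQ_equiv {a c : MonoidAlgebra (Res M) G} (hac : a * c * (a * c) = a * c)
    (hca : c * a * (c * a) = c * a) (haQ : InvUnder Q a) (hcQ : InvUnder Q c)
    (hag : InvUnder (Subgroup.zpowers (u * s)) a) (hcg : InvUnder (Subgroup.zpowers (u * s)) c) :
    thetaQ v (χ : G → ℂ) Q u s (a * c) = thetaQ v (χ : G → ℂ) Q u s (c * a) := by
  have := charP_residueField hM
  refine finsum_congr fun f => ?_
  congr 1
  have hc := (isCentralElt_blockIdemBar f.2).commute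
  have hsplit : ∀ {x y : MonoidAlgebra (Res M) G}, InvUnder Q x → InvUnder Q y →
      cutBr M Q f.1 x * cutBr M Q f.1 y = cutBr M Q f.1 (x * y) := fun {x y} hx hy => by
    rw [cutBr, cutBr, cutBr, ← map_mul, mul_assoc, ← mul_assoc (resC Q x), ← (hc (resC Q x)).eq,
      mul_assoc, ← mul_assoc, blockIdemBar_mul_self f.2, resC_mul h.1 hx hy]
  exact sv_equiv hM χ h.2 (cutBr_mul_self hM h.1 f.2 hac (haQ.mul hcQ))
    (invUnder_cutBr f.2 h.3 (hag.mul hcg)) (cutBr_mul_self hM h.1 f.2 hca (hcQ.mul haQ))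
    (invUnder_cutBr f.2 h.3 (hcg.mul hag)) (invUnder_cutBr f.2 h.3 hag)
    (invUnder_cutBr f.2 h.3 hcg) (hsplit haQ hcQ) (hsplit hcQ haQ)

omit h in
theorem thetaQ_zero (h : LocalArg p Q u s) :
    thetaQ v (χ : G → ℂ) Q u s (0 : MonoidAlgebra (Res M) G) = 0 := by
  refine finsum_eq_zero_of_forall_eq_zero fun f => ?_
  rw [cutBr, resC_zero, mul_zero, map_zero, sv_zero hM χ h.2, mul_zero]

/-- If the Brauer image of `i` lies in one block, the local sum is a twisted trace of a lift. -/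
theorem thetaQ_eq_single {i : MonoidAlgebra (Res M) G} (hi : i * i = i) (hiQ : InvUnder Q i)
    (hig : InvUnder (Subgroup.zpowers (u * s)) i) (hQu : Subgroup.zpowers u ≤ Q)
    {f₀ : Set (IrrCharacter (Subgroup.centralizer (Q : Set G)))} (hf₀ : IsPBlock M f₀)
    (hone : blockIdemBar M f₀ * resC Q i = resC Q i) (hQu' : Q ≤ Subgroup.zpowers u) :
    thetaQ v (χ : G → ℂ) Q u s i = v u ⟨Q, f₀⟩ * sv (χ : G → ℂ) (u * s) i := by
  rw [thetaQ, finsum_eq_single _ ⟨f₀, hf₀⟩ fun f hf => ?_]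
  · congr 1
    obtain rfl : Q = Subgroup.zpowers u := le_antisymm hQu' hQu
    refine sv_congr hM χ h.2 (cutBr_mul_self hM h.1 hf₀ hi hiQ) (invUnder_cutBr hf₀ h.3 hig)
      hi hig ?_
    rw [cutBr, resC, resElt_inclElt, hone]
  · rw [cutBr, ← hone, ← mul_assoc, blockIdemBar_mul_of_ne f.2 hf₀ fun e => hf (Subtype.ext e),
      zero_mul, map_zero, sv_zero hM χ h.2, mul_zero]

omit h in
theorem sv_conj (g : G) {w u : G} (hw : IsPPart p w u) (hw' : IsPPart p (g * w * g⁻¹) (g * u * g⁻¹))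
    {x : MonoidAlgebra (Res M) G} (hx : x * x = x) (hxi : InvUnder (Subgroup.zpowers w) x) :
    sv (χ : G → ℂ) (g * w * g⁻¹) (conjAlg g x) = sv (χ : G → ℂ) w x := by
  obtain ⟨q, hq, hqi, hqr⟩ := exists_lift_idem hx hxi
  have hconj : ∀ {R : Type} [CommRing R] {a : MonoidAlgebra R G}, InvUnder (Subgroup.zpowers w) a →
      InvUnder (Subgroup.zpowers (g * w * g⁻¹)) (conjAlg g a) := by
    intro R _ a ha
    refine invUnder_of_conjAlg fun y hy => ?_
    obtain ⟨n, rfl⟩ := hy
    show conjAlg ((g * w * g⁻¹) ^ n) _ = _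
    rw [conjAlg_conjAlg, show (g * w * g⁻¹) ^ n * g = g * w ^ n by
      rw [← MulAut.conj_apply, ← map_zpow, MulAut.conj_apply]; group,
      ← conjAlg_conjAlg, conjAlg_eq_self ha (Subgroup.zpow_mem _ (Subgroup.mem_zpowers w) n)]
  have hred : red M (conjAlg g q) = conjAlg g x := by
    refine MonoidAlgebra.ext (Finsupp.ext fun y => ?_)
    simp [← hqr]
  rw [sv_eq hM χ hw' (by rw [← conjAlg_mul, hx]) (hconj hxi) (q := conjAlg g q)
      (by rw [← conjAlg_mul, hq]) (hconj hqi) (by rw [hred]),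
    sv_eq hM χ hw hx hxi hq hqi (by rw [hqr])]
  refine Fintype.sum_equiv (MulAut.conj g⁻¹).toEquiv _ _ fun y => ?_
  simp only [MulEquiv.toEquiv_eq_coe, MulEquiv.coe_toEquiv, MulAut.conj_apply, inv_inv, coeff_conjAlg]
  congr 1
  rw [← Char.IsIrr.isClassFunction χ.2 (g⁻¹ * y * g * w) g]
  congr 1
  group

omit h hM [Fact p.Prime] in
theorem cutBr_conjPair (g : G) {Q : Subgroup G}
    {f : Set (IrrCharacter (Subgroup.centralizer (Q : Set G)))} (hf : IsPBlock M f)
    (i : MonoidAlgebra (Res M) G) :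
    cutBr M (Q.map (MulAut.conj g).toMonoidHom) (conjBlock Q g f) (conjAlg g i) =
      conjAlg g (cutBr M Q f i) := by
  classical
  rw [cutBr, cutBr, map_mul, map_mul, conjAlg_mul]
  congr 1
  · exact subIdem_conjBlock Q g hf
  · refine MonoidAlgebra.ext (Finsupp.ext fun x => ?_)
    rw [coeff_conjAlg, coeff_inclElt_resC, coeff_inclElt_resC, coeff_conjAlg]
    refine if_congr ?_ rfl rfl
    have := mem_centralizer_map_conj_iff Q g (g⁻¹ * x * g)
    rw [show g * (g⁻¹ * x * g) * g⁻¹ = x by group] at this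
    exact this.symm

/-- The local sums are equivariant. -/
theorem thetaQ_conj (hv : ∀ (x : G) (a : BrauerPairIdx G), u ∈ a.1 →
      v (x * u * x⁻¹) (conjPair x a) = v u a) (hu : u ∈ Q) (g : G)
    (hgh : LocalArg p (Q.map (MulAut.conj g).toMonoidHom) (g * u * g⁻¹) (g * s * g⁻¹))
    {i : MonoidAlgebra (Res M) G} (hi : i * i = i) (hiQ : InvUnder Q i)
    (hig : InvUnder (Subgroup.zpowers (u * s)) i) :
    thetaQ v (χ : G → ℂ) (Q.map (MulAut.conj g).toMonoidHom) (g * u * g⁻¹) (g * s * g⁻¹)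
      (conjAlg g i) = thetaQ v (χ : G → ℂ) Q u s i := by
  let e : {f : Set (IrrCharacter (Subgroup.centralizer (Q : Set G))) // IsPBlock M f} ≃
      {f : Set (IrrCharacter (Subgroup.centralizer
        ((Q.map (MulAut.conj g).toMonoidHom : Subgroup G) : Set G))) // IsPBlock M f} :=
    { toFun := fun f => ⟨conjBlock Q g f.1, by rw [conjBlock_eq]; exact isPBlock_mapBlock _ f.2⟩
      invFun := fun f => ⟨mapBlock (centEquiv Q g) f.1, isPBlock_mapBlock _ f.2⟩
      left_inv := fun f => Subtype.ext (by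
        show mapBlock (centEquiv Q g) (conjBlock Q g f.1) = f.1
        rw [conjBlock_eq]
        exact mapBlock_symm (centEquiv Q g).symm f.1)
      right_inv := fun f => Subtype.ext (by
        show conjBlock Q g (mapBlock (centEquiv Q g) f.1) = f.1
        rw [conjBlock_eq, mapBlock_symm]) }
  symm
  refine finsum_eq_of_bijective e e.bijective fun f => ?_
  show _ = v (g * u * g⁻¹) (conjPair g ⟨Q, f.1⟩) * sv _ _ (cutBr M _ (conjBlock Q g f.1) _)
  rw [hv g _ hu, cutBr_conjPair g f.2,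
    show g * u * g⁻¹ * (g * s * g⁻¹) = g * (u * s) * g⁻¹ by group]
  congr 1
  refine (sv_conj hM χ g h.2 ?_ (cutBr_mul_self hM h.1 f.2 hi hiQ)
    (invUnder_cutBr f.2 h.3 hig)).symm
  have := hgh.2
  rwa [show g * u * g⁻¹ * (g * s * g⁻¹) = g * (u * s) * g⁻¹ by group] at this

end CfsgLib.Star
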