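import Cfsg.Agent.Lib.Blocks.Star.Corner
import Cfsg.Agent.Lib.Blocks.Star.Theta
import Cfsg.Agent.Lib.Pairs.Sylow
import Cfsg.Agent.Lib.PGroups.Basic
import Cfsg.Agent.Lib.Char.Monomial
import Cfsg.Agent.Lib.Char.Virtual

/-!
# Integrality of the local sums on a product of a `p`-group and a `p'`-group

Every idempotent fixed by `U × S` is a sum of primitive ones.  If the Brauer image at `U` of a
primitive one is nonzero, its Brauer images lie in the blocks below one pair on `U`; otherwise it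
is a relative trace from a maximal subgroup and its sums are divisible by `p`.
-/

namespace CfsgLib.Star

open Cfsg CfsgLib.Blocks CfsgLib.Pairs MonoidAlgebra

variable {G : Type*} [Group G] [Fintype G] {M : Ideal AlgInt} [M.IsPrime] {p : ℕ} [Fact p.Prime]

omit [Fintype G] in
theorem exists_maximal_normal [Finite G] {Q U : Subgroup G} (hU : IsPGroup p U) (h : Q < U) :
    ∃ W : Subgroup G, Q ≤ W ∧ W < U ∧ U ≤ Subgroup.normalizer (W : Set G) ∧
      (W.subgroupOf U).index = p := by
  have hne : Q.subgroupOf U ≠ ⊤ := fun e => h.not_ge (Subgroup.subgroupOf_eq_top.1 e)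
  obtain ⟨K, hK, hle⟩ := (eq_top_or_exists_le_coatom (Q.subgroupOf U)).resolve_left hne
  have hn : K.Normal := CfsgLib.PGroups.normal_of_isCoatom' hU hK
  have hidx : K.index = p := CfsgLib.PGroups.index_of_isCoatom hU hK
  have hKU : (K.map U.subtype).subgroupOf U = K := Subgroup.comap_map_eq_self_of_injective
    U.subtype_injective K
  refine ⟨K.map U.subtype, ?_, ?_, ?_, by rw [hKU, hidx]⟩
  · intro q hq
    exact ⟨⟨q, h.le hq⟩, hle hq, rfl⟩
  · refine lt_of_le_of_ne (Subgroup.map_subtype_le K) fun e => hK.1 ?_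
    rw [← hKU, e, Subgroup.subgroupOf_self]
  · have : ((K.map U.subtype).subgroupOf U).Normal := by rw [hKU]; exact hn
    exact Subgroup.le_normalizer_of_normal_subgroupOf (Subgroup.map_subtype_le K)

/-- A weight on pairs which is a generalized character on the subgroup of every pair. -/
structure IsWeight (p : ℕ) (M : Ideal AlgInt) (v : G → BrauerPairIdx G → ℂ) : Prop where
  conj : ∀ (x u : G) (a : BrauerPairIdx G), u ∈ a.1 → v (x * u * x⁻¹) (conjPair x a) = v u a
  local_char : ∀ a : BrauerPairIdx G, IsBrauerPair p M a.1 a.2 → ∃ L : G → ℂ,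
    IsGeneralizedCharacter a.1 (fun x : a.1 => L x) ∧
    ∀ u ∈ a.1, ∀ f, SubpairLE p M (Subgroup.zpowers u) f a.1 a.2 → v u ⟨Subgroup.zpowers u, f⟩ = L u

theorem conjAlg_inv_cancel {R : Type*} [CommRing R] (g : G) (a : MonoidAlgebra R G) :
    conjAlg g⁻¹ (conjAlg g a) = a := by rw [conjAlg_conjAlg, inv_mul_cancel, conjAlg_one_elt]

theorem conjAlg_cancel_inv {R : Type*} [CommRing R] (g : G) (a : MonoidAlgebra R G) :
    conjAlg g (conjAlg g⁻¹ a) = a := by rw [conjAlg_conjAlg, mul_inv_cancel, conjAlg_one_elt]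

/-- Conjugation on a fixed algebra. -/
noncomputable def fixConj {R : Type*} [CommRing R] (H : Subgroup G) (g : G)
    (h : ∀ e : MonoidAlgebra R G, InvUnder H e → InvUnder H (conjAlg g e))
    (h' : ∀ e : MonoidAlgebra R G, InvUnder H e → InvUnder H (conjAlg g⁻¹ e)) :
    fixAlg R H ≃ₐ[R] fixAlg R H where
  toFun e := ⟨conjAlg g e.1, h e.1 e.2⟩
  invFun e := ⟨conjAlg g⁻¹ e.1, h' e.1 e.2⟩
  left_inv e := Subtype.ext (conjAlg_inv_cancel g e.1)
  right_inv e := Subtype.ext (conjAlg_cancel_inv g e.1)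
  map_mul' a b := Subtype.ext (conjAlg_mul g a.1 b.1)
  map_add' a b := Subtype.ext (conjAlg_add g a.1 b.1)
  commutes' r := Subtype.ext (conjAlg_of_isCentralElt g (by
    show IsCentralElt (algebraMap R (MonoidAlgebra R G) r)
    rw [Algebra.algebraMap_eq_smul_one]
    exact IsCentralElt.one.smul r))

variable (hM : IsPModular p M)
include hM

omit [Fact p.Prime] hM in
/-- The trace of an idempotent against a linear character of a product of commuting subgroups. -/
theorem exists_int_sum_tr (χ : IrrCharacter G) {U S : Subgroup G} [Fintype U] [Fintype S]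
    (hc : ∀ s ∈ S, ∀ u ∈ U, Commute s u) {α β : G → ℂ}
    (hα : ∀ x ∈ U, ∀ y ∈ U, α (x * y) = α x * α y) (hβ : ∀ x ∈ S, ∀ y ∈ S, β (x * y) = β x * β y)
    {q : MonoidAlgebra (localRing M) G} (hq : q * q = q) (hqU : InvUnder U q) (hqS : InvUnder S q) :
    ∃ n : ℤ, ∑ u : U, ∑ s : S, α u * β s * tr (χ : G → ℂ) ((u : G) * s) q =
      n * (Nat.card U * Nat.card S) := by
  classical
  obtain ⟨χ, d, ρ, hρ, rfl⟩ := χ
  set c : ℂ := (Nat.card U * Nat.card S : ℂ) with hcdef
  have hc0 : c ≠ 0 := mul_ne_zero (Nat.cast_ne_zero.2 Nat.card_pos.ne') (Nat.cast_ne_zero.2 Nat.card_pos.ne')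
  let e : MonoidAlgebra ℂ G := c⁻¹ • ∑ x : U × S, (α x.1 * β x.2) • single ((x.1 : G) * x.2) (1 : ℂ)
  have hee : e * e = e := by
    let T : MonoidAlgebra ℂ G := ∑ x : U × S, (α x.1 * β x.2) • single ((x.1 : G) * x.2) (1 : ℂ)
    have hy : ∀ y : U × S, T * ((α y.1 * β y.2) • single ((y.1 : G) * y.2) (1 : ℂ)) = T := fun y => by
      simp only [T, Finset.sum_mul, smul_mul_smul_comm, single_mul_single, mul_one]
      refine Fintype.sum_equiv ((Equiv.mulRight y.1).prodCongr (Equiv.mulRight y.2)) _ _ fun x => ?_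
      show _ = (α ((x.1 * y.1 : U) : G) * β ((x.2 * y.2 : S) : G)) •
        single (((x.1 * y.1 : U) : G) * ((x.2 * y.2 : S) : G)) (1 : ℂ)
      rw [Subgroup.coe_mul, Subgroup.coe_mul, hα _ x.1.2 _ y.1.2, hβ _ x.2.2 _ y.2.2]
      congr 1
      · ring
      · congr 1
        rw [mul_assoc, ← mul_assoc (x.2 : G), (hc _ x.2.2 _ y.1.2).eq]
        simp only [mul_assoc]
    have hTT : T * T = c • T := by
      conv_lhs => arg 2; simp only [T]
      rw [Finset.mul_sum, Finset.sum_congr rfl fun y _ => hy y, Finset.sum_const, Finset.card_univ,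
        Fintype.card_prod, ← Nat.card_eq_fintype_card, ← Nat.card_eq_fintype_card,
        ← Nat.cast_smul_eq_nsmul ℂ, Nat.cast_mul, hcdef]
    show (c⁻¹ • T) * (c⁻¹ • T) = c⁻¹ • T
    rw [smul_mul_smul_comm, hTT, smul_smul]
    congr 1
    field_simp
  have hcomm : Commute (inc M q) e := by
    refine ((Commute.sum_right _ _ _) fun x _ => Commute.smul_right ?_ _).smul_right _
    have hi : InvUnder (U ⊔ S) q := invUnder_sup hqU hqS
    have hxm : (x.1 : G) * x.2 ∈ U ⊔ S :=
      mul_mem (Subgroup.mem_sup_left x.1.2) (Subgroup.mem_sup_right x.2.2)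
    refine MonoidAlgebra.ext (Finsupp.ext fun w => ?_)
    rw [coeff_mul_eq_sum, coeff_mul_eq_sum]
    rw [Finset.sum_eq_single (w * ((x.1 : G) * x.2)⁻¹) (fun y _ hy => ?_) (by simp),
      Finset.sum_eq_single ((x.1 : G) * x.2) (fun y _ hy => ?_) (by simp)]
    · simp only [coeff_inc, coeff_single, mul_inv_rev, inv_inv]
      rw [Finsupp.single_apply, if_pos (by group), Finsupp.single_apply, if_pos rfl, mul_one, one_mul]
      have := hi _ (inv_mem hxm) (w * ((x.1 : G) * x.2)⁻¹)
      simp only [mul_inv_rev, inv_inv] at this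
      rw [← this]
      congr 2
      group
    · rw [coeff_single, Finsupp.single_apply, if_neg (Ne.symm hy), zero_mul]
    · rw [coeff_single, Finsupp.single_apply, if_neg, mul_zero]
      intro e'
      exact hy (by rw [e']; group)
  have hqq : inc M q * inc M q = inc M q := by rw [← map_mul, hq]
  have hid : IsIdempotentElem (ρ.asAlgebraHom (inc M q * e)) := by
    rw [IsIdempotentElem, ← map_mul, mul_assoc, ← mul_assoc e, ← hcomm.eq, mul_assoc (inc M q) e e,
      hee, ← mul_assoc, hqq]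
  have htr := ((LinearMap.isProj_range_iff_isIdempotentElem _).2 hid).trace
  refine ⟨(Module.finrank ℂ (LinearMap.range (ρ.asAlgebraHom (inc M q * e))) : ℤ), ?_⟩
  rw [Int.cast_natCast, ← htr, trace_asAlgebraHom]
  have hcoef : ∀ w, (inc M q * e).coeff w = c⁻¹ * ∑ x : U × S,
      α x.1 * β x.2 * (q.coeff (w * ((x.1 : G) * x.2)⁻¹) : ℂ) := fun w => by
    simp only [e, mul_smul_comm, Finset.mul_sum, coeff_smul, Finsupp.smul_apply, coeff_sum,
      Finsupp.coe_finsetSum, Finset.sum_apply, smul_eq_mul]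
    refine Finset.sum_congr rfl fun x _ => ?_
    congr 2
    rw [coeff_mul_eq_sum, Finset.sum_eq_single (w * ((x.1 : G) * x.2)⁻¹) (fun y _ hy => ?_) (by simp)]
    · simp [coeff_single, Finsupp.single_apply, mul_assoc]
    · rw [coeff_single, Finsupp.single_apply, if_neg, mul_zero]
      intro e'
      exact hy (by rw [e']; group)
  simp only [hcoef, Finset.mul_sum, Finset.sum_mul, tr]
  conv_rhs => rw [Finset.sum_comm, Fintype.sum_prod_type]
  refine Finset.sum_congr rfl fun u _ => Finset.sum_congr rfl fun s _ => ?_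
  refine Fintype.sum_equiv (Equiv.mulRight ((u : G) * s)) _ _ fun w => ?_
  simp only [Equiv.coe_mulRight, mul_inv_cancel_right]
  field_simp

omit [M.IsPrime] [Fact p.Prime] hM in
theorem tr_conj [M.IsPrime] (χ : IrrCharacter G) {v : G} {q : MonoidAlgebra (localRing M) G}
    (hq : InvUnder (Subgroup.zpowers v) q) (x : G) :
    tr (χ : G → ℂ) (v * x * v⁻¹) q = tr (χ : G → ℂ) x q := by
  symm
  refine Fintype.sum_equiv (MulAut.conj v).toEquiv _ _ fun w => ?_
  simp only [MulEquiv.toEquiv_eq_coe, MulEquiv.coe_toEquiv, MulAut.conj_apply]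
  rw [hq v (Subgroup.mem_zpowers v) w, show v * w * v⁻¹ * (v * x * v⁻¹) = v * (w * x) * v⁻¹ by group,
    Char.IsIrr.isClassFunction χ.2 (w * x) v]

omit [Fact p.Prime] hM in
/-- The trace of an idempotent against a linear and a generalized character. -/
theorem exists_int_sum_tr_gen (χ : IrrCharacter G) {U S : Subgroup G} [Fintype U] [Fintype S]
    (hU : Group.IsNilpotent U) (hc : ∀ s ∈ S, ∀ u ∈ U, Commute s u) {α β L : G → ℂ} (hα1 : α 1 = 1)
    (hα : ∀ x ∈ U, ∀ y ∈ U, α (x * y) = α x * α y) (hβ : ∀ x ∈ S, ∀ y ∈ S, β (x * y) = β x * β y)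
    (hL : IsGeneralizedCharacter U (fun u : U => L u))
    {q : MonoidAlgebra (localRing M) G} (hq : q * q = q) (hqU : InvUnder U q) (hqS : InvUnder S q) :
    ∃ n : ℤ, ∑ u : U, ∑ s : S, α u * β s * L u * tr (χ : G → ℂ) ((u : G) * s) q =
      n * (Nat.card U * Nat.card S) := by
  classical
  have := Fintype.ofFinite (IrrCharacter U)
  let F : U → ℂ := fun u => α u * ∑ s : S, β s * tr (χ : G → ℂ) ((u : G) * s) q
  have hcl : IsClassFunction U (fun u => starRingEnd ℂ (F u)) := fun u v => by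
    show starRingEnd ℂ (F (v * u * v⁻¹)) = starRingEnd ℂ (F u)
    congr 1
    have hαv : α ((v * u * v⁻¹ : U) : G) = α u := by
      have hvi : α v * α (v : G)⁻¹ = 1 := by
        rw [← hα _ v.2 _ (inv_mem v.2), mul_inv_cancel, hα1]
      simp only [Subgroup.coe_mul, Subgroup.coe_inv]
      rw [hα _ (mul_mem v.2 u.2) _ (inv_mem v.2), hα _ v.2 _ u.2]
      linear_combination α (u : G) * hvi
    simp only [F, hαv]
    congr 1
    refine Finset.sum_congr rfl fun s _ => congrArg _ ?_
    rw [show ((v * u * v⁻¹ : U) : G) * s = (v : G) * ((u : G) * s) * (v : G)⁻¹ by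
      simp only [Subgroup.coe_mul, Subgroup.coe_inv]
      rw [mul_assoc _ _ (s : G), ← (hc s s.2 _ (inv_mem v.2)).eq]
      group]
    exact tr_conj χ (hqU.mono (Subgroup.zpowers_le.2 v.2)) _
  have hψ : ∀ ψ : IrrCharacter U, ∃ n : ℤ,
      ∑ u : U, (ψ : U → ℂ) u * F u = n * (Nat.card U * Nat.card S) := by
    intro ψ
    obtain ⟨H, l, hl⟩ := Clifford.isMonomial_of_isNilpotent (ψ : U → ℂ) ψ.2
    let φ : H →* G := U.subtype.comp H.subtype
    have hφ : Function.Injective φ := Subtype.val_injective.comp Subtype.val_injective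
    let K : Subgroup G := H.map U.subtype
    let α' : G → ℂ := Function.extend φ (fun h => α (φ h) * (l h : ℂ)) 0
    have hα' : ∀ h : H, α' (φ h) = α (φ h) * (l h : ℂ) := fun h => hφ.extend_apply _ _ h
    have hα'm : ∀ x ∈ K, ∀ y ∈ K, α' (x * y) = α' x * α' y := by
      rintro _ ⟨x, hx, rfl⟩ _ ⟨y, hy, rfl⟩
      show α' (φ ⟨x, hx⟩ * φ ⟨y, hy⟩) = α' (φ ⟨x, hx⟩) * α' (φ ⟨y, hy⟩)
      rw [← map_mul, hα', hα', hα', map_mul φ, hα (φ ⟨x, hx⟩) x.2 (φ ⟨y, hy⟩) y.2, map_mul l, Units.val_mul]
      ring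
    have hKU : K ≤ U := Subgroup.map_subtype_le H
    obtain ⟨n, hn⟩ := exists_int_sum_tr (M := M) χ (U := K) (S := S)
      (fun s hs u hu => hc s hs u (hKU hu)) (α := α') (β := β) hα'm hβ hq (hqU.mono hKU) hqS
    have hK : Nat.card K = Nat.card H := Subgroup.card_map_of_injective Subtype.val_injective
    refine ⟨n, ?_⟩
    have h1 := Char.frobenius_reciprocity H (fun h => (l h : ℂ)) hcl
    rw [← hl] at h1
    simp only [Cfsg.classInner, Complex.conj_conj] at h1
    have h2 : ∑ h : H, (l h : ℂ) * F (h : U) = n * (Nat.card H * Nat.card S) := by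
      rw [← hK, ← hn]
      refine Fintype.sum_equiv (H.equivMapOfInjective U.subtype Subtype.val_injective).toEquiv _ _
        fun h => ?_
      simp only [F, Finset.mul_sum]
      refine Finset.sum_congr rfl fun s _ => ?_
      show _ = α' (φ h) * β s * tr (χ : G → ℂ) (φ h * s) q
      rw [hα']
      show (l h : ℂ) * (α ((h : U) : G) * (β s * tr (χ : G → ℂ) (((h : U) : G) * s) q)) =
        α ((h : U) : G) * (l h : ℂ) * β s * tr (χ : G → ℂ) (((h : U) : G) * s) q
      ring
    have hH0 : (Nat.card H : ℂ) ≠ 0 := Nat.cast_ne_zero.2 Nat.card_pos.ne'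
    have hU0 : (Nat.card U : ℂ) ≠ 0 := Nat.cast_ne_zero.2 Nat.card_pos.ne'
    rw [h2] at h1
    field_simp at h1
    linear_combination h1
  choose n hn using hψ
  obtain ⟨m, hm⟩ := Char.IsGen.exists_sum hL
  refine ⟨∑ ψ : IrrCharacter U, m ψ * n ψ, ?_⟩
  push_cast
  rw [Finset.sum_mul]
  calc ∑ u : U, ∑ s : S, α u * β s * L u * tr (χ : G → ℂ) ((u : G) * s) q
      = ∑ u : U, (∑ ψ : IrrCharacter U, (m ψ : ℂ) * (ψ : U → ℂ) u) * F u := by
        refine Finset.sum_congr rfl fun u _ => ?_
        have hLu : L u = ∑ ψ : IrrCharacter U, (m ψ : ℂ) * (ψ : U → ℂ) u := by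
          have := congrFun hm u
          simpa only [Finset.sum_apply, Pi.smul_apply, smul_eq_mul] using this
        rw [← hLu]
        simp only [F, Finset.mul_sum]
        exact Finset.sum_congr rfl fun s _ => by ring
    _ = ∑ ψ : IrrCharacter U, (m ψ : ℂ) * n ψ * (Nat.card U * Nat.card S) := by
        simp only [Finset.sum_mul]
        rw [Finset.sum_comm]
        refine Finset.sum_congr rfl fun ψ _ => ?_
        rw [mul_assoc (m ψ : ℂ), ← hn ψ, Finset.mul_sum]
        exact Finset.sum_congr rfl fun u _ => by ring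

section Prim

variable {U S : Subgroup G} {i : fixAlg (Res M) (U ⊔ S)} (hi : IsPrim i)
include hi

omit [Fact p.Prime] hM in
theorem prim_idem : (i : MonoidAlgebra (Res M) G) * i = i := congrArg Subtype.val hi.1

omit [Fact p.Prime] hM in
theorem prim_dichotomy {x : MonoidAlgebra (Res M) G} (hx : InvUnder (U ⊔ S) x)
    (h1 : (i : MonoidAlgebra (Res M) G) * x = x) (h2 : x * (i : MonoidAlgebra (Res M) G) = x) :
    IsNilpotent x ∨ ∃ y : MonoidAlgebra (Res M) G, InvUnder (U ⊔ S) y ∧ x * y = i := by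
  rcases hi.dichotomy (Res M) (x := ⟨x, hx⟩) (Subtype.ext h1) (Subtype.ext h2) with h | ⟨y, -, hy, -⟩
  · exact Or.inl (h.map (fixAlg (Res M) (U ⊔ S)).val)
  · exact Or.inr ⟨y.1, y.2, congrArg Subtype.val hy⟩

variable (hU : IsPGroup p U) (hc : ∀ s ∈ S, ∀ u ∈ U, Commute s u)
include hU hc

/-- The Brauer image of a primitive idempotent lies in one block. -/
theorem exists_block_of_prim (hne : resC U (i : MonoidAlgebra (Res M) G) ≠ 0) :
    ∃ f, IsPBlock M f ∧ blockIdemBar M f * resC U (i : MonoidAlgebra (Res M) G) = resC U i := by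
  classical
  have := charP_residueField hM
  have := Fintype.ofFinite
    {f : Set (IrrCharacter (Subgroup.centralizer (U : Set G))) // IsPBlock M f}
  have hSC : S ≤ Subgroup.centralizer (U : Set G) := fun s hs =>
    Subgroup.mem_centralizer_iff.2 fun u hu => (hc s hs u hu).eq.symm
  by_contra hcon
  push Not at hcon
  set ι : MonoidAlgebra (Res M) G := (i : MonoidAlgebra (Res M) G) with hι
  have hιU : InvUnder U ι := i.2.mono le_sup_left
  have hzero : ∀ f : {f : Set (IrrCharacter (Subgroup.centralizer (U : Set G))) // IsPBlock M f},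
      blockIdemBar M f.1 * resC U ι = 0 := by
    intro f
    set e := subIdem M (Subgroup.centralizer (U : Set G)) f.1 with he
    have heH : InvUnder (U ⊔ S) e := invUnder_sup
      (InvUnder.inclElt (fun u hu => normalizer_le_normalizer_centralizer U (Subgroup.le_normalizer hu))
        fun u hu k k' hk => by
          rw [show k' = k from Subtype.ext (by
            rw [hk, Subgroup.mem_centralizer_iff.1 k.2 u hu, mul_inv_cancel_right])])
      (invUnder_subIdem f.2 fun s hs => stabilizesBlock_of_mem (hSC hs))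
    have heU : InvUnder U e := heH.mono le_sup_left
    set x := ι * e * ι with hx
    have hres : resC U x = blockIdemBar M f.1 * resC U ι := by
      rw [hx, resC_mul hU (hιU.mul heU) hιU, resC_mul hU hιU heU]
      rw [show resC U e = blockIdemBar M f.1 from resElt_inclElt _ _,
        ← ((isCentralElt_blockIdemBar f.2).commute (resC U ι)).eq, mul_assoc,
        ← resC_mul hU hιU hιU, prim_idem hi]
    rcases prim_dichotomy hi (x := x) ((i.2.mul heH).mul i.2)
      (by rw [hx, ← mul_assoc, ← mul_assoc, prim_idem hi])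
      (by rw [hx, mul_assoc _ ι ι, prim_idem hi]) with hn | ⟨y, hy, hxy⟩
    · obtain ⟨n, hn⟩ := hn
      rw [← hres]
      refine IsIdempotentElem.eq_zero_of_isNilpotent ?_ ⟨n, by
        rw [← resC_pow hU (((hιU.mul heU).mul hιU : InvUnder U x)), hn, resC_zero]⟩
      rw [IsIdempotentElem, hres, mul_assoc, ← mul_assoc (resC U ι),
        ← ((isCentralElt_blockIdemBar f.2).commute (resC U ι)).eq, mul_assoc, ← mul_assoc,
        blockIdemBar_mul_self f.2, ← resC_mul hU hιU hιU, prim_idem hi]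
    · exfalso
      refine hcon f.1 f.2 ?_
      have h2 := congrArg (resC U) hxy
      rw [resC_mul hU (((hιU.mul heU).mul hιU : InvUnder U x)) (hy.mono le_sup_left), hres] at h2
      rw [← h2, ← mul_assoc, ← mul_assoc, blockIdemBar_mul_self f.2]
  refine hne ?_
  calc resC U ι = (∑ f : {f : Set (IrrCharacter (Subgroup.centralizer (U : Set G))) // IsPBlock M f},
        blockIdemBar M f.1) * resC U ι := by rw [sum_blockIdemBar, one_mul]
    _ = 0 := by rw [Finset.sum_mul]; exact Finset.sum_eq_zero fun f _ => hzero f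

variable (hS : ¬ p ∣ Nat.card S)
include hS

/-- The Brauer images of a primitive idempotent follow the pairs below its pair. -/
theorem below_of_prim (hne : resC U (i : MonoidAlgebra (Res M) G) ≠ 0)
    {f : Set (IrrCharacter (Subgroup.centralizer (U : Set G)))} (hf : IsPBlock M f)
    (hone : blockIdemBar M f * resC U (i : MonoidAlgebra (Res M) G) = resC U i) :
    ∀ (m : ℕ) (Q : Subgroup G), Q ≤ U → Nat.card U - Nat.card Q ≤ m →
      ∀ f', SubpairLE p M Q f' U f →
        blockIdemBar M f' * resC Q (i : MonoidAlgebra (Res M) G) = resC Q i := by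
  classical
  have := charP_residueField hM
  have hUf : IsBrauerPair p M U f := ⟨hU, hf⟩
  set ι : MonoidAlgebra (Res M) G := (i : MonoidAlgebra (Res M) G) with hι
  have hιU : InvUnder U ι := i.2.mono le_sup_left
  have hιS : InvUnder S ι := i.2.mono le_sup_right
  intro m
  induction m using Nat.strong_induction_on with
  | _ m ih =>
    intro Q hQU hm f' hle
    rcases eq_or_lt_of_le hQU with rfl | hlt
    · rw [(unique_below hM (Nat.card Q) (Nat.sub_le _ _) hUf).2 f' f hle Relation.ReflTransGen.refl]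
      exact hone
    have hf' : IsPBlock M f' := (isBrauerPair_of_subpairLE (a := ⟨Q, f'⟩) (b := ⟨U, f⟩) hle hUf).2
    have hQp : IsPGroup p Q := hU.to_le hQU
    have hSC : S ≤ Subgroup.centralizer (Q : Set G) := fun s hs =>
      Subgroup.mem_centralizer_iff.2 fun u hu => (hc s hs u (hQU hu)).eq.symm
    set R := U ⊓ Subgroup.normalizer (Q : Set G) with hR
    have hQR : Q ≤ R := le_inf hQU Subgroup.le_normalizer
    set E := subIdem M (Subgroup.centralizer (Q : Set G)) f' with hE
    have hEdef : E = inclElt _ (blockIdemBar M f') := rfl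
    obtain ⟨g₀, hg₀, -⟩ := normalSubpair_of_le hM hUf hle hQR inf_le_left inf_le_right
    obtain ⟨-, -, -, -, hstR, -⟩ := isNormalSubpair_iff.1 hg₀
    have hER : InvUnder R E := invUnder_subIdem hf' hstR
    have hES : InvUnder S E := invUnder_subIdem hf' fun s hs => stabilizesBlock_of_mem (hSC hs)
    set ε := resC Q ι * (1 - blockIdemBar M f') with hε
    set w : MonoidAlgebra (Res M) G := inclElt _ ε with hw
    have hwe : w = inclElt _ (resC Q ι) * (1 - E) := by rw [hw, hε, map_mul, map_sub, map_one, hEdef]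
    have hRN : R ≤ Subgroup.normalizer (Subgroup.centralizer (Q : Set G) : Set G) :=
      inf_le_right.trans (normalizer_le_normalizer_centralizer Q)
    have h1inv : ∀ H : Subgroup G, InvUnder H (1 : MonoidAlgebra (Res M) G) := fun H =>
      InvUnder.of_isCentralElt H IsCentralElt.one
    have hwR : InvUnder R w := hwe ▸
      (invUnder_incl_resC hRN (hιU.mono inf_le_left)).mul ((h1inv R).sub hER)
    have hwS : InvUnder S w := hwe ▸
      (invUnder_incl_resC (hSC.trans Subgroup.le_normalizer) hιS).mul ((h1inv S).sub hES)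
    have hwT : ∀ T : Subgroup G, Q < T → T ≤ R → resC T w = 0 := by
      intro T hQT hTR
      have hTU : T ≤ U := hTR.trans inf_le_left
      have hTp : IsPGroup p T := hU.to_le hTU
      have hTN : T ≤ Subgroup.normalizer (Q : Set G) := hTR.trans inf_le_right
      obtain ⟨g, hg, hgle⟩ := normalSubpair_of_le hM hUf hle hQT.le hTU hTN
      obtain ⟨-, hTg, -, -, hstT, hval⟩ := isNormalSubpair_iff.1 hg
      have hcard : Nat.card U - Nat.card T < m := by
        have h1 : Nat.card Q < Nat.card T := lt_of_le_of_ne (Subgroup.card_le_of_le hQT.le)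
          fun e => hQT.ne (Subgroup.eq_of_le_of_card_ge hQT.le e.ge)
        have h2 := Subgroup.card_le_of_le hTU
        omega
      have hgi := ih _ hcard T hTU le_rfl g hgle
      have hCC : Subgroup.centralizer (T : Set G) ≤ Subgroup.centralizer (Q : Set G) :=
        centralizer_le_of_le hQT.le
      have hET : InvUnder T E := invUnder_subIdem hf' hstT
      have hEC : InvUnder (Subgroup.centralizer (T : Set G)) E :=
        invUnder_subIdem hf' fun u hu => stabilizesBlock_of_mem (hCC hu)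
      have hEc : IsCentralElt (resC T E) := isCentralElt_resC hEC
      have hge : blockIdemBar M g * resC T E = blockIdemBar M g := by
        have hgc := isCentralElt_blockIdemBar hTg.2
        refine idem_eq_of_omegaBar_eq (hgc.mul hEc) hgc ?_ (blockIdemBar_mul_self hTg.2) fun ξ => ?_
        · rw [mul_assoc, ← mul_assoc (resC T E), ← (hgc.commute (resC T E)).eq, mul_assoc,
            ← resC_mul hTp hET hET, subIdem_mul_self hf', ← mul_assoc, blockIdemBar_mul_self hTg.2]
        · rw [omegaBar_mul ξ hgc hEc, omegaBar_blockIdemBar hTg.2]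
          split_ifs with hξ
          · rw [show omegaBar ξ (resC T E) = 1 from hval ξ hξ, mul_one]
          · rw [zero_mul]
      have hTN' : T ≤ Subgroup.normalizer (Subgroup.centralizer (Q : Set G) : Set G) :=
        hTR.trans hRN
      have hresi : resC T (inclElt _ (resC Q ι)) = resC T ι := by
        refine MonoidAlgebra.ext (Finsupp.ext fun c => ?_)
        rw [coeff_resC, coeff_inclElt_resC, if_pos (hCC c.2), coeff_resC]
      rw [hwe, resC_mul hTp (invUnder_incl_resC hTN' (hιU.mono hTU)) ((h1inv T).sub hET), hresi,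
        resC_sub, resC_one, ← hgi,
        ((isCentralElt_blockIdemBar hTg.2).commute (resC T ι)).eq, mul_assoc, mul_sub, mul_one, hge,
        sub_self, mul_zero]
    have hwC : ∀ x, w.coeff x ≠ 0 → x ∈ Subgroup.centralizer (Q : Set G) := fun x hx => by
      by_contra h
      exact hx (coeff_inclElt_of_notMem _ _ h)
    have hstab : ∀ x, w.coeff x ≠ 0 → ∀ u ∈ R, u * x * u⁻¹ = x → u ∈ Q := by
      intro x hx u hu hux
      by_contra huQ
      have hQT : Q < Q ⊔ Subgroup.zpowers u := lt_of_le_of_ne le_sup_left fun e =>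
        huQ (e.symm ▸ Subgroup.mem_sup_right (Subgroup.mem_zpowers u))
      have hTR : Q ⊔ Subgroup.zpowers u ≤ R := sup_le hQR (Subgroup.zpowers_le.2 hu)
      have hxT : x ∈ Subgroup.centralizer ((Q ⊔ Subgroup.zpowers u : Subgroup G) : Set G) := by
        rw [mem_centralizer_iff_le]
        refine sup_le (mem_centralizer_iff_le.1 (hwC x hx)) (Subgroup.zpowers_le.2 ?_)
        rw [mem_centralizer_singleton]
        exact (mul_inv_eq_iff_eq_mul.1 hux)
      have := congrArg (fun a => a.coeff ⟨x, hxT⟩) (hwT _ hQT hTR)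
      simp only [coeff_resC, coeff_zero, Finsupp.coe_zero, Pi.zero_apply] at this
      exact hx this
    have hcS : ∀ s ∈ S, ∀ u ∈ R, Commute s u := fun s hs u hu => hc s hs u hu.1
    have hSu : IsUnit (Nat.card S : Res M) :=
      (Ne.isUnit fun h => hS ((CharP.cast_eq_zero_iff (Res M) p _).1 h))
    obtain ⟨h, hhQ, hhS, htr, -⟩ := exists_eq_trG hQR hcS hSu hwR hwS hstab
    set a := ι * h * ι with ha
    have haQ : InvUnder Q a := ((hιU.mono hQU).mul hhQ).mul (hιU.mono hQU)
    set x := trG U Q a with hx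
    have hxH : InvUnder (U ⊔ S) x := invUnder_sup (invUnder_trG haQ)
      (invUnder_trG_of_commute ((hιS.mul hhS).mul hιS) hc)
    have hxe : x = ι * trG U Q h * ι := by rw [hx, ha, trG_mul_mul h hιU hιU]
    have hxU : resC U x = 0 := by
      refine MonoidAlgebra.ext (Finsupp.ext fun c => ?_)
      rw [coeff_resC, hx, coeff_trG_centralizer a c.2]
      have hdvd : p ∣ (Q.subgroupOf U).index := by
        obtain ⟨n, hn⟩ := IsPGroup.index hU (Q.subgroupOf U)
        rcases n with _ | n
        · rw [pow_zero, Subgroup.index_eq_one, Subgroup.subgroupOf_eq_top] at hn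
          exact absurd hn hlt.not_ge
        · rw [hn]
          exact dvd_pow_self p (Nat.succ_ne_zero n)
      rw [(CharP.cast_eq_zero_iff (Res M) p _).2 hdvd, zero_mul]
      simp
    rcases prim_dichotomy hi hxH (by rw [hxe, ← mul_assoc, ← mul_assoc, prim_idem hi])
      (by rw [hxe, mul_assoc _ ι ι, prim_idem hi]) with hn | ⟨y, hy, hxy⟩
    · obtain ⟨n, hn⟩ := hn
      have hresw : resC Q w = ε := resElt_inclElt _ _
      have hid : resC Q ι * resC Q ι = resC Q ι := by
        rw [← resC_mul hQp (hιU.mono hQU) (hιU.mono hQU), prim_idem hi]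
      have hc1 : Commute (1 - blockIdemBar M f') (resC Q ι) :=
        (Commute.one_left _).sub_left ((isCentralElt_blockIdemBar hf').commute _)
      have hxQ : resC Q x = ε := by
        rw [hx, resC_trG hQp hQU (fun v => Subgroup.mem_inf) haQ, ha,
          trG_mul_mul h (hιU.mono inf_le_left) (hιU.mono inf_le_left), htr,
          resC_mul hQp (((hιU.mono hQU).mul (hwR.mono hQR))) (hιU.mono hQU),
          resC_mul hQp (hιU.mono hQU) (hwR.mono hQR), hresw, hε, mul_assoc _ (_ * _) _,
          mul_assoc (resC Q ι) (1 - _) (resC Q ι), hc1.eq, ← mul_assoc (resC Q ι) (resC Q ι), hid,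
          ← mul_assoc, hid]
      have hzero : ε = 0 := by
        refine IsIdempotentElem.eq_zero_of_isNilpotent ?_ ⟨n, by
          rw [← hxQ, ← resC_pow hQp (hxH.mono (hQU.trans le_sup_left)), hn, resC_zero]⟩
        rw [IsIdempotentElem, hε, mul_assoc, ← mul_assoc (1 - _), hc1.eq, mul_assoc,
          show (1 - blockIdemBar M f') * (1 - blockIdemBar M f') = 1 - blockIdemBar M f' from
            IsIdempotentElem.one_sub (blockIdemBar_mul_self hf'), ← mul_assoc, hid]
      rw [hε, mul_sub, mul_one, sub_eq_zero,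
        ← ((isCentralElt_blockIdemBar hf').commute (resC Q ι)).eq] at hzero
      exact hzero.symm
    · exfalso
      refine hne ?_
      have := congrArg (resC U) hxy
      rwa [resC_mul hU (hxH.mono le_sup_left) (hy.mono le_sup_left), hxU, zero_mul, eq_comm] at this

omit hi hM [M.IsPrime] [Fintype G] in
theorem localArg_mem [Finite G] {u s : G} (hu : u ∈ U) (hs : s ∈ S) :
    LocalArg p (Subgroup.zpowers u) u s :=
  localArg_zpowers (by
      obtain ⟨k, hk⟩ := IsPGroup.iff_orderOf.1 hU ⟨u, hu⟩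
      exact ⟨k, by rw [← hk, Subgroup.orderOf_mk]⟩)
    (fun h => hS (h.trans (by
      rw [← Subgroup.orderOf_mk s hs]
      exact orderOf_dvd_natCard (⟨s, hs⟩ : S)))) (hc s hs u hu).symm

/-- The case of a primitive idempotent with nonzero Brauer image at `U`. -/
theorem exists_int_of_resC_ne_zero (hne : resC U (i : MonoidAlgebra (Res M) G) ≠ 0)
    {v : G → BrauerPairIdx G → ℂ} (hv : IsWeight p M v) (χ : IrrCharacter G) [Fintype U] [Fintype S]
    {α β : G → ℂ} (hα1 : α 1 = 1) (hα : ∀ x ∈ U, ∀ y ∈ U, α (x * y) = α x * α y)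
    (hβ : ∀ x ∈ S, ∀ y ∈ S, β (x * y) = β x * β y) :
    ∃ n : ℤ, ∑ u : U, ∑ s : S, α u * β s *
        thetaQ v (χ : G → ℂ) (Subgroup.zpowers (u : G)) u s (i : MonoidAlgebra (Res M) G) =
      n * (Nat.card U * Nat.card S) := by
  obtain ⟨f, hf, hone⟩ := exists_block_of_prim hM hi hU hc hne
  obtain ⟨L, hL, hLv⟩ := hv.local_char ⟨U, f⟩ ⟨hU, hf⟩
  set ι : MonoidAlgebra (Res M) G := (i : MonoidAlgebra (Res M) G) with hι
  obtain ⟨q, hq, hqi, hqr⟩ := exists_lift_idem (H := U ⊔ S) (prim_idem hi) i.2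
  obtain ⟨n, hn⟩ := exists_int_sum_tr_gen χ hU.isNilpotent hc hα1 hα hβ hL hq (hqi.mono le_sup_left)
    (hqi.mono le_sup_right)
  refine ⟨n, hn ▸ Finset.sum_congr rfl fun u _ => Finset.sum_congr rfl fun s _ => ?_⟩
  have hg := localArg_mem hU hc hS u.2 s.2
  have hus : Subgroup.zpowers ((u : G) * s) ≤ U ⊔ S :=
    Subgroup.zpowers_le.2 (mul_mem (Subgroup.mem_sup_left u.2) (Subgroup.mem_sup_right s.2))
  obtain ⟨f', hf', hle⟩ := exists_below hM (Nat.card U) (Nat.sub_le _ _)
    (⟨hU, hf⟩ : IsBrauerPair p M U f) (Subgroup.zpowers_le.2 u.2)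
  have hb := below_of_prim hM hi hU hc hS hne hf hone (Nat.card U) _ (Subgroup.zpowers_le.2 u.2)
    (Nat.sub_le _ _) f' hle
  rw [thetaQ_eq_single hM v χ hg (prim_idem hi)
      (i.2.mono ((Subgroup.zpowers_le.2 u.2).trans le_sup_left)) (i.2.mono hus) le_rfl hf' hb le_rfl,
    hLv u u.2 f' hle, sv_eq hM χ hg.2 (prim_idem hi) (i.2.mono hus) hq (hqi.mono hus) (by rw [hqr])]
  ring

end Prim

omit hM [Fact p.Prime] in
/-- A unit in a corner comes from one maximal subgroup. -/
theorem exists_stab_le {U S : Subgroup G} {i : fixAlg (Res M) (U ⊔ S)} (hi : IsPrim i)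
    (hc : ∀ s ∈ S, ∀ u ∈ U, Commute s u) (𝒲 : Finset (Subgroup G))
    (hN : ∀ W ∈ 𝒲, U ≤ Subgroup.normalizer (W : Set G)) :
    ∀ a : MonoidAlgebra (Res M) G, InvUnder (U ⊔ S) a →
      (∀ x, a.coeff x ≠ 0 → ∃ W ∈ 𝒲, ∀ u ∈ U, u * x * u⁻¹ = x → u ∈ W) →
      ¬ IsNilpotent ((i : MonoidAlgebra (Res M) G) * a * i) →
      ∃ W ∈ 𝒲, ∃ a' : MonoidAlgebra (Res M) G, InvUnder (U ⊔ S) a' ∧
        (∀ x, a'.coeff x ≠ 0 → ∀ u ∈ U, u * x * u⁻¹ = x → u ∈ W) ∧
        ¬ IsNilpotent ((i : MonoidAlgebra (Res M) G) * a' * i) := by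
  classical
  induction 𝒲 using Finset.induction with
  | empty =>
    intro a _ hsupp hnil
    exfalso
    refine hnil ?_
    have : a = 0 := MonoidAlgebra.ext (Finsupp.ext fun x => by
      by_contra hx
      obtain ⟨W, hW, -⟩ := hsupp x (by simpa using hx)
      simp at hW)
    rw [this, mul_zero, zero_mul]
    exact IsNilpotent.zero
  | insert W 𝒲 _ ih =>
    intro a ha hsupp hnil
    let P : G → Prop := fun x => ∀ u ∈ U, u * x * u⁻¹ = x → u ∈ W
    have hP : ∀ v ∈ U ⊔ S, ∀ x, P x → P (v * x * v⁻¹) := by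
      let K : Subgroup G :=
        { carrier := {v | ∀ x, P (v * x * v⁻¹) ↔ P x}
          one_mem' := fun x => by simp
          mul_mem' := fun {v v'} hv hv' x => by
            rw [← hv' x, ← hv (v' * x * v'⁻¹)]
            exact iff_of_eq (congrArg P (by group))
          inv_mem' := fun {v} hv x => by
            conv_rhs => rw [show x = v * (v⁻¹ * x * v) * v⁻¹ by group, hv]
            exact iff_of_eq (congrArg P (by group)) }
      have hU' : ∀ v ∈ U, ∀ x, P x → P (v * x * v⁻¹) := fun v hv x hx u hu hux => by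
        have h1 := hx (v⁻¹ * u * v) (mul_mem (mul_mem (inv_mem hv) hu) hv) (by
          rw [show v⁻¹ * u * v * x * (v⁻¹ * u * v)⁻¹ = v⁻¹ * (u * (v * x * v⁻¹) * u⁻¹) * v by group,
            hux]
          group)
        have h2 := (Subgroup.mem_normalizer_iff.1 (hN W (Finset.mem_insert_self W 𝒲) hv) _).1 h1
        simpa [mul_assoc] using h2
      have hS' : ∀ v ∈ S, ∀ x, P x → P (v * x * v⁻¹) := fun v hv x hx u hu hux => by
        refine hx u hu ?_
        have h1 : v * (u * x * u⁻¹) * v⁻¹ = v * x * v⁻¹ := by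
          refine Eq.trans ?_ hux
          have hcm := hc v hv u hu
          calc v * (u * x * u⁻¹) * v⁻¹ = (v * u) * x * (v * u)⁻¹ := by group
            _ = (u * v) * x * (u * v)⁻¹ := by rw [hcm.eq]
            _ = u * (v * x * v⁻¹) * u⁻¹ := by group
        exact mul_left_cancel (mul_right_cancel h1)
      have hmk : ∀ T : Subgroup G, (∀ v ∈ T, ∀ x, P x → P (v * x * v⁻¹)) → T ≤ K :=
        fun T hT v hv x => ⟨fun h => by simpa [mul_assoc] using hT v⁻¹ (inv_mem hv) _ h, hT v hv x⟩
      exact fun v hv x hx => (sup_le (hmk U hU') (hmk S hS') hv x).2 hx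
    let a1 : MonoidAlgebra (Res M) G := ofFun fun x => if P x then a.coeff x else 0
    have ha1 : InvUnder (U ⊔ S) a1 := fun v hv x => by
      simp only [a1, coeff_ofFun, ha v hv x]
      exact if_congr ⟨fun h => by simpa [mul_assoc] using hP v⁻¹ (inv_mem hv) _ h, hP v hv x⟩ rfl rfl
    by_cases hn1 : IsNilpotent ((i : MonoidAlgebra (Res M) G) * a1 * i)
    · have hn2 : ¬ IsNilpotent ((i : MonoidAlgebra (Res M) G) * (a - a1) * i) := fun hn2 => hnil (by
        set ι : MonoidAlgebra (Res M) G := (i : MonoidAlgebra (Res M) G) with hι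
        let b1 : fixAlg (Res M) (U ⊔ S) := i * ⟨a1, ha1⟩ * i
        let b2 : fixAlg (Res M) (U ⊔ S) := i * ⟨a - a1, ha.sub ha1⟩ * i
        have hb : ∀ b : fixAlg (Res M) (U ⊔ S), IsNilpotent (b : MonoidAlgebra (Res M) G) → IsNilpotent b :=
          fun b ⟨n, hn⟩ => ⟨n, Subtype.ext hn⟩
        have h := (hi.isNilpotent_add (Res M) (x := b1) (y := b2)
          (by simp only [b1, ← mul_assoc, hi.1]) (by simp only [b1, mul_assoc, hi.1])
          (by simp only [b2, ← mul_assoc, hi.1]) (by simp only [b2, mul_assoc, hi.1])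
          (hb b1 hn1) (hb b2 hn2)).map (fixAlg (Res M) (U ⊔ S)).val
        convert h using 1
        show _ = ι * a1 * ι + ι * (a - a1) * ι
        rw [← add_mul, ← mul_add, add_sub_cancel])
      obtain ⟨W', hW', a', h1, h2, h3⟩ := ih (fun W' hW' => hN W' (Finset.mem_insert_of_mem hW'))
        (a - a1) (ha.sub ha1) (fun x hx => by
          have hPx : ¬ P x := fun h => hx (by simp [a1, h])
          obtain ⟨W', hW', h⟩ := hsupp x (fun h0 => hx (by simp [a1, h0]))
          rcases Finset.mem_insert.1 hW' with rfl | hW'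
          · exact absurd h hPx
          · exact ⟨W', hW', h⟩) hn2
      exact ⟨W', Finset.mem_insert_of_mem hW', a', h1, h2, h3⟩
    · exact ⟨W, Finset.mem_insert_self W 𝒲, a1, ha1, fun x hx => by
        by_contra h
        exact hx (by simp [a1, P, if_neg h]), hn1⟩

/-- An additive, equivalence- and conjugation-invariant function is divisible by the index on
relative traces. -/
theorem exists_int_dvd_of_trG {U W S : Subgroup G} (hWN : U ≤ Subgroup.normalizer (W : Set G))
    (hWi : (W.subgroupOf U).index = p) (hc : ∀ s ∈ S, ∀ u ∈ U, Commute s u)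
    (Φ : MonoidAlgebra (Res M) G → ℂ) {c : ℂ} (hc0 : c ≠ 0)
    (hint : ∀ e, e * e = e → InvUnder (W ⊔ S) e → ∃ n : ℤ, Φ e = n * c)
    (hΦadd : ∀ e f, e * e = e → f * f = f → e * f = 0 → f * e = 0 → InvUnder (W ⊔ S) e →
      InvUnder (W ⊔ S) f → Φ (e + f) = Φ e + Φ f)
    (hΦequiv : ∀ a b, a * b * (a * b) = a * b → b * a * (b * a) = b * a → InvUnder (W ⊔ S) a →
      InvUnder (W ⊔ S) b → Φ (a * b) = Φ (b * a))
    (hΦconj : ∀ g ∈ U, ∀ e, e * e = e → InvUnder (W ⊔ S) e → Φ (conjAlg g e) = Φ e)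
    {a0 ι : MonoidAlgebra (Res M) G} (ha0 : InvUnder (W ⊔ S) a0) (hιι : ι * ι = ι)
    (hιA : InvUnder (W ⊔ S) ι) (htr : trG U W a0 = ι) :
    ∃ m : ℤ, Φ ι = (p : ℂ) * m * c := by
  classical
  have := charP_residueField hM
  have := isAlgClosed_res (M := M)
  set A := fixAlg (Res M) (W ⊔ S) with hA
  have hex : ∀ e : A, ∃ n : ℤ, e * e = e → Φ e = n * c := fun e => by
    by_cases he : e * e = e
    · obtain ⟨n, hn⟩ := hint e (congrArg Subtype.val he) e.2
      exact ⟨n, fun _ => hn⟩
    · exact ⟨0, fun h => absurd h he⟩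
  choose N hN using hex
  have hadd : ∀ e f : A, e * e = e → f * f = f → e * f = 0 → f * e = 0 → N (e + f) = N e + N f := by
    intro e f he hf hef hfe
    have h1 : Φ (e + f : A) = Φ e + Φ f :=
      hΦadd e f (congrArg Subtype.val he) (congrArg Subtype.val hf) (congrArg Subtype.val hef)
        (congrArg Subtype.val hfe) e.2 f.2
    have hef' : (e + f) * (e + f) = e + f := by
      simp only [add_mul, mul_add, he, hf, hef, hfe, add_zero, zero_add]
    rw [hN _ hef', hN e he, hN f hf, ← add_mul] at h1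
    exact_mod_cast mul_right_cancel₀ hc0 h1
  have hequiv : ∀ a b : A, a * b * (a * b) = a * b → b * a * (b * a) = b * a →
      N (a * b) = N (b * a) := by
    intro a b hab hba
    have h1 : Φ (a * b : A) = Φ (b * a : A) :=
      hΦequiv a b (congrArg Subtype.val hab) (congrArg Subtype.val hba) a.2 b.2
    rw [hN _ hab, hN _ hba] at h1
    exact_mod_cast mul_right_cancel₀ hc0 h1
  obtain ⟨τ, hτ, hτσ⟩ := exists_linear_of_additive (k := Res M) (A := A) N hadd hequiv
  -- conjugation by `U` on the fixed algebra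
  have hconjA : ∀ g ∈ U, ∀ e : MonoidAlgebra (Res M) G, InvUnder (W ⊔ S) e →
      InvUnder (W ⊔ S) (conjAlg g e) := by
    intro g hg' e he
    refine invUnder_sup (invUnder_of_conjAlg fun w hw => ?_) (invUnder_of_conjAlg fun s hs => ?_)
    · have hw' := (Subgroup.mem_normalizer_iff''.1 (hWN hg') w).1 hw
      rw [conjAlg_conjAlg, show w * g = g * (g⁻¹ * w * g) by group, ← conjAlg_conjAlg,
        conjAlg_eq_self he (Subgroup.mem_sup_left hw')]
    · rw [conjAlg_conjAlg, (hc s hs g hg').eq, ← conjAlg_conjAlg,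
        conjAlg_eq_self he (Subgroup.mem_sup_right hs)]
  let σ : U → (A ≃ₐ[Res M] A) := fun g => fixConj (W ⊔ S) (g : G)
    (fun e he => hconjA g g.2 e he) (fun e he => hconjA _ (inv_mem g.2) e he)
  have hσN : ∀ (g : U) (e : A), e * e = e → N (σ g e) = N e := by
    intro g e he
    have h1 : Φ (σ g e : A) = Φ e := hΦconj g g.2 e (congrArg Subtype.val he) e.2
    have hσe : σ g e * σ g e = σ g e := by rw [← map_mul, he]
    rw [hN _ hσe, hN _ he] at h1
    exact_mod_cast mul_right_cancel₀ hc0 h1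
  have hιe : (⟨ι, hιA⟩ : A) * ⟨ι, hιA⟩ = ⟨ι, hιA⟩ := Subtype.ext hιι
  have hτι : τ ⟨ι, hιA⟩ = 0 := by
    have := Fintype.ofFinite (U ⧸ W.subgroupOf U)
    have hsum : (⟨ι, hιA⟩ : A) = ∑ q : U ⧸ W.subgroupOf U, σ q.out ⟨a0, ha0⟩ := by
      refine Subtype.ext ?_
      show ι = ((∑ q : U ⧸ W.subgroupOf U, σ q.out ⟨a0, ha0⟩ : A) : MonoidAlgebra (Res M) G)
      rw [AddSubmonoidClass.coe_finsetSum, ← htr, trG]
      exact Finset.sum_congr (by ext; simp) fun _ _ => rfl
    have hterm : ∀ q : U ⧸ W.subgroupOf U, τ (σ q.out ⟨a0, ha0⟩) = τ ⟨a0, ha0⟩ := fun q =>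
      hτσ (σ q.out) (hσN q.out) ⟨a0, ha0⟩
    have hcard : (Fintype.card (U ⧸ W.subgroupOf U) : Res M) = 0 := by
      rw [← Nat.card_eq_fintype_card, show Nat.card (U ⧸ W.subgroupOf U) = p from hWi]
      exact CharP.cast_eq_zero (Res M) p
    calc τ ⟨ι, hιA⟩ = ∑ q : U ⧸ W.subgroupOf U, τ (σ q.out ⟨a0, ha0⟩) := by rw [hsum, map_sum]
      _ = ∑ _q : U ⧸ W.subgroupOf U, τ ⟨a0, ha0⟩ := Fintype.sum_congr _ _ hterm
      _ = (Fintype.card (U ⧸ W.subgroupOf U) : Res M) * τ ⟨a0, ha0⟩ := by
        rw [Finset.sum_const, Finset.card_univ, nsmul_eq_mul]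
      _ = 0 := by rw [hcard, zero_mul]
  obtain ⟨m, hm⟩ : (p : ℤ) ∣ N ⟨ι, hιA⟩ := by
    rw [← CharP.intCast_eq_zero_iff (Res M) p, ← hτ _ hιe, hτι]
  refine ⟨m, ?_⟩
  rw [show Φ ι = N ⟨ι, hιA⟩ * c from hN _ hιe, hm]
  push_cast
  ring

/-- The case of a primitive idempotent with zero Brauer image, given the smaller subgroups. -/
theorem exists_int_of_resC_eq_zero {U S : Subgroup G} {i : fixAlg (Res M) (U ⊔ S)} (hi : IsPrim i)
    (hU : IsPGroup p U) (hc : ∀ s ∈ S, ∀ u ∈ U, Commute s u) (hS : ¬ p ∣ Nat.card S)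
    (h0 : resC U (i : MonoidAlgebra (Res M) G) = 0)
    {v : G → BrauerPairIdx G → ℂ} (hv : IsWeight p M v) (χ : IrrCharacter G) [Fintype U] [Fintype S]
    {α β : G → ℂ} (hα1 : α 1 = 1) (hα : ∀ x ∈ U, ∀ y ∈ U, α (x * y) = α x * α y)
    (IH : ∀ (W : Subgroup G) [Fintype W], W < U → ∀ e : MonoidAlgebra (Res M) G, e * e = e →
      InvUnder W e → InvUnder S e → ∃ n : ℤ, ∑ u : W, ∑ s : S, α u * β s *
        thetaQ v (χ : G → ℂ) (Subgroup.zpowers (u : G)) u s e = n * (Nat.card W * Nat.card S)) :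
    ∃ n : ℤ, ∑ u : U, ∑ s : S, α u * β s *
        thetaQ v (χ : G → ℂ) (Subgroup.zpowers (u : G)) u s (i : MonoidAlgebra (Res M) G) =
      n * (Nat.card U * Nat.card S) := by
  classical
  have := charP_residueField hM
  have := isAlgClosed_res (M := M)
  set ι : MonoidAlgebra (Res M) G := (i : MonoidAlgebra (Res M) G) with hι
  have hιι : ι * ι = ι := prim_idem hi
  -- a maximal subgroup from which `i` is a relative trace
  let 𝒲 : Finset (Subgroup G) := Finset.univ.filter fun W =>
    W < U ∧ U ≤ Subgroup.normalizer (W : Set G) ∧ (W.subgroupOf U).index = p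
  have hsupp : ∀ x, ι.coeff x ≠ 0 → ∃ W ∈ 𝒲, ∀ u ∈ U, u * x * u⁻¹ = x → u ∈ W := by
    intro x hx
    let T : Subgroup G := U ⊓ Subgroup.centralizer ({x} : Set G)
    have hT : T < U := by
      refine lt_of_le_of_ne inf_le_left fun e => hx ?_
      have hxC : x ∈ Subgroup.centralizer (U : Set G) := by
        refine Subgroup.mem_centralizer_iff.2 fun u hu => ?_
        exact Subgroup.mem_centralizer_singleton_iff.1 ((e ▸ hu : u ∈ T).2)
      have := congrArg (fun a => a.coeff ⟨x, hxC⟩) h0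
      simpa using this
    obtain ⟨W, hTW, hWU, hWN, hWi⟩ := exists_maximal_normal hU hT
    refine ⟨W, Finset.mem_filter.2 ⟨Finset.mem_univ _, hWU, hWN, hWi⟩, fun u hu hux => hTW ⟨hu, ?_⟩⟩
    show u ∈ Subgroup.centralizer ({x} : Set G)
    rw [mem_centralizer_singleton]
    exact mul_inv_eq_iff_eq_mul.1 hux
  have hnn : ¬ IsNilpotent (ι * ι * ι) := fun h => by
    rw [hιι, hιι] at h
    exact not_isNilpotent_idem hιι (fun e => hi.2.1 (Subtype.ext e)) h
  obtain ⟨W, hW, a', ha', hstab, hnil⟩ :=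
    exists_stab_le hi hc 𝒲 (fun W hW => ((Finset.mem_filter.1 hW).2).2.1) ι i.2 hsupp hnn
  obtain ⟨hWU, hWN, hWi⟩ := (Finset.mem_filter.1 hW).2
  have hSu : IsUnit (Nat.card S : Res M) :=
    (Ne.isUnit fun h => hS ((CharP.cast_eq_zero_iff (Res M) p _).1 h))
  obtain ⟨h, hhW, hhS, htr, -⟩ := exists_eq_trG hWU.le hc hSu (ha'.mono le_sup_left)
    (ha'.mono le_sup_right) hstab
  obtain ⟨y, hy, hty⟩ := (prim_dichotomy hi ((i.2.mul ha').mul i.2)
    (by rw [← mul_assoc, ← mul_assoc, hιι]) (by rw [mul_assoc _ ι ι, hιι])).resolve_left hnil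
  set a0 := ι * h * (ι * y) with ha0
  have ha0W : InvUnder (W ⊔ S) a0 :=
    ((i.2.mono (sup_le_sup_right hWU.le S)).mul (invUnder_sup hhW hhS)).mul
      ((i.2.mul hy).mono (sup_le_sup_right hWU.le S))
  have hitr : trG U W a0 = ι := by
    rw [ha0, trG_mul_mul h (i.2.mono le_sup_left) ((i.2.mul hy).mono le_sup_left), htr, ← mul_assoc]
    exact hty
  set c : ℂ := (Nat.card W * Nat.card S : ℂ) with hcdef
  have hc0 : c ≠ 0 := mul_ne_zero (Nat.cast_ne_zero.2 Nat.card_pos.ne') (Nat.cast_ne_zero.2 Nat.card_pos.ne')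
  have := Fintype.ofFinite W
  let Φ : MonoidAlgebra (Res M) G → ℂ := fun e => ∑ u : W, ∑ s : S, α u * β s *
        thetaQ v (χ : G → ℂ) (Subgroup.zpowers (u : G)) u s e
  have hg : ∀ (u : W) (s : S), LocalArg p (Subgroup.zpowers (u : G)) (u : G) (s : G) := fun u s =>
    localArg_mem hU hc hS (hWU.le u.2) s.2
  have hzu : ∀ u : W, Subgroup.zpowers (u : G) ≤ W ⊔ S := fun u =>
    (Subgroup.zpowers_le.2 u.2).trans le_sup_left
  have hzus : ∀ (u : W) (s : S), Subgroup.zpowers ((u : G) * s) ≤ W ⊔ S := fun u s =>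
    Subgroup.zpowers_le.2 (mul_mem (Subgroup.mem_sup_left u.2) (Subgroup.mem_sup_right s.2))
  have hΦconj : ∀ g ∈ U, ∀ e, e * e = e → InvUnder (W ⊔ S) e → Φ (conjAlg g e) = Φ e := by
    intro g hg' e he heA
    let π : W ≃ W :=
      { toFun := fun w => ⟨g * w * g⁻¹, (Subgroup.mem_normalizer_iff.1 (hWN hg') _).1 w.2⟩
        invFun := fun w => ⟨g⁻¹ * w * g, (Subgroup.mem_normalizer_iff''.1 (hWN hg') _).1 w.2⟩
        left_inv := fun w => Subtype.ext (by simp [mul_assoc])
        right_inv := fun w => Subtype.ext (by simp [mul_assoc]) }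
    symm
    refine Fintype.sum_equiv π _ _ fun w => Finset.sum_congr rfl fun s _ => ?_
    have hsg : g * s * g⁻¹ = s := by rw [← (hc s s.2 g hg').eq, mul_inv_cancel_right]
    have hαg : α (g * w * g⁻¹) = α w := by
      have hgi : α g * α g⁻¹ = 1 := by rw [← hα _ hg' _ (inv_mem hg'), mul_inv_cancel, hα1]
      rw [hα _ (mul_mem hg' (hWU.le w.2)) _ (inv_mem hg'), hα _ hg' _ (hWU.le w.2)]
      linear_combination α (w : G) * hgi
    show _ = α (g * w * g⁻¹) * β s * thetaQ v (χ : G → ℂ)
      (Subgroup.zpowers (g * (w : G) * g⁻¹)) (g * w * g⁻¹) s (conjAlg g e)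
    rw [hαg]
    congr 1
    have hmap : Subgroup.zpowers (g * (w : G) * g⁻¹) =
        (Subgroup.zpowers (w : G)).map (MulAut.conj g).toMonoidHom := by
      rw [MonoidHom.map_zpowers]
      simp
    have hga := localArg_mem (u := g * (w : G) * g⁻¹) (s := (s : G)) hU hc hS
      (hWU.le (π w).2) s.2
    have h2 := thetaQ_conj hM v χ (hg w s) (fun x a ha => hv.conj x w a ha)
      (Subgroup.mem_zpowers (w : G)) g (by rw [hsg, ← hmap]; exact hga)
      he (heA.mono (hzu w)) (heA.mono (hzus w s))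
    rw [hsg, ← hmap] at h2
    exact h2.symm
  obtain ⟨m, hm⟩ := exists_int_dvd_of_trG hM hWN hWi hc Φ hc0
    (fun e he heA => IH W hWU e he (heA.mono le_sup_left) (heA.mono le_sup_right))
    (fun e f he hf hef hfe heA hfA => by
      simp only [Φ, ← Finset.sum_add_distrib]
      refine Finset.sum_congr rfl fun u _ => Finset.sum_congr rfl fun s _ => ?_
      rw [← mul_add]
      congr 1
      exact thetaQ_add hM v χ (hg u s) he hf hef hfe (heA.mono (hzu u)) (hfA.mono (hzu u))
        (heA.mono (hzus u s)) (hfA.mono (hzus u s)))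
    (fun a b hab hba haA hbA => by
      refine Finset.sum_congr rfl fun u _ => Finset.sum_congr rfl fun s _ => ?_
      congr 1
      exact thetaQ_equiv hM v χ (hg u s) hab hba (haA.mono (hzu u)) (hbA.mono (hzu u))
        (haA.mono (hzus u s)) (hbA.mono (hzus u s)))
    hΦconj ha0W hιι (i.2.mono (sup_le_sup_right hWU.le S)) hitr
  -- the sum is supported on `W`
  refine ⟨m, ?_⟩
  have hvan : ∀ u : U, (u : G) ∉ W → ∀ s : S,
      thetaQ v (χ : G → ℂ) (Subgroup.zpowers (u : G)) u s ι = 0 := by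
    intro u huW s
    refine finsum_eq_zero_of_forall_eq_zero fun f => ?_
    have hr : resC (Subgroup.zpowers (u : G)) ι = 0 := by
      refine MonoidAlgebra.ext (Finsupp.ext fun c => ?_)
      rw [coeff_resC, ← hitr, coeff_trG_eq_zero (ha0W.mono le_sup_left) hWN hU u.2 huW
        (Subgroup.mem_centralizer_iff.1 c.2 _ (Subgroup.mem_zpowers _)).symm]
      simp
    rw [cutBr, hr, mul_zero, map_zero, sv_zero hM χ (localArg_mem hU hc hS u.2 s.2).2, mul_zero]
  have hsplit : ∑ u : U, ∑ s : S, α u * β s *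
      thetaQ v (χ : G → ℂ) (Subgroup.zpowers (u : G)) u s ι = Φ ι := by
    rw [← Finset.sum_filter_of_ne (p := fun u : U => (u : G) ∈ W) fun u _ hne => ?_]
    · exact Finset.sum_bij' (fun u hu => (⟨(u : G), (Finset.mem_filter.1 hu).2⟩ : W))
        (fun w _ => (⟨(w : G), hWU.le w.2⟩ : U)) (fun _ _ => Finset.mem_univ _)
        (fun w _ => Finset.mem_filter.2 ⟨Finset.mem_univ _, w.2⟩) (fun _ _ => rfl) (fun _ _ => rfl)
        fun _ _ => rfl
    · by_contra huW
      exact hne (Finset.sum_eq_zero fun s _ => by rw [hvan u huW s, mul_zero])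
  rw [hsplit, hm, hcdef]
  have hcard : Nat.card U = p * Nat.card W := by
    rw [← hWi, ← Nat.card_congr (Subgroup.subgroupOfEquivOfLe hWU.le).toEquiv,
      Subgroup.index_mul_card]
  rw [hcard]
  push_cast
  ring

/-- **Integrality of the local sums.** -/
theorem exists_int_theta {v : G → BrauerPairIdx G → ℂ} (hv : IsWeight p M v) (χ : IrrCharacter G)
    {S : Subgroup G} [Fintype S] (hS : ¬ p ∣ Nat.card S) {α β : G → ℂ} (hα1 : α 1 = 1)
    (hβ : ∀ x ∈ S, ∀ y ∈ S, β (x * y) = β x * β y) :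
    ∀ (U : Subgroup G) [Fintype U], IsPGroup p U → (∀ s ∈ S, ∀ u ∈ U, Commute s u) →
      (∀ x ∈ U, ∀ y ∈ U, α (x * y) = α x * α y) →
      ∀ e : MonoidAlgebra (Res M) G, e * e = e → InvUnder U e → InvUnder S e →
      ∃ n : ℤ, ∑ u : U, ∑ s : S, α u * β s *
        thetaQ v (χ : G → ℂ) (Subgroup.zpowers (u : G)) u s e = n * (Nat.card U * Nat.card S) := by
  intro U
  induction hn : Nat.card U using Nat.strong_induction_on generalizing U with
  | _ m ih =>
    intro _ hU hc hα e he heU heS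
    subst hn
    let C : fixAlg (Res M) (U ⊔ S) → Prop := fun j => ∃ n : ℤ, ∑ u : U, ∑ s : S, α u * β s *
      thetaQ v (χ : G → ℂ) (Subgroup.zpowers (u : G)) u s (j : MonoidAlgebra (Res M) G) =
        n * (Nat.card U * Nat.card S)
    refine idem_induction (Res M) (C := C) ?_ ?_ ?_
      (i := (⟨e, invUnder_sup heU heS⟩ : fixAlg (Res M) (U ⊔ S))) (Subtype.ext he)
    · refine ⟨0, ?_⟩
      rw [Int.cast_zero, zero_mul]
      refine Finset.sum_eq_zero fun u _ => Finset.sum_eq_zero fun s _ => ?_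
      rw [show ((0 : fixAlg (Res M) (U ⊔ S)) : MonoidAlgebra (Res M) G) = 0 from rfl,
        thetaQ_zero hM v χ (localArg_mem hU hc hS u.2 s.2), mul_zero]
    · intro i hi
      by_cases h0 : resC U (i : MonoidAlgebra (Res M) G) = 0
      · refine exists_int_of_resC_eq_zero hM hi hU hc hS h0 hv χ hα1 hα ?_
        intro W _ hWU e' he' heW' heS'
        refine ih _ ?_ W rfl (hU.to_le hWU.le) (fun s hs u hu => hc s hs u (hWU.le hu))
          (fun x hx y hy => hα x (hWU.le hx) y (hWU.le hy)) e' he' heW' heS'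
        exact lt_of_le_of_ne (Subgroup.card_le_of_le hWU.le)
          fun e => hWU.ne (Subgroup.eq_of_le_of_card_ge hWU.le e.ge)
      · exact exists_int_of_resC_ne_zero hM hi hU hc hS h0 hv χ hα1 hα hβ
    · rintro a b ha hb hab hba ⟨n, hn⟩ ⟨n', hn'⟩
      refine ⟨n + n', ?_⟩
      push_cast
      rw [add_mul, ← hn, ← hn', ← Finset.sum_add_distrib]
      refine Finset.sum_congr rfl fun u _ => ?_
      rw [← Finset.sum_add_distrib]
      refine Finset.sum_congr rfl fun s _ => ?_
      rw [← mul_add]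
      congr 1
      have hzu : Subgroup.zpowers (u : G) ≤ U ⊔ S := (Subgroup.zpowers_le.2 u.2).trans le_sup_left
      have hzus : Subgroup.zpowers ((u : G) * s) ≤ U ⊔ S :=
        Subgroup.zpowers_le.2 (mul_mem (Subgroup.mem_sup_left u.2) (Subgroup.mem_sup_right s.2))
      exact thetaQ_add hM v χ (localArg_mem hU hc hS u.2 s.2) (congrArg Subtype.val ha)
        (congrArg Subtype.val hb) (congrArg Subtype.val hab) (congrArg Subtype.val hba)
        (a.2.mono hzu) (b.2.mono hzu) (a.2.mono hzus) (b.2.mono hzus)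

end CfsgLib.Star
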