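import Cfsg.Agent.Lib.Blocks.Star.Sections
import Cfsg.Agent.Lib.Char.GaloisPositive

/-!
# Totally positive numbers with sum equal to their number are all one
-/

namespace CfsgLib.Star

open Cfsg CfsgLib.Blocks CfsgLib.Pairs CfsgLib.Char
open scoped ComplexConjugate Classical

/-- Totally positive algebraic integers of a cyclotomic field whose sum is their number are `1`. -/
theorem eq_one_of_sum_norms {ι : Type*} (S : Finset ι) {κ : ι → Type*} [∀ i, Fintype (κ i)]
    (c : ι → ℚ) (hc : ∀ i ∈ S, 0 ≤ c i) (β : ∀ i, κ i → ℂ) {N : ℕ} (hN : N ≠ 0) {ζ : ℂ}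
    (hζ : IsPrimitiveRoot ζ N)
    (hmem : ∀ i ∈ S, ∀ j, β i j ∈ IntermediateField.adjoin ℚ ({ζ} : Set ℂ))
    (hint : ∀ i ∈ S, IsIntegral ℤ ((c i : ℂ) * ∑ j, β i j * conj (β i j)))
    (hne : ∀ i ∈ S, (c i : ℂ) * ∑ j, β i j * conj (β i j) ≠ 0)
    (hsum : ∑ i ∈ S, (c i : ℂ) * ∑ j, β i j * conj (β i j) = (S.card : ℂ)) :
    ∀ i ∈ S, (c i : ℂ) * ∑ j, β i j * conj (β i j) = 1 := by
  set K := IntermediateField.adjoin ℚ ({ζ} : Set ℂ) with hK
  have hfin : FiniteDimensional ℚ K :=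
    IntermediateField.adjoin.finiteDimensional (IsIntegral.of_pow (Nat.pos_of_ne_zero hN) (by
      rw [hζ.pow_eq_one]; exact isIntegral_one))
  let x : ∀ i : S, κ i → K := fun i j => ⟨β i j, hmem i i.2 j⟩
  have hc' : ∀ (i : S) (j : κ i), ∃ hy : conj (β i j) ∈ K, ∀ σ : K →ₐ[ℚ] ℂ,
      σ ⟨conj (β i j), hy⟩ = conj (σ (x i j)) := fun i j => by
    obtain ⟨hy, -⟩ := exists_conj_commute hN hζ K.val (β i j) (hmem i i.2 j)
    exact ⟨hy, fun σ => (exists_conj_commute hN hζ σ (β i j) (hmem i i.2 j)).2⟩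
  choose hy he using hc'
  let α : S → K := fun i => (c i : K) * ∑ j, x i j * ⟨conj (β i j), hy i j⟩
  have hα : ∀ i : S, ((α i : K) : ℂ) = (c i : ℂ) * ∑ j, β i j * conj (β i j) := fun i => by
    simp [α, x, IntermediateField.coe_sum]
  let r : (K →ₐ[ℚ] ℂ) → S → ℝ := fun σ i => (c i : ℝ) * ∑ j, ‖σ (x i j)‖ ^ 2
  have hσ : ∀ σ i, σ (α i) = (r σ i : ℂ) := fun σ i => by
    simp only [α, r, map_mul, map_ratCast, map_sum, he, Complex.ofReal_mul, Complex.ofReal_ratCast,
      Complex.ofReal_sum, Complex.mul_conj', Complex.ofReal_pow]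
  have hsumσ : ∀ σ : K →ₐ[ℚ] ℂ, ∑ i : S, r σ i = (S.card : ℝ) := fun σ => by
    have h1 : ∑ i : S, α i = (S.card : K) := by
      refine Subtype.ext ?_
      rw [IntermediateField.coe_sum]
      simp only [hα]
      rw [Finset.sum_coe_sort S fun i => (c i : ℂ) * ∑ j, β i j * conj (β i j), hsum]
      norm_num
    have h2 := congrArg σ h1
    rw [map_sum, map_natCast, Finset.sum_congr rfl fun i _ => hσ σ i] at h2
    exact_mod_cast h2
  have hpos : ∀ (σ : K →ₐ[ℚ] ℂ) (i : S), 0 < r σ i := fun σ i => by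
    have hi0 : α i ≠ 0 := fun h => hne i i.2 (by rw [← hα, h]; rfl)
    have h0 : (r σ i : ℂ) ≠ 0 := hσ σ i ▸ (map_ne_zero σ).mpr hi0
    refine lt_of_le_of_ne (mul_nonneg (Rat.cast_nonneg.2 (hc i i.2))
      (Finset.sum_nonneg fun j _ => by positivity)) ?_
    intro h
    exact h0 (by rw [← h]; simp)
  have hlog : ∀ i : S, 0 ≤ ∑ σ : K →ₐ[ℚ] ℂ, Real.log (r σ i) := by
    intro i
    have hii : IsIntegral ℤ (α i) :=
      (isIntegral_algebraMap_iff (A := K) (B := ℂ) (RingHom.injective _)).1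
        (by have := hint i i.2; rwa [← hα] at this)
    obtain ⟨z, hz⟩ := IsIntegrallyClosed.isIntegral_iff.mp (Algebra.isIntegral_norm ℚ hii)
    have hprod := Algebra.norm_eq_prod_embeddings ℚ ℂ (α i)
    rw [Finset.prod_congr rfl fun σ _ => hσ σ i, ← hz] at hprod
    have hreal : ((z : ℤ) : ℝ) = ∏ σ : K →ₐ[ℚ] ℂ, r σ i := by
      simp only [eq_intCast, map_intCast, ← Complex.ofReal_prod] at hprod
      exact_mod_cast hprod
    have hzpos : 0 < z := by
      have h := Finset.prod_pos (s := (Finset.univ : Finset (K →ₐ[ℚ] ℂ))) fun σ _ => hpos σ i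
      rw [← hreal] at h
      exact_mod_cast h
    rw [← Real.log_prod (fun σ _ => (hpos σ i).ne'), ← hreal]
    exact Real.log_nonneg (by exact_mod_cast hzpos)
  have hzero : ∑ i : S, ∑ σ : K →ₐ[ℚ] ℂ, (r σ i - 1 - Real.log (r σ i)) ≤ 0 := by
    simp only [Finset.sum_sub_distrib, Finset.sum_const, Finset.card_univ, nsmul_eq_mul, mul_one]
    rw [Finset.sum_comm, Finset.sum_congr rfl fun σ _ => hsumσ σ, Finset.sum_const, Finset.card_univ,
      nsmul_eq_mul]
    have := Finset.sum_nonneg fun i (_ : i ∈ (Finset.univ : Finset S)) => hlog i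
    simp only [Fintype.card_coe] at *
    linarith [mul_comm (Fintype.card (K →ₐ[ℚ] ℂ) : ℝ) (S.card : ℝ)]
  intro i hi
  have hnn : ∀ (j : S) (σ : K →ₐ[ℚ] ℂ), 0 ≤ r σ j - 1 - Real.log (r σ j) := fun j σ =>
    sub_nonneg.2 (Real.log_le_sub_one_of_pos (hpos σ j))
  have h0 := (Finset.sum_eq_zero_iff_of_nonneg fun j _ => Finset.sum_nonneg fun σ _ => hnn j σ).1
    (le_antisymm hzero (Finset.sum_nonneg fun j _ => Finset.sum_nonneg fun σ _ => hnn j σ))
    ⟨i, hi⟩ (Finset.mem_univ _)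
  have h1 := (Finset.sum_eq_zero_iff_of_nonneg fun σ _ => hnn ⟨i, hi⟩ σ).1 h0 K.val (Finset.mem_univ _)
  have h2 : r K.val ⟨i, hi⟩ = 1 := by
    by_contra hne1
    have := Real.log_lt_sub_one_of_pos (hpos K.val ⟨i, hi⟩) hne1
    linarith
  have h3 := hσ K.val ⟨i, hi⟩
  rw [h2, Complex.ofReal_one] at h3
  rw [← hα ⟨i, hi⟩]
  exact h3

variable {G : Type*} [Group G] [Fintype G] {M : Ideal AlgInt} [M.IsPrime] {p : ℕ} [Fact p.Prime]

omit [M.IsPrime] [Fact p.Prime] in
/-- Block parts of translated characters lie in the cyclotomic field of the group order. -/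
theorem blockPart_mem_adjoin {H : Subgroup G} (f : Set (IrrCharacter H)) (χ : IrrCharacter G) (u : G)
    {ζ : ℂ} (hζ : IsPrimitiveRoot ζ (Nat.card G)) (y : H) :
    blockPart f (fun c : H => (χ : G → ℂ) (u * (c : G))) y ∈
      IntermediateField.adjoin ℚ ({ζ} : Set ℂ) := by
  have hN : Nat.card G ≠ 0 := Nat.card_pos.ne'
  have hψ : ∀ (ψ : IrrCharacter H) (w : H), (ψ : H → ℂ) w ∈ IntermediateField.adjoin ℚ ({ζ} : Set ℂ) :=
    fun ψ w => apply_mem_adjoin (IsIrr.isCharacter ψ.2) hN hζ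
      (by rw [← Subgroup.orderOf_coe]; exact orderOf_dvd_natCard _)
  rw [blockPart_eq, finsum_mem_eq_finite_toFinset_sum _ (Set.toFinite f)]
  refine sum_mem fun ψ _ => mul_mem ?_ (hψ ψ y)
  rw [Cfsg.classInner]
  refine mul_mem (inv_mem (natCast_mem _ _)) (sum_mem fun w _ => mul_mem ?_ ?_)
  · exact apply_mem_adjoin (IsIrr.isCharacter χ.2) hN hζ (orderOf_dvd_natCard _)
  · rw [← IsIrr.map_inv ψ.2]
    exact hψ ψ w⁻¹

/-- The scaled contribution of a pair is an algebraic integer. -/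
theorem isIntegral_partInner (hM : IsPModular p M) {u : G} (χ ψ : IrrCharacter G)
    {f : Set (IrrCharacter (Subgroup.centralizer (Subgroup.zpowers u : Set G)))} (hf : IsPBlock M f) :
    IsIntegral ℤ ((p : ℂ) ^ blockDefect p f *
      ((Nat.card (Subgroup.centralizer (Subgroup.zpowers u : Set G)) : ℂ)⁻¹ *
        partInner p (χ : G → ℂ) (ψ : G → ℂ) u ⟨Subgroup.zpowers u, f⟩)) := by
  have key : ∀ (H : Subgroup G), H = Subgroup.centralizer ({u} : Set G) → ∀ f : Set (IrrCharacter H),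
      IsPBlock M f → IsIntegral ℤ ((p : ℂ) ^ blockDefect p f * ((Nat.card H : ℂ)⁻¹ *
        ∑ y ∈ Finset.univ.filter (fun y : H => ¬ p ∣ orderOf y),
          blockPart f (fun c : H => (χ : G → ℂ) (u * (c : G))) y *
            conj (blockPart f (fun c : H => (ψ : G → ℂ) (u * (c : G))) y))) := by
    rintro H rfl f hf
    have h := sum_transCoeff_mul_regCoeff (x := u) hM hf χ ψ
    rw [contribution] at h
    suffices hs : IsIntegral ℤ ((p : ℂ) ^ blockDefect p f *
        ∑ η ∈ (Set.toFinite f).toFinset, transCoeff u χ η * regCoeff p u η ψ) by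
      rw [h] at hs
      convert hs using 4
      ext; simp
    rw [Finset.mul_sum]
    refine IsIntegral.sum _ fun η hη => ?_
    rw [mul_left_comm]
    exact (isIntegral_transCoeff u χ η).mul (isIntegral_pow_mul_regCoeff hM hf rfl η hη ψ)
  exact key _ (by rw [Subgroup.zpowers_eq_closure, Subgroup.centralizer_closure]) f hf

end CfsgLib.Star
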