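import Mathlib.RingTheory.Idempotents
import Mathlib.RingTheory.SimpleModule.IsAlgClosed
import Mathlib.RingTheory.HopkinsLevitzki
import Mathlib.RingTheory.Jacobson.Ideal
import Mathlib.RingTheory.IntegralClosure.IsIntegralClosure.Basic
import Mathlib.FieldTheory.Minpoly.Basic
import Mathlib.Algebra.Polynomial.Div
import Mathlib.LinearAlgebra.FiniteDimensional.Lemmas
import Mathlib.LinearAlgebra.Matrix.Trace
import Mathlib.Algebra.Algebra.Pi
import Cfsg.Agent.Lib.Blocks.Star.Lift

/-!
# Primitive idempotents and class functions on idempotents of finite dimensional algebras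
-/

namespace CfsgLib.Star

open Polynomial

variable {A : Type*} [Ring A]

/-- A primitive idempotent. -/
def IsPrim (i : A) : Prop :=
  i * i = i ∧ i ≠ 0 ∧ ∀ e : A, e * e = e → i * e = e → e * i = e → e = 0 ∨ e = i

section

variable (k : Type*) [Field k] [Algebra k A] [FiniteDimensional k A]

/-- Fitting: in the corner of a primitive idempotent an element is nilpotent or invertible. -/
theorem IsPrim.dichotomy {i : A} (hi : IsPrim i) {x : A} (h1 : i * x = x) (h2 : x * i = x) :
    IsNilpotent x ∨ ∃ y ∈ Algebra.adjoin k ({x, i} : Set A), x * y = i ∧ y * x = i := by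
  have hint : IsIntegral k x := IsIntegral.of_finite k x
  obtain ⟨g, hg, hg0⟩ := exists_eq_pow_rootMultiplicity_mul_and_not_dvd (minpoly k x)
    (minpoly.ne_zero hint) 0
  rw [map_zero, sub_zero] at hg hg0
  set m := (minpoly k x).rootMultiplicity 0
  have hcop : IsCoprime (X : k[X]) g :=
    (Irreducible.coprime_iff_not_dvd irreducible_X).2 hg0
  obtain ⟨a, b, hab⟩ := hcop.pow_left (m := m + 1)
  have hmu : aeval x (X ^ (m + 1) * g) = 0 := by
    rw [pow_succ', mul_assoc, ← hg, map_mul, minpoly.aeval, mul_zero]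
  set T := aeval x (a * X ^ m) with hT
  set e := x * T with he
  have hee : e = aeval x (a * X ^ (m + 1)) := by
    rw [he, hT, show a * X ^ (m + 1) = X * (a * X ^ m) by ring, map_mul (aeval x) X, aeval_X]
  have hid : e * e = e := by
    rw [hee, ← sub_eq_zero, ← map_mul, ← map_sub,
      show a * X ^ (m + 1) * (a * X ^ (m + 1)) - a * X ^ (m + 1) =
        X ^ (m + 1) * g * (-(a * b)) by linear_combination (a * X ^ (m + 1)) * hab,
      map_mul, hmu, zero_mul]
  have hcomm : ∀ P : k[X], x * aeval x P = aeval x P * x := fun P => by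
    conv_lhs => arg 1; rw [← aeval_X (R := k) x]
    conv_rhs => arg 2; rw [← aeval_X (R := k) x]
    rw [← map_mul, ← map_mul, mul_comm]
  have hl : i * e = e := by rw [he, ← mul_assoc, h1]
  have hr : e * i = e := by rw [he, hcomm, mul_assoc, h2]
  rcases hi.2.2 e hid hl hr with h0 | h0
  · left
    refine ⟨m + 1, ?_⟩
    rw [← aeval_X_pow (R := k) x, show (X : k[X]) ^ (m + 1) =
      (X ^ (m + 1)) * (a * X ^ (m + 1)) + X ^ (m + 1) * g * b by
        linear_combination (-(X ^ (m + 1) : k[X])) * hab, map_add, map_mul, ← hee, h0, mul_zero,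
      zero_add, map_mul, hmu, zero_mul]
  · right
    refine ⟨T * i, mul_mem ?_ (Algebra.subset_adjoin (by simp)), ?_, ?_⟩
    · exact Algebra.adjoin_mono (by simp) (aeval_mem_adjoin_singleton k x)
    · rw [← mul_assoc, ← he, h0, hi.1]
    · rw [mul_assoc, h1, hT, ← hcomm, ← hT, ← he, h0]

/-- An element with a right inverse in the corner is not nilpotent. -/
theorem not_isNilpotent_of_right_inv {i y v : A} (hi0 : i ≠ 0) (hy : y * i = y) (hv : y * v = i) :
    ¬ IsNilpotent y := by
  rintro ⟨n, hn⟩
  have key : ∀ m, y ^ (m + 1) * v ^ (m + 1) = i := by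
    intro m
    induction m with
    | zero => simpa using hv
    | succ m ih =>
      rw [pow_succ', pow_succ v, mul_assoc y, ← mul_assoc (y ^ (m + 1)), ih, ← mul_assoc, hy, hv]
  apply hi0
  rw [← key n, pow_succ, hn, zero_mul, zero_mul]

include k in
/-- The nilpotent elements of the corner of a primitive idempotent are closed under sums. -/
theorem IsPrim.isNilpotent_add {i : A} (hi : IsPrim i) {x y : A} (hx1 : i * x = x) (hx2 : x * i = x)
    (hy1 : i * y = y) (hy2 : y * i = y) (hx : IsNilpotent x) (hy : IsNilpotent y) :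
    IsNilpotent (x + y) := by
  refine (hi.dichotomy k (by rw [mul_add, hx1, hy1]) (by rw [add_mul, hx2, hy2])).resolve_right ?_
  rintro ⟨w, -, hw, -⟩
  set w' := i * w * i with hw'
  have hxy : (x + y) * i = x + y := by rw [add_mul, hx2, hy2]
  have hw'2 : (x + y) * w' = i := by
    rw [hw', ← mul_assoc, ← mul_assoc, hxy, hw, hi.1]
  have hw'i : w' * i = w' := by rw [hw', mul_assoc _ i i, hi.1]
  have hxw : IsNilpotent (x * w') := by
    refine (hi.dichotomy k (by rw [← mul_assoc, hx1]) (by rw [mul_assoc, hw'i])).resolve_right ?_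
    rintro ⟨v, -, hv, -⟩
    rw [mul_assoc] at hv
    exact not_isNilpotent_of_right_inv hi.2.1 hx2 hv hx
  obtain ⟨u, hu⟩ := hxw.isUnit_one_sub
  have e : y * w' = i * (1 - x * w') := by
    rw [mul_sub, mul_one, ← mul_assoc i x, hx1]
    refine eq_sub_of_add_eq ?_
    rw [add_comm, ← add_mul, hw'2]
  refine not_isNilpotent_of_right_inv hi.2.1 hy2 (v := w' * (↑u⁻¹ : A)) ?_ hy
  rw [← mul_assoc, e, ← hu, mul_assoc, Units.mul_inv, mul_one]

include k in
theorem IsPrim.isNilpotent_sum {i : A} (hi : IsPrim i) {ι : Type*} (s : Finset ι) (f : ι → A)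
    (h1 : ∀ j ∈ s, i * f j = f j) (h2 : ∀ j ∈ s, f j * i = f j) (h : ∀ j ∈ s, IsNilpotent (f j)) :
    IsNilpotent (∑ j ∈ s, f j) := by
  classical
  induction s using Finset.induction with
  | empty => simp
  | insert j s hj ih =>
    rw [Finset.sum_insert hj]
    refine hi.isNilpotent_add k (h1 j (Finset.mem_insert_self j s)) (h2 j (Finset.mem_insert_self j s))
      ?_ ?_ (h j (Finset.mem_insert_self j s)) (ih (fun a ha => h1 a (Finset.mem_insert_of_mem ha))
        (fun a ha => h2 a (Finset.mem_insert_of_mem ha)) fun a ha => h a (Finset.mem_insert_of_mem ha))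
    · rw [Finset.mul_sum]; exact Finset.sum_congr rfl fun a ha => h1 a (Finset.mem_insert_of_mem ha)
    · rw [Finset.sum_mul]; exact Finset.sum_congr rfl fun a ha => h2 a (Finset.mem_insert_of_mem ha)

theorem not_isNilpotent_idem {i : A} (hi : i * i = i) (h0 : i ≠ 0) : ¬ IsNilpotent i :=
  not_isNilpotent_of_right_inv h0 hi hi

/-- Splitting an idempotent below another lowers the rank. -/
theorem finrank_lt_of_sub_idem {i e : A} (hi : i * i = i) (he : e * e = e) (h1 : i * e = e)
    (h2 : e * i = e) (h0 : e ≠ 0) :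
    Module.finrank k (LinearMap.range (LinearMap.mulLeft k (i - e))) <
      Module.finrank k (LinearMap.range (LinearMap.mulLeft k i)) := by
  refine Submodule.finrank_lt_finrank_of_lt (SetLike.lt_iff_le_and_exists.2 ⟨?_, e, LinearMap.mem_range.2 ⟨e, ?_⟩, ?_⟩)
  · rintro _ ⟨v, rfl⟩
    refine ⟨(i - e) * v, ?_⟩
    simp only [LinearMap.mulLeft_apply, ← mul_assoc, mul_sub, hi, h1]
  · simp only [LinearMap.mulLeft_apply, h1]
  · rintro ⟨v, hv⟩
    simp only [LinearMap.mulLeft_apply] at hv
    apply h0
    calc e = e * e := he.symm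
      _ = e * ((i - e) * v) := by rw [hv]
      _ = 0 := by rw [← mul_assoc, mul_sub, h2, he, sub_self, zero_mul]

include k in
/-- Induction on idempotents through orthogonal sums of primitive ones. -/
theorem idem_induction {C : A → Prop} (h0 : C 0) (hprim : ∀ i, IsPrim i → C i)
    (hadd : ∀ e f : A, e * e = e → f * f = f → e * f = 0 → f * e = 0 → C e → C f → C (e + f))
    {i : A} (hi : i * i = i) : C i := by
  induction hn : Module.finrank k (LinearMap.range (LinearMap.mulLeft k i)) using Nat.strong_induction_on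
    generalizing i with
  | _ n ih =>
    by_cases hi0 : i = 0
    · rw [hi0]; exact h0
    by_cases hp : IsPrim i
    · exact hprim i hp
    simp only [IsPrim, hi, ne_eq, hi0, not_false_eq_true, true_and, not_forall, not_or] at hp
    obtain ⟨e, he, h1, h2, he0, hei⟩ := hp
    have hf : (i - e) * (i - e) = i - e := by
      simp only [sub_mul, mul_sub, hi, he, h1, h2]; abel
    have hef : e * (i - e) = 0 := by rw [mul_sub, h2, he, sub_self]
    have hfe : (i - e) * e = 0 := by rw [sub_mul, h1, he, sub_self]
    have hlt1 := finrank_lt_of_sub_idem k hi he h1 h2 he0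
    have hlt2 := finrank_lt_of_sub_idem k hi hf (by rw [mul_sub, hi, h1]) (by rw [sub_mul, hi, h2])
      (sub_ne_zero.2 (Ne.symm hei))
    rw [sub_sub_cancel] at hlt2
    rw [show i = e + (i - e) by abel]
    exact hadd e (i - e) he hf hef hfe (ih _ (hn ▸ hlt2) he rfl) (ih _ (hn ▸ hlt1) hf rfl)

end

/-! ### Additive functions on idempotents -/

section Nil

variable {B : Type*} [Ring B] (π : A →+* B) (hπ : ∀ x : A, π x = 0 → IsNilpotent x)
include hπ

/-- Equivalent idempotents modulo a nil ideal are equivalent. -/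
theorem exists_equiv_lift {e f : A} (he : e * e = e) (hf : f * f = f) {a c : A}
    (hac : π a * π c = π e) (hca : π c * π a = π f) :
    ∃ u v : A, u * v = e ∧ v * u = f := by
  have hpe : π e * π e = π e := by rw [← map_mul, he]
  have hpf : π f * π f = π f := by rw [← map_mul, hf]
  set w := e * a * f with hw
  set v := f * c * e with hv
  have hwv : π (w * v) = π e := by
    simp only [hw, hv, map_mul]
    exact ac_reduce hac hca hpe
  have hvw : π (v * w) = π f := by
    simp only [hw, hv, map_mul]
    exact ac_reduce hca hac hpf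
  have hew : e * w = w := by simp only [hw, ← mul_assoc, he]
  have hve : v * e = v := by simp only [hv, mul_assoc, he]
  have hfv : f * v = v := by simp only [hv, ← mul_assoc, hf]
  have hwf : w * f = w := by simp only [hw, mul_assoc, hf]
  set z := w * v + (1 - e) with hz
  have hez : e * z = w * v := by
    rw [hz, mul_add, ← mul_assoc, hew, mul_sub, mul_one, he, sub_self, add_zero]
  have hze : z * e = w * v := by
    rw [hz, add_mul, mul_assoc, hve, sub_mul, one_mul, he, sub_self, add_zero]
  have hn : IsNilpotent (1 - z) := hπ _ (by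
    rw [map_sub, map_one, hz, map_add, map_sub, map_one, hwv]; abel)
  obtain ⟨t, ht⟩ := hn.isUnit_one_sub
  rw [sub_sub_cancel] at ht
  have hte : Commute (↑t⁻¹ : A) e :=
    (show Commute (t : A) e by rw [ht]; exact hze.trans hez.symm).units_inv_left
  refine ⟨w, v * ↑t⁻¹, ?_, ?_⟩
  · rw [← mul_assoc, ← hez, mul_assoc, ← ht, Units.mul_inv, mul_one]
  · set f' := v * ↑t⁻¹ * w with hf'
    have hid : f' * f' = f' := by
      calc f' * f' = v * ↑t⁻¹ * ((w * v) * ↑t⁻¹) * w := by simp only [hf', mul_assoc]
        _ = v * ↑t⁻¹ * (e * w) := by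
          rw [← hez, mul_assoc e z, ← ht, Units.mul_inv, mul_one]
          simp only [mul_assoc]
        _ = f' := by rw [hew]
    have hff : f * f' = f' := by simp only [hf', ← mul_assoc, hfv]
    have hff' : f' * f = f' := by simp only [hf', mul_assoc, hwf]
    have hd : (f - f') * (f - f') = f - f' := by
      simp only [sub_mul, mul_sub, hf, hid, hff, hff']; abel
    have hzero : π (f - f') = 0 := by
      have h1 : π (↑t⁻¹ : A) = 1 := by
        have h2 : π (t : A) = 1 := by
          rw [ht, hz, map_add, map_sub, map_one, hwv]; abel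
        have h3 := congrArg π (Units.mul_inv t)
        rwa [map_mul, h2, one_mul, map_one] at h3
      rw [map_sub, hf', map_mul, map_mul, h1, mul_one, ← map_mul, hvw, sub_self]
    exact (sub_eq_zero.1 (IsIdempotentElem.eq_zero_of_isNilpotent hd (hπ _ hzero))).symm

end Nil

section Trace

variable {k : Type*} [Field k] [Algebra k A] [FiniteDimensional k A]

/-- A finite dimensional algebra modulo a nil ideal is a product of matrix algebras. -/
theorem exists_matrix_quotient [IsAlgClosed k] :
    ∃ (n : ℕ) (d : Fin n → ℕ) (ψ : A →ₐ[k] (Π i, Matrix (Fin (d i)) (Fin (d i)) k)),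
      (∀ i, NeZero (d i)) ∧ Function.Surjective ψ ∧ ∀ x, ψ x = 0 → IsNilpotent x := by
  have : IsArtinianRing A := IsArtinianRing.of_finite k A
  have : IsSemisimpleRing (A ⧸ Ring.jacobson A) := inferInstance
  obtain ⟨n, d, hd, ⟨e⟩⟩ :=
    IsSemisimpleRing.exists_algEquiv_pi_matrix_of_isAlgClosed k (A ⧸ Ring.jacobson A)
  refine ⟨n, d, e.toAlgHom.comp (Ideal.Quotient.mkₐ k (Ring.jacobson A)), hd,
    e.surjective.comp (Ideal.Quotient.mkₐ_surjective k _), fun x hx => ?_⟩
  have hx' : x ∈ Ring.jacobson A := by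
    have h1 : e (Ideal.Quotient.mkₐ k (Ring.jacobson A) x) = 0 := hx
    rw [EmbeddingLike.map_eq_zero_iff] at h1
    exact Ideal.Quotient.eq_zero_iff_mem.1 h1
  obtain ⟨N, hN⟩ := IsArtinianRing.isNilpotent_jacobson_bot (R := A)
  rw [Ideal.jacobson_bot] at hN
  have h2 := Ideal.pow_mem_pow hx' N
  rw [hN] at h2
  exact ⟨N, h2⟩

open Matrix in
theorem exists_rank_one_le {ι : Type*} [Fintype ι] [DecidableEq ι] (s : ι)
    {P : Matrix ι ι k} (hP : P * P = P) (h0 : P ≠ 0) :
    ∃ E a c : Matrix ι ι k, E * E = E ∧ P * E = E ∧ E * P = E ∧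
      a * c = Matrix.single s s 1 ∧ c * a = E := by
  obtain ⟨i, j, hij⟩ : ∃ i j, P i j ≠ 0 := by
    by_contra hcon
    push Not at hcon
    exact h0 (Matrix.ext hcon)
  refine ⟨(P i j)⁻¹ • (P * Matrix.single j i 1 * P), Matrix.single s i 1 * P,
    (P i j)⁻¹ • (P * Matrix.single j s 1), ?_, ?_, ?_, ?_, ?_⟩
  · have h : Matrix.single j i (1 : k) * P * (Matrix.single j i 1) = P i j • Matrix.single j i 1 := by
      rw [Matrix.single_mul_mul_single]; simp
    calc _ = ((P i j)⁻¹ * (P i j)⁻¹) • (P * (Matrix.single j i 1 * (P * P) * Matrix.single j i 1) * P) := by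
          rw [smul_mul_smul_comm]; simp only [mul_assoc]
      _ = _ := by
          rw [hP, h, mul_smul_comm, smul_mul_assoc, smul_smul]
          congr 1
          field_simp
  · rw [mul_smul_comm, ← mul_assoc, ← mul_assoc, hP]
  · rw [smul_mul_assoc, mul_assoc _ P P, hP]
  · rw [mul_smul_comm, mul_assoc (Matrix.single s i 1) P, ← mul_assoc P P, hP, ← mul_assoc,
      Matrix.single_mul_mul_single, Matrix.smul_single]
    simp [hij]
  · rw [smul_mul_assoc, ← mul_assoc, mul_assoc P, Matrix.single_mul_single_same]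
    simp [mul_assoc]

/-- An additive equivalence-invariant function on idempotents is given mod `p` by a linear form
killing nilpotent ideals, and that form is unique. -/
theorem exists_linear_of_additive [IsAlgClosed k] (N : A → ℤ)
    (hadd : ∀ e f : A, e * e = e → f * f = f → e * f = 0 → f * e = 0 → N (e + f) = N e + N f)
    (hequiv : ∀ a c : A, a * c * (a * c) = a * c → c * a * (c * a) = c * a → N (a * c) = N (c * a)) :
    ∃ τ : A →ₗ[k] k, (∀ e : A, e * e = e → τ e = (N e : k)) ∧
      ∀ σ : A ≃ₐ[k] A, (∀ e : A, e * e = e → N (σ e) = N e) → ∀ x, τ (σ x) = τ x := by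
  classical
  obtain ⟨n, d, ψ, hd, hsurj, hnil⟩ := exists_matrix_quotient (k := k) (A := A)
  have hnil' : ∀ x, ψ.toRingHom x = 0 → IsNilpotent x := hnil
  have hlift : ∀ y, y * y = y → ∃ e : A, e * e = e ∧ ψ e = y := fun y hy => by
    obtain ⟨e, he, hey⟩ := exists_isIdempotentElem_eq_of_ker_isNilpotent ψ.toRingHom
      (fun x hx => hnil x hx) y (hsurj y) hy
    exact ⟨e, he, hey⟩
  have hE : ∀ δ : Fin n, ∃ e : A, e * e = e ∧ ψ e = Pi.single δ (Matrix.single 0 0 1) := fun δ =>
    hlift _ (by rw [← Pi.single_mul]; simp)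
  choose ε hε hεψ using hE
  let τ : A →ₗ[k] k := ∑ δ, (N (ε δ) : k) •
    (Matrix.traceLinearMap (Fin (d δ)) k k ∘ₗ LinearMap.proj δ ∘ₗ ψ.toLinearMap)
  have hτ : ∀ x, τ x = ∑ δ, (N (ε δ) : k) * (ψ x δ).trace := fun x => by simp [τ]
  have hN0 : N 0 = 0 := by simpa using hadd 0 0 (mul_zero 0) (mul_zero 0) (mul_zero 0) (mul_zero 0)
  have hmain : ∀ e : A, e * e = e → τ e = (N e : k) := by
    intro e
    induction hm : Module.finrank k (LinearMap.range (LinearMap.mulLeft k e)) using
      Nat.strong_induction_on generalizing e with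
    | _ m ih =>
      intro he
      by_cases h0 : ψ e = 0
      · have : e = 0 := IsIdempotentElem.eq_zero_of_isNilpotent he (hnil e h0)
        subst this
        simp [hN0]
      obtain ⟨δ, hδ⟩ := Function.ne_iff.1 h0
      have hP : ψ e δ * ψ e δ = ψ e δ := by rw [← Pi.mul_apply, ← map_mul, he]
      obtain ⟨E, a, c, hEE, hPE, hEP, hac, hca⟩ := exists_rank_one_le (0 : Fin (d δ)) hP hδ
      set y : Π i, Matrix (Fin (d i)) (Fin (d i)) k := Pi.single δ E with hy
      have hye : ψ e * y = y := funext fun b => by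
        by_cases hb : b = δ
        · subst hb; simp [hy, hPE]
        · simp [hy, Pi.single_eq_of_ne hb]
      have hey : y * ψ e = y := funext fun b => by
        by_cases hb : b = δ
        · subst hb; simp [hy, hEP]
        · simp [hy, Pi.single_eq_of_ne hb]
      obtain ⟨f, hf, hfy, hf2, hf1⟩ := exists_isIdempotentElem_mul_eq_zero_of_ker_isNilpotent
        ψ.toRingHom (fun x hx => hnil x hx) y (hsurj y)
        (show y * y = y by rw [hy, ← Pi.single_mul, hEE]) (1 - e) (IsIdempotentElem.one_sub he)
        (show y * ψ (1 - e) = 0 by rw [map_sub, map_one, mul_sub, mul_one, hey, sub_self])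
        (show ψ (1 - e) * y = 0 by rw [map_sub, map_one, sub_mul, one_mul, hye, sub_self])
      rw [sub_mul, one_mul, sub_eq_zero] at hf1
      rw [mul_sub, mul_one, sub_eq_zero] at hf2
      have hfψ : ψ f = y := hfy
      have hf0 : f ≠ 0 := by
        intro h
        rw [h, map_zero] at hfψ
        have hE0 : E = 0 := by simpa [hy] using (congrFun hfψ δ).symm
        have h1 : a * c * (a * c) = 0 := by
          rw [mul_assoc a, ← mul_assoc c, hca, hE0, zero_mul, mul_zero]
        rw [hac, Matrix.single_mul_single_same, mul_one] at h1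
        simpa using congrFun (congrFun h1 0) 0
      obtain ⟨u, v, huv, hvu⟩ := exists_equiv_lift ψ.toRingHom hnil' (hε δ) hf
        (a := Function.surjInv hsurj (Pi.single δ a)) (c := Function.surjInv hsurj (Pi.single δ c))
        (by simp [Function.surjInv_eq hsurj, ← Pi.single_mul, hac, hεψ])
        (by simp [Function.surjInv_eq hsurj, ← Pi.single_mul, hca, hfψ, hy])
      have hNf : N f = N (ε δ) := by
        rw [← huv, ← hvu]
        exact (hequiv u v (by rw [huv, hε]) (by rw [hvu]; exact hf)).symm
      have hsub : (e - f) * (e - f) = e - f := by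
        simp only [sub_mul, mul_sub, he, hf.eq, ← hf1, ← hf2]; abel
      have hlt := finrank_lt_of_sub_idem k he hf hf1.symm hf2.symm hf0
      have hih := ih _ (hm ▸ hlt) (e - f) rfl hsub
      have hN : N e = N f + N (e - f) := by
        conv_lhs => rw [show e = f + (e - f) by abel]
        exact hadd f (e - f) hf hsub (by rw [mul_sub, ← hf2, hf.eq, sub_self])
          (by rw [sub_mul, ← hf1, hf.eq, sub_self])
      have hτf : τ f = (N (ε δ) : k) := by
        rw [hτ, Finset.sum_eq_single δ]
        · rw [hfψ, hy, Pi.single_eq_same, ← hca, Matrix.trace_mul_comm, hac,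
            Matrix.trace_single_eq_same, mul_one]
        · intro b _ hb
          simp [hfψ, hy, Pi.single_eq_of_ne hb]
        · simp
      rw [show e = f + (e - f) by abel, map_add, hih, hτf, ← hNf]
      rw [show f + (e - f) = e by abel, hN]
      push_cast
      rfl
  refine ⟨τ, hmain, fun σ hσ => ?_⟩
  have hker : ∀ x, ψ x = 0 ↔ ∀ y, IsNilpotent (x * y) := by
    intro x
    refine ⟨fun h y => hnil _ (by rw [map_mul, h, zero_mul]), fun h => ?_⟩
    by_contra hx
    obtain ⟨δ, hδ⟩ := Function.ne_iff.1 hx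
    obtain ⟨i, j, hij⟩ : ∃ i j, ψ x δ i j ≠ 0 := by
      by_contra hcon
      push Not at hcon
      exact hδ (Matrix.ext hcon)
    obtain ⟨y, hy⟩ := hsurj (Pi.single δ (Matrix.single j i (ψ x δ i j)⁻¹))
    obtain ⟨m, hm⟩ := h y
    have h1 : (ψ x δ * Matrix.single j i (ψ x δ i j)⁻¹) ^ m = 0 := by
      have := congrFun (congrArg ψ hm) δ
      simpa [map_pow, hy] using this
    set W := ψ x δ * Matrix.single j i (ψ x δ i j)⁻¹ with hW
    have hWW : W * W = W := by
      rw [hW, mul_assoc, ← mul_assoc (Matrix.single j i _), Matrix.single_mul_mul_single]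
      simp [hij]
    have hW0 : W = 0 := IsIdempotentElem.eq_zero_of_isNilpotent hWW ⟨m, h1⟩
    have := congrFun (congrFun hW0 i) i
    simp [hW, hij] at this
  have hσker : ∀ x, ψ x = 0 → ψ (σ x) = 0 := fun x hx => by
    rw [hker]
    intro y
    have := ((hker x).1 hx (σ.symm y)).map σ
    rwa [map_mul, AlgEquiv.apply_symm_apply] at this
  set L : A →ₗ[k] k := τ ∘ₗ σ.toLinearMap - τ with hL
  have hLker : ∀ x, ψ x = 0 → L x = 0 := fun x hx => by
    simp [hL, hτ, hx, hσker x hx]
  have hLid : ∀ e : A, e * e = e → L e = 0 := fun e he => by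
    simp [hL, hmain e he, hmain (σ e) (by rw [← map_mul, he]), hσ e he]
  let S : Submodule k (Π i, Matrix (Fin (d i)) (Fin (d i)) k) :=
    Submodule.map ψ.toLinearMap (LinearMap.ker L)
  have hSid : ∀ y, y * y = y → y ∈ S := fun y hy => by
    obtain ⟨e, he, hey⟩ := hlift y hy
    exact ⟨e, hLid e he, hey⟩
  have hSall : ∀ y, y ∈ S := by
    intro y
    rw [← Finset.univ_sum_single y]
    refine sum_mem fun δ _ => ?_
    have hone : ∀ (i j : Fin (d δ)) (r : k), Pi.single δ (Matrix.single i j r) ∈ S := by
      intro i j r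
      have : (Pi.single δ (Matrix.single i j r) : Π i, Matrix (Fin (d i)) (Fin (d i)) k) =
          r • Pi.single δ (Matrix.single i j 1) := by simp [← Pi.single_smul]
      rw [this]
      refine S.smul_mem r ?_
      by_cases hij : i = j
      · subst hij
        exact hSid _ (by rw [← Pi.single_mul]; simp)
      · have e1 : Pi.single δ (Matrix.single i i (1 : k)) ∈ S := hSid _ (by rw [← Pi.single_mul]; simp)
        have e2 : Pi.single δ (Matrix.single i i (1 : k) + Matrix.single i j 1) ∈ S :=
          hSid _ (by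
            rw [← Pi.single_mul]
            congr 1
            simp [mul_add, add_mul, Ne.symm hij])
        have := S.sub_mem e2 e1
        rwa [Pi.single_add, add_sub_cancel_left] at this
    rw [Matrix.matrix_eq_sum_single (y δ),
      show Pi.single δ (∑ i, ∑ j, Matrix.single i j (y δ i j)) =
        (AddMonoidHom.single (fun i => Matrix (Fin (d i)) (Fin (d i)) k) δ)
          (∑ i, ∑ j, Matrix.single i j (y δ i j)) from rfl, map_sum]
    refine sum_mem fun i _ => ?_
    rw [map_sum]
    exact sum_mem fun j _ => hone i j _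
  intro x
  obtain ⟨x', hx', hxx⟩ := hSall (ψ x)
  have h1 := hLker (x - x') (by
    rw [map_sub, show ψ x' = ψ x from hxx, sub_self])
  rw [map_sub, (LinearMap.mem_ker.1 hx'), sub_zero] at h1
  simpa [hL, sub_eq_zero] using h1

end Trace

end CfsgLib.Star
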