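import Cfsg.Agent.Lib.Blocks.Star.Stab

/-!
# Inner products of products, section by section
-/

namespace CfsgLib.Star

open Cfsg CfsgLib.Blocks CfsgLib.Pairs MonoidAlgebra CfsgLib.Char
open scoped ComplexConjugate Classical

variable {G : Type*} [Group G] [Fintype G] {M : Ideal AlgInt} [M.IsPrime] {p : ℕ} [Fact p.Prime]

/-- The inner product on the regular elements of the parts at `(u, a)` of two functions. -/
noncomputable def partInner (p : ℕ) (χ ψ : G → ℂ) (u : G) (a : BrauerPairIdx G) : ℂ :=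
  ∑ y ∈ Finset.univ.filter (fun y : Subgroup.centralizer (a.1 : Set G) => ¬ p ∣ orderOf y),
    blockPart a.2 (fun c : Subgroup.centralizer (a.1 : Set G) => χ (u * (c : G))) y *
      conj (blockPart a.2 (fun c : Subgroup.centralizer (a.1 : Set G) => ψ (u * (c : G))) y)

omit [M.IsPrime] in
/-- Block parts are transported by isomorphisms. -/
theorem blockPart_mapBlock {K H : Type*} [Group K] [Fintype K] [Group H] [Fintype H] (φ : K ≃* H)
    (b : Set (IrrCharacter H)) (θ : H → ℂ) (k : K) :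
    blockPart (mapBlock φ b) (fun k => θ (φ k)) k = blockPart b θ (φ k) := by
  rw [blockPart_eq, blockPart_eq, mapBlock, finsum_mem_image (mapIrr_injective φ).injOn]
  refine finsum_mem_congr rfl fun ψ _ => ?_
  congr 1
  simp only [Cfsg.classInner, Nat.card_congr φ.toEquiv]
  congr 1
  exact Fintype.sum_equiv φ.toEquiv _ _ fun a => rfl

omit [M.IsPrime] [Fact p.Prime] in
theorem partInner_conj (χ ψ : IrrCharacter G) (x u : G) (a : BrauerPairIdx G) :
    partInner p (χ : G → ℂ) (ψ : G → ℂ) (x * u * x⁻¹) (conjPair x a) =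
      partInner p (χ : G → ℂ) (ψ : G → ℂ) u a := by
  set φ := centEquiv a.1 x with hφ
  have hpart : ∀ (ξ : IrrCharacter G) (y : Subgroup.centralizer (a.1 : Set G)),
      blockPart (conjPair x a).2
        (fun c : Subgroup.centralizer ((conjPair x a).1 : Set G) => (ξ : G → ℂ) (x * u * x⁻¹ * (c : G)))
        (φ y) =
      blockPart a.2 (fun c : Subgroup.centralizer (a.1 : Set G) => (ξ : G → ℂ) (u * (c : G))) y := by
    intro ξ y
    show blockPart (conjBlock a.1 x a.2) _ _ = _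
    rw [conjBlock_eq]
    have h := blockPart_mapBlock φ.symm a.2
      (fun c : Subgroup.centralizer (a.1 : Set G) => (ξ : G → ℂ) (u * (c : G))) (φ y)
    rw [MulEquiv.symm_apply_apply] at h
    refine Eq.trans ?_ h
    congr 1
    funext c
    show (ξ : G → ℂ) (x * u * x⁻¹ * (c : G)) = (ξ : G → ℂ) (u * (x⁻¹ * (c : G) * x))
    rw [← Char.IsIrr.isClassFunction ξ.2 (u * (x⁻¹ * (c : G) * x)) x]
    congr 1
    group
  symm
  refine Finset.sum_equiv φ.toEquiv (fun y => ?_) (fun y _ => ?_)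
  · simp only [Finset.mem_filter, Finset.mem_univ, true_and]
    rw [← MulEquiv.orderOf_eq φ y]
    rfl
  · exact (congrArg₂ (· * ·) (hpart χ y) (congrArg conj (hpart ψ y))).symm

variable (hM : IsPModular p M) {B : Set (IrrCharacter G)}
include hM

/-- A block of the centralizer inducing `B` gives a pair of `B`. -/
theorem isBrauerPairOf_of_induced {u : G} (hu : ∃ k : ℕ, orderOf u = p ^ k)
    {f : Set (IrrCharacter (Subgroup.centralizer (Subgroup.zpowers u : Set G)))}
    (hind : IsInducedBlock M (Subgroup.centralizer (Subgroup.zpowers u : Set G)) f B) :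
    IsBrauerPairOf p M B (Subgroup.zpowers u) f := by
  obtain ⟨k, hk⟩ := hu
  have hp : IsPGroup p (Subgroup.zpowers u) := IsPGroup.of_card (n := k) (by rw [Nat.card_zpowers, hk])
  obtain ⟨B', hB', -⟩ := existsUnique_block hM ⟨hp, (isInducedBlock_iff.1 hind).1⟩
  rwa [← IsInducedBlock.eq hind (isInducedBlock_of_pairOf hM hB')] at hB'

/-- Parts outside the pairs of the block vanish. -/
theorem part_eq_zero_of_not_pairOf {u : G} (hu : ∃ k : ℕ, orderOf u = p ^ k) (hB : IsPBlock M B)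
    {χ : IrrCharacter G} (hχ : χ ∈ B)
    {f : Set (IrrCharacter (Subgroup.centralizer (Subgroup.zpowers u : Set G)))} (hf : IsPBlock M f)
    (hnot : ¬ IsBrauerPairOf p M B (Subgroup.zpowers u) f)
    {y : Subgroup.centralizer (Subgroup.zpowers u : Set G)} (hy : ¬ p ∣ orderOf y) :
    blockPart f (fun c : Subgroup.centralizer (Subgroup.zpowers u : Set G) =>
      (χ : G → ℂ) (u * (c : G))) y = 0 := by
  have key : ∀ (H : Subgroup G), H = Subgroup.centralizer ({u} : Set G) →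
      ∀ f : Set (IrrCharacter H), IsPBlock M f → ¬ IsInducedBlock M H f B →
        ∀ y : H, ¬ p ∣ orderOf y → blockPart f (fun c : H => (χ : G → ℂ) (u * (c : G))) y = 0 := by
    rintro H rfl f hf hn y hy
    exact blockPart_eq_zero_of_not_induced hM hu hB hχ hf hn hy
  exact key _ (by rw [Subgroup.zpowers_eq_closure, Subgroup.centralizer_closure]) f hf
    (fun h => hnot (isBrauerPairOf_of_induced hM hu h)) y hy

theorem partInner_eq_zero_of_not_pairOf {u : G} (hu : ∃ k : ℕ, orderOf u = p ^ k) (hB : IsPBlock M B)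
    {χ : IrrCharacter G} (hχ : χ ∈ B) (ψ : G → ℂ)
    {f : Set (IrrCharacter (Subgroup.centralizer (Subgroup.zpowers u : Set G)))} (hf : IsPBlock M f)
    (hnot : ¬ IsBrauerPairOf p M B (Subgroup.zpowers u) f) :
    partInner p (χ : G → ℂ) ψ u ⟨Subgroup.zpowers u, f⟩ = 0 :=
  Finset.sum_eq_zero fun y hy => by
    rw [part_eq_zero_of_not_pairOf hM hu hB hχ hf hnot (Finset.mem_filter.1 hy).2, zero_mul]

/-- Weighted combinations of block parts on the regular elements. -/
theorem sum_regular_mix₂ {C : Type*} [Group C] [Fintype C]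
    [Fintype {f : Set (IrrCharacter C) // IsPBlock M f}] (θ θ' : C → ℂ)
    (w w' : {f : Set (IrrCharacter C) // IsPBlock M f} → ℂ) :
    ∑ y ∈ Finset.univ.filter (fun y : C => ¬ p ∣ orderOf y),
        (∑ f, w f * blockPart f.1 θ y) * conj (∑ f, w' f * blockPart f.1 θ' y) =
      ∑ f : {f : Set (IrrCharacter C) // IsPBlock M f}, w f * conj (w' f) *
        ∑ y ∈ Finset.univ.filter (fun y : C => ¬ p ∣ orderOf y),
          blockPart f.1 θ y * conj (blockPart f.1 θ' y) := by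
  simp only [map_sum, map_mul, Finset.sum_mul_sum]
  rw [Finset.sum_comm]
  refine Finset.sum_congr rfl fun f _ => ?_
  rw [Finset.sum_comm, Finset.sum_eq_single f]
  · rw [Finset.mul_sum]
    exact Finset.sum_congr rfl fun y _ => mul_mul_mul_comm _ _ _ _
  · intro f' _ hne
    rw [Finset.sum_congr rfl fun y _ => mul_mul_mul_comm _ _ _ _, ← Finset.mul_sum,
      sum_regular_blockPart_mul_eq_zero hM f.2 f'.2 (fun h => hne (Subtype.ext h.symm)) θ θ',
      mul_zero]
  · exact fun h => absurd (Finset.mem_univ f) h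

variable {P : Subgroup G} {e : Set (IrrCharacter (Subgroup.centralizer (P : Set G)))}
  {F : FusionSystem P} (hF : IsBlockFusionSystemOn p M B P e F)
include hF

/-- The Brauer elements of `B`. -/
noncomputable def brauerElts (p : ℕ) (M : Ideal AlgInt) (B : Set (IrrCharacter G))
    [Fintype (BrauerPairIdx G)] : Finset (G × BrauerPairIdx G) :=
  Finset.univ.filter fun t => t.2.1 = Subgroup.zpowers t.1 ∧ IsBrauerPairOf p M B t.2.1 t.2.2

/-- The inner product of two products as a sum over the Brauer elements. -/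
theorem classInner_star [Fintype (BrauerPairIdx G)] {η η' : G → ℂ} (hη : IsStableChar F η)
    (hη' : IsStableChar F η') {χ : IrrCharacter G} (hχ : χ ∈ B) (ψ : IrrCharacter G) :
    classInner (star p M P e η (χ : G → ℂ)) (star p M P e η' (ψ : G → ℂ)) =
      (Nat.card G : ℂ)⁻¹ * ∑ t ∈ brauerElts p M B, wt p M P e η t.1 t.2 *
        conj (wt p M P e η' t.1 t.2) * partInner p (χ : G → ℂ) (ψ : G → ℂ) t.1 t.2 := by
  rw [Cfsg.classInner]
  congr 1
  rw [sum_eq_sum_decomp (p := p), brauerElts]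
  conv_rhs => rw [Finset.sum_filter, Fintype.sum_prod_type]
  rw [Finset.sum_filter]
  refine Finset.sum_congr rfl fun u _ => ?_
  by_cases hu : ∃ k : ℕ, orderOf u = p ^ k
  swap
  · rw [if_neg hu]
    refine (Finset.sum_eq_zero fun a _ => if_neg ?_).symm
    rintro ⟨h1, h2⟩
    obtain ⟨k, hk⟩ := IsPGroup.iff_card.1 h2.1.1
    rw [show Nat.card ↥a.1 = Nat.card (Subgroup.zpowers u) by
      rw [show a.1 = Subgroup.zpowers u from h1], Nat.card_zpowers] at hk
    exact hu ⟨k, hk⟩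
  rw [if_pos hu]
  have := Fintype.ofFinite
    {f : Set (IrrCharacter (Subgroup.centralizer (Subgroup.zpowers u : Set G))) // IsPBlock M f}
  rw [Finset.sum_congr rfl fun s hs => by
    rw [star_eq_sum_blockPart hM hF hη χ hu (Finset.mem_filter.1 hs).2,
      star_eq_sum_blockPart hM hF hη' ψ hu (Finset.mem_filter.1 hs).2],
    sum_regular_mix₂ hM]
  let X : BrauerPairIdx G → ℂ := fun a => if a.1 = Subgroup.zpowers u ∧ IsBrauerPairOf p M B a.1 a.2
    then wt p M P e η u a * conj (wt p M P e η' u a) * partInner p (χ : G → ℂ) (ψ : G → ℂ) u a else 0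
  show _ = ∑ a : BrauerPairIdx G, X a
  let emb : {f : Set (IrrCharacter (Subgroup.centralizer (Subgroup.zpowers u : Set G))) //
      IsPBlock M f} → BrauerPairIdx G := fun f => ⟨Subgroup.zpowers u, f.1⟩
  have hemb : Function.Injective emb := fun f f' h => by
    simp only [emb, Sigma.mk.inj_iff, heq_eq_eq, true_and] at h
    exact Subtype.ext h
  rw [← Finset.sum_subset (Finset.subset_univ (Finset.univ.image emb)) fun a _ ha => ?_,
    Finset.sum_image fun a _ b _ h => hemb h]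
  · refine Finset.sum_congr rfl fun f _ => ?_
    simp only [X, emb]
    split_ifs with h
    · rfl
    · rw [true_and] at h
      show wt p M P e η u ⟨Subgroup.zpowers u, f.1⟩ * conj (wt p M P e η' u ⟨Subgroup.zpowers u, f.1⟩) *
        partInner p (χ : G → ℂ) (ψ : G → ℂ) u ⟨Subgroup.zpowers u, f.1⟩ = 0
      rw [partInner_eq_zero_of_not_pairOf hM hu hF.1.1.2.1 hχ _ f.2 h, mul_zero]
  · refine if_neg fun h => ha (Finset.mem_image.2 ?_)
    obtain ⟨Q, g⟩ := a
    obtain ⟨h1, h2⟩ := h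
    simp only at h1
    subst h1
    exact ⟨⟨g, h2.1.2⟩, Finset.mem_univ _, rfl⟩

/-- Summing over the Brauer elements through the elements of `P`. -/
theorem sum_brauerElts [Fintype (BrauerPairIdx G)] [Fintype P] (H : G → BrauerPairIdx G → ℂ)
    (hconj : ∀ x u a, H (x * u * x⁻¹) (conjPair x a) = H u a)
    (hinn : ∀ Q : Subgroup G, F.Hom Q = (innerFusionSystem P).Hom Q)
    (b : P → BrauerPairIdx G) (hb1 : ∀ v, (b v).1 = Subgroup.zpowers (v : G))
    (hb2 : ∀ v, Relation.ReflTransGen (NormalSubpairRel p M) (b v) ⟨P, e⟩) :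
    ∑ t ∈ brauerElts p M B, H t.1 t.2 = (Nat.card G : ℂ) * ((Nat.card P : ℂ)⁻¹ *
      ∑ v : P, (Nat.card (P ⊓ Subgroup.centralizer ({(v : G)} : Set G) : Subgroup G) : ℂ) /
        (Nat.card (Subgroup.centralizer ({(v : G)} : Set G)) : ℂ) * H v (b v)) := by
  set T := brauerElts p M B with hT
  let Φ : G × P → G × BrauerPairIdx G := fun xv => (xv.1 * xv.2 * xv.1⁻¹, conjPair xv.1 (b xv.2))
  let w : P → ℂ := fun v =>
    (Nat.card (P ⊓ Subgroup.centralizer ({(v : G)} : Set G) : Subgroup G) : ℂ) /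
      ((Nat.card (Subgroup.centralizer ({(v : G)} : Set G)) : ℂ) * Nat.card P)
  have hrhs : (Nat.card G : ℂ) * ((Nat.card P : ℂ)⁻¹ *
      ∑ v : P, (Nat.card (P ⊓ Subgroup.centralizer ({(v : G)} : Set G) : Subgroup G) : ℂ) /
        (Nat.card (Subgroup.centralizer ({(v : G)} : Set G)) : ℂ) * H v (b v)) =
      ∑ xv : G × P, w xv.2 * H (Φ xv).1 (Φ xv).2 := by
    rw [Fintype.sum_prod_type]
    simp only [Φ, hconj]
    rw [Finset.sum_const, Finset.card_univ, nsmul_eq_mul, ← Nat.card_eq_fintype_card, Finset.mul_sum]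
    congr 1
    refine Finset.sum_congr rfl fun v _ => ?_
    simp only [w]
    field_simp
  have hmaps : ∀ xv ∈ (Finset.univ : Finset (G × P)), Φ xv ∈ T := by
    intro xv _
    refine Finset.mem_filter.2 ⟨Finset.mem_univ _, ?_, ?_⟩
    · show (b xv.2).1.map _ = _
      rw [hb1, MonoidHom.map_zpowers]
      simp [Φ]
    · exact isBrauerPairOf_conjPair _ ((subpairLE_pairOf_iff hM (hb2 xv.2) B).1 hF.1.1)
  rw [hrhs, ← Finset.sum_fiberwise_of_maps_to hmaps]
  refine Finset.sum_congr rfl fun t ht => ?_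
  rw [Finset.sum_congr rfl (g := fun xv => w xv.2 * H t.1 t.2) fun xv hxv => by
    rw [(Finset.mem_filter.1 hxv).2], ← Finset.sum_mul]
  suffices h : ∑ xv ∈ Finset.univ.filter (fun xv => Φ xv = t), w xv.2 = 1 by rw [h, one_mul]
  -- a base point of the fibre
  obtain ⟨-, ht1, ht2⟩ := Finset.mem_filter.1 ht
  obtain ⟨u, a⟩ := t
  simp only at ht1 ht2
  obtain ⟨y, hy⟩ := exists_conj_le hM hF.1 ht2
  have hv0 : y * u * y⁻¹ ∈ P := le_of_subpairLE hy ⟨u, ht1.symm ▸ Subgroup.mem_zpowers u, rfl⟩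
  set v₀ : P := ⟨y * u * y⁻¹, hv0⟩ with hv₀
  have hbv₀ : conjPair y a = b v₀ := by
    refine eq_of_subpairLE hM hF.1.1.1 hy (hb2 v₀) ?_
    rw [hb1]
    show a.1.map _ = _
    rw [ht1, MonoidHom.map_zpowers]
    simp [v₀]
  set S := Finset.univ.filter (fun xv => Φ xv = (u, a)) with hS
  set C := Subgroup.centralizer ({(v₀ : G)} : Set G) with hC
  let g : P × C → G × P := fun wc => (y⁻¹ * (wc.2 : G) * (wc.1 : G)⁻¹,
    ⟨(wc.1 : G) * v₀ * (wc.1 : G)⁻¹, P.mul_mem (P.mul_mem wc.1.2 v₀.2) (P.inv_mem wc.1.2)⟩)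
  have hgb : ∀ wc : P × C, b (g wc).2 = conjPair (wc.1 : G) (b v₀) := fun wc => by
    refine eq_of_subpairLE hM hF.1.1.1 (hb2 _) ?_ ?_
    · have h := subpairLE_conjPair (wc.1 : G) (hb2 v₀)
      rwa [conjPair_of_mem wc.1.2] at h
    · rw [hb1]
      show _ = (b v₀).1.map _
      rw [hb1, MonoidHom.map_zpowers]
      simp [g]
  have hcb : ∀ c : C, conjPair (c : G) (b v₀) = b v₀ := by
    intro c
    have hcC : (c : G) ∈ Subgroup.centralizer ((b v₀).1 : Set G) := by
      rw [hb1, Subgroup.zpowers_eq_closure, Subgroup.centralizer_closure]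
      exact c.2
    have hcN := centralizer_le_normalizer' (b v₀).1 hcC
    obtain ⟨hcC', hst⟩ := stabilizesBlock_iff.1
      (stabilizesBlock_of_mem (e := (b v₀).2) hcC)
    rw [show b v₀ = ⟨(b v₀).1, (b v₀).2⟩ from rfl, conjPair_self hcN hcC', hst]
  have hgS : ∀ wc, g wc ∈ S := fun wc => by
    refine Finset.mem_filter.2 ⟨Finset.mem_univ _, ?_⟩
    have hc : (wc.2 : G) * v₀ = v₀ * wc.2 := (mem_centralizer_singleton.1 wc.2.2).eq
    refine Prod.ext ?_ ?_
    · show y⁻¹ * (wc.2 : G) * (wc.1 : G)⁻¹ * ((wc.1 : G) * v₀ * (wc.1 : G)⁻¹) *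
        (y⁻¹ * (wc.2 : G) * (wc.1 : G)⁻¹)⁻¹ = u
      calc _ = y⁻¹ * ((wc.2 : G) * v₀ * (wc.2 : G)⁻¹) * y := by group
        _ = y⁻¹ * (y * u * y⁻¹) * y := by rw [hc, mul_inv_cancel_right]
        _ = u := by group
    · show conjPair (y⁻¹ * (wc.2 : G) * (wc.1 : G)⁻¹) (b (g wc).2) = a
      rw [hgb, ← conjPair_mul, inv_mul_cancel_right, conjPair_mul, hcb, ← hbv₀, ← conjPair_mul,
        inv_mul_cancel, conjPair_one]
  have hsurj : ∀ xv ∈ S, ∃ wc, g wc = xv := by
    intro xv hxv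
    obtain ⟨x, v⟩ := xv
    obtain ⟨h1, h2⟩ := Prod.ext_iff.1 (Finset.mem_filter.1 hxv).2
    simp only [Φ] at h1 h2
    have hconjv : (y * x) * v * (y * x)⁻¹ = v₀ := by
      show _ = y * u * y⁻¹
      rw [← h1]
      group
    have hmor : Mor p M P e (b v).1 (y * x) := ⟨(b v).2, hb2 v, by
      show Relation.ReflTransGen _ (conjPair (y * x) (b v)) _
      rw [conjPair_mul, h2]
      exact hy⟩
    have hφ : conjHom (b v).1 (y * x) ∈ F.Hom (b v).1 :=
      (mem_hom_iff hF).2 ⟨_, fun _ => rfl, hmor⟩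
    rw [hinn] at hφ
    obtain ⟨-, z, hz, hzv⟩ := hφ
    have h3 : (y * x) * v * (y * x)⁻¹ = z * v * z⁻¹ :=
      hzv ⟨v, by rw [hb1]; exact Subgroup.mem_zpowers _⟩
    have hzv' : z * v * z⁻¹ = v₀ := h3 ▸ hconjv
    refine ⟨(⟨z⁻¹, P.inv_mem hz⟩, ⟨y * x * z⁻¹, mem_centralizer_singleton.2 ?_⟩), ?_⟩
    · show y * x * z⁻¹ * v₀ = v₀ * (y * x * z⁻¹)
      calc y * x * z⁻¹ * v₀ = y * x * z⁻¹ * (z * v * z⁻¹) := by rw [hzv']
        _ = ((y * x) * v * (y * x)⁻¹) * (y * x * z⁻¹) := by group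
        _ = v₀ * (y * x * z⁻¹) := by rw [hconjv]
    · refine Prod.ext ?_ (Subtype.ext ?_)
      · show y⁻¹ * (y * x * z⁻¹) * (z⁻¹)⁻¹ = x
        group
      · show z⁻¹ * (v₀ : G) * (z⁻¹)⁻¹ = v
        rw [← hzv']
        group
  have hwS : ∀ xv ∈ S, w xv.2 = w v₀ := by
    intro xv hxv
    obtain ⟨wc, rfl⟩ := hsurj xv hxv
    simp only [w, g]
    rw [← card_map_conj (wc.1 : G) (P ⊓ C), ← card_map_conj (wc.1 : G) C]
    refine congrArg₂ (fun (A D : Subgroup G) => (Nat.card A : ℂ) / ((Nat.card D : ℂ) * Nat.card P)) ?_ ?_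
    · ext z
      simp only [hC, map_conj_eq, Subgroup.mem_inf, mem_centralizer_singleton]
      refine and_congr ⟨fun h => P.mul_mem (P.mul_mem (P.inv_mem wc.1.2) h) wc.1.2,
        fun h => by simpa [mul_assoc] using P.mul_mem (P.mul_mem wc.1.2 h) (P.inv_mem wc.1.2)⟩ ?_
      exact ⟨fun h => by simpa [mul_assoc] using h.map (MulAut.conj (wc.1 : G)⁻¹).toMonoidHom,
        fun h => by simpa [mul_assoc] using h.map (MulAut.conj (wc.1 : G)).toMonoidHom⟩
    · ext z
      simp only [hC, map_conj_eq, mem_centralizer_singleton]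
      exact ⟨fun h => by simpa [mul_assoc] using h.map (MulAut.conj (wc.1 : G)⁻¹).toMonoidHom,
        fun h => by simpa [mul_assoc] using h.map (MulAut.conj (wc.1 : G)).toMonoidHom⟩
  have hfib : ∀ xv ∈ S, ((Finset.univ : Finset (P × C)).filter (fun wc => g wc = xv)).card =
      Nat.card (P ⊓ C : Subgroup G) := by
    intro xv hxv
    obtain ⟨wc₀, rfl⟩ := hsurj xv hxv
    rw [Nat.card_eq_fintype_card, ← Finset.card_univ]
    refine (Finset.card_bij (fun (z : (P ⊓ C : Subgroup G)) _ =>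
      ((wc₀.1 * ⟨(z : G), z.2.1⟩ : P), (wc₀.2 * ⟨(z : G), z.2.2⟩ : C))) ?_ ?_ ?_).symm
    · intro z _
      refine Finset.mem_filter.2 ⟨Finset.mem_univ _, Prod.ext ?_ (Subtype.ext ?_)⟩
      · show y⁻¹ * ((wc₀.2 : G) * z) * ((wc₀.1 : G) * z)⁻¹ = y⁻¹ * (wc₀.2 : G) * (wc₀.1 : G)⁻¹
        group
      · show (wc₀.1 : G) * z * v₀ * ((wc₀.1 : G) * z)⁻¹ = (wc₀.1 : G) * v₀ * (wc₀.1 : G)⁻¹
        have hzv : (z : G) * v₀ = v₀ * z := (mem_centralizer_singleton.1 z.2.2).eq
        rw [mul_assoc (wc₀.1 : G) (z : G), hzv]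
        group
    · intro z _ z' _ h
      exact Subtype.ext (mul_left_cancel (congrArg Subtype.val (congrArg Prod.fst h)))
    · intro wc hwc
      obtain ⟨h1, h2⟩ := Prod.ext_iff.1 (Finset.mem_filter.1 hwc).2
      have h1' : y⁻¹ * (wc.2 : G) * (wc.1 : G)⁻¹ = y⁻¹ * (wc₀.2 : G) * (wc₀.1 : G)⁻¹ := h1
      have hz : (wc₀.1 : G)⁻¹ * wc.1 = (wc₀.2 : G)⁻¹ * wc.2 := by
        have h3 := congrArg (fun q => (wc₀.2 : G)⁻¹ * y * q * wc.1) h1'
        simpa [mul_assoc] using h3.symm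
      refine ⟨⟨(wc₀.1 : G)⁻¹ * wc.1, P.mul_mem (P.inv_mem wc₀.1.2) wc.1.2,
        hz ▸ C.mul_mem (C.inv_mem wc₀.2.2) wc.2.2⟩, Finset.mem_univ _, Prod.ext ?_ ?_⟩
      · refine Subtype.ext ?_
        show (wc₀.1 : G) * ((wc₀.1 : G)⁻¹ * wc.1) = wc.1
        group
      · refine Subtype.ext ?_
        show (wc₀.2 : G) * ((wc₀.1 : G)⁻¹ * wc.1) = wc.2
        rw [hz]
        group
  have hcount := Finset.card_eq_sum_card_fiberwise (f := g) (s := Finset.univ) (t := S)
    fun wc _ => hgS wc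
  rw [Finset.sum_congr rfl hfib, Finset.sum_const, smul_eq_mul, Finset.card_univ, Fintype.card_prod,
    ← Nat.card_eq_fintype_card, ← Nat.card_eq_fintype_card] at hcount
  rw [Finset.sum_congr rfl hwS, Finset.sum_const, nsmul_eq_mul]
  simp only [w]
  rw [mul_div_assoc', div_eq_one_iff_eq]
  · rw [mul_comm (Nat.card C : ℂ)]
    exact_mod_cast hcount.symm
  · exact mul_ne_zero (Nat.cast_ne_zero.2 Nat.card_pos.ne') (Nat.cast_ne_zero.2 Nat.card_pos.ne')

end CfsgLib.Star
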