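import Cfsg.Agent.Lib.Blocks.Star.Stab
import Mathlib.GroupTheory.FiniteAbelian.Duality
import Mathlib.RingTheory.RootsOfUnity.AlgebraicallyClosed
import Mathlib.GroupTheory.Index

/-!
# The dual of the focal quotient acts on the characters of a block
-/

namespace CfsgLib.Star

open Cfsg CfsgLib.Blocks CfsgLib.Pairs MonoidAlgebra CfsgLib.Char
open scoped Classical

/-- The orbits divide: if `k` divides every orbit size, it divides the number of points. -/
theorem dvd_card_of_dvd_index {A X : Type*} [Group A] [MulAction A X] [Finite X] {k : ℕ}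
    (h : ∀ x : X, k ∣ (MulAction.stabilizer A x).index) : k ∣ Nat.card X := by
  have := Fintype.ofFinite (MulAction.orbitRel.Quotient A X)
  rw [Nat.card_congr (MulAction.selfEquivSigmaOrbits A X), Nat.card_sigma]
  refine Finset.dvd_sum fun ω _ => ?_
  rw [Nat.card_coe_set_eq, ← MulAction.index_stabilizer]
  exact h _

section

variable {G : Type*} [Group G] {P : Subgroup G} (F : FusionSystem P)

theorem commutator_mem_focal (a b : P) :
    ((a⁻¹ * (b * a * b⁻¹) : P) : G) ∈ F.focalSubgroup :=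
  Subgroup.subset_closure ⟨P, conjHom P (b : G), ⟨a, F.conj_mem le_rfl b.2, rfl⟩⟩

theorem focal_normal : (F.focalSubgroup.subgroupOf P).Normal :=
  ⟨fun n hn g => by
    have h : g * n * g⁻¹ = n * (n⁻¹ * (g * n * g⁻¹)) := by group
    rw [h]
    exact mul_mem hn (commutator_mem_focal F n g)⟩

/-- The quotient of `P` by the focal subgroup is commutative. -/
@[implicit_reducible]
noncomputable def focalCommGroup [(F.focalSubgroup.subgroupOf P).Normal] :
    CommGroup (P ⧸ F.focalSubgroup.subgroupOf P) :=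
  { (inferInstance : Group (P ⧸ F.focalSubgroup.subgroupOf P)) with
    mul_comm := fun x y => by
      induction x using QuotientGroup.induction_on with | _ a => ?_
      induction y using QuotientGroup.induction_on with | _ b => ?_
      show ((a * b : P) : P ⧸ F.focalSubgroup.subgroupOf P) = ((b * a : P) : _)
      rw [QuotientGroup.eq]
      show (((a * b)⁻¹ * (b * a) : P) : G) ∈ F.focalSubgroup
      have h : (a * b)⁻¹ * (b * a) = b⁻¹ * (a⁻¹ * (b * a * b⁻¹)) * b := by group
      rw [h]
      exact (focal_normal F).conj_mem' _ (commutator_mem_focal F a b) b }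

variable [(F.focalSubgroup.subgroupOf P).Normal]

/-- A character of the focal quotient as a function on `G`. -/
noncomputable def lamOf (a : P ⧸ F.focalSubgroup.subgroupOf P →* ℂˣ) (g : G) : ℂ :=
  if h : g ∈ P then ((a (QuotientGroup.mk ⟨g, h⟩) : ℂˣ) : ℂ) else 0

theorem isFocalChar_lamOf (a : P ⧸ F.focalSubgroup.subgroupOf P →* ℂˣ) :
    IsFocalChar F (lamOf F a) := by
  refine ⟨?_, fun x hx y hy => ?_, fun x hx hf => ?_⟩
  · rw [lamOf, dif_pos P.one_mem]
    exact Units.val_eq_one.2 (a.map_one)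
  · rw [lamOf, lamOf, lamOf, dif_pos (mul_mem hx hy), dif_pos hx, dif_pos hy, ← Units.val_mul,
      ← map_mul]
    rfl
  · rw [lamOf, dif_pos hx, (QuotientGroup.eq_one_iff _).2 (show (⟨x, hx⟩ : P) ∈
      F.focalSubgroup.subgroupOf P from hf), map_one, Units.val_one]

theorem lamOf_mul (a b : P ⧸ F.focalSubgroup.subgroupOf P →* ℂˣ) :
    lamOf F (a * b) = lamOf F a * lamOf F b := by
  funext g
  simp only [Pi.mul_apply, lamOf]
  split_ifs with h
  · rfl
  · rw [mul_zero]

end

variable {G : Type*} [Group G] [Fintype G] {M : Ideal AlgInt} [M.IsPrime] {p : ℕ} [Fact p.Prime]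
variable (hM : IsPModular p M) {B : Set (IrrCharacter G)} {P : Subgroup G}
  {e : Set (IrrCharacter (Subgroup.centralizer (P : Set G)))} {F : FusionSystem P}
  (hF : IsBlockFusionSystemOn p M B P e F) [(F.focalSubgroup.subgroupOf P).Normal]
include hM hF

theorem star_one (χ : IrrCharacter G) :
    star p M P e (lamOf F 1) (χ : G → ℂ) = (χ : G → ℂ) := by
  funext g
  obtain ⟨u, s, hk, hs, hc, rfl⟩ := exists_decomp (p := p) g
  have hsC : s ∈ Subgroup.centralizer (Subgroup.zpowers u : Set G) := by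
    refine Subgroup.mem_centralizer_iff.2 fun z hz => ?_
    obtain ⟨n, rfl⟩ := Subgroup.mem_zpowers_iff.1 hz
    exact (hc.zpow_left n).eq
  have := Fintype.ofFinite {f : Set (IrrCharacter
    (Subgroup.centralizer (Subgroup.zpowers u : Set G))) // IsPBlock M f}
  have hs' : ¬ p ∣ orderOf (⟨s, hsC⟩ : Subgroup.centralizer (Subgroup.zpowers u : Set G)) := by
    rwa [Subgroup.orderOf_mk]
  have hw : ∀ f, wt p M P e (lamOf F 1) u ⟨Subgroup.zpowers u, f⟩ = 1 := by
    intro f
    by_cases h : ∃ y : G, Relation.ReflTransGen (NormalSubpairRel p M)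
        (conjPair y ⟨Subgroup.zpowers u, f⟩) ⟨P, e⟩
    · obtain ⟨y, hy⟩ := h
      rw [wt_eq hM hF (isFocalChar_lamOf F 1).isStableChar (Subgroup.mem_zpowers u) hy, lamOf,
        dif_pos (show y * u * y⁻¹ ∈ P from le_of_subpairLE hy ⟨u, Subgroup.mem_zpowers u, rfl⟩)]
      rfl
    · rw [wt, dif_neg h]
  rw [show u * s = u * ((⟨s, hsC⟩ : Subgroup.centralizer (Subgroup.zpowers u : Set G)) : G) from rfl,
    star_eq_sum_blockPart hM hF (isFocalChar_lamOf F 1).isStableChar χ hk hs']
  simp only [hw, one_mul]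
  refine sum_blockPart (M := M) (θ := fun c : Subgroup.centralizer (Subgroup.zpowers u : Set G) =>
    (χ : G → ℂ) (u * (c : G))) (fun c d => ?_) _
  have hd : Commute u (d : G) := Subgroup.mem_centralizer_iff.1 d.2 u (Subgroup.mem_zpowers u)
  simp only [Subgroup.coe_mul, Subgroup.coe_inv]
  rw [show u * ((d : G) * c * (d : G)⁻¹) = (d : G) * (u * c) * (d : G)⁻¹ by
    simp only [← mul_assoc, hd.eq]]
  exact Char.IsIrr.isClassFunction χ.2 _ _

/-- The action on the characters of `B` of height `h`. -/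
@[implicit_reducible]
noncomputable def starAction (h : ℕ) : MulAction (P ⧸ F.focalSubgroup.subgroupOf P →* ℂˣ)
    {χ : IrrCharacter G // χ ∈ B ∧ blockHeight p B (χ : G → ℂ) = h} where
  smul a χ := ⟨starIrr hM hF (isFocalChar_lamOf F a) χ.1,
    starIrr_mem hM hF (isFocalChar_lamOf F a) hF.1.1.2.1 χ.2.1,
    (blockHeight_starIrr hM hF (isFocalChar_lamOf F a) B χ.1).trans χ.2.2⟩
  one_smul χ := Subtype.ext (Subtype.ext (star_one hM hF χ.1))
  mul_smul a b χ := Subtype.ext (Subtype.ext (by
    show star p M P e (lamOf F (a * b)) _ =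
      star p M P e (lamOf F a) (starIrr hM hF (isFocalChar_lamOf F b) χ.1 : G → ℂ)
    rw [lamOf_mul]
    exact (star_star hM hF (isFocalChar_lamOf F b) (isFocalChar_lamOf F a) χ.1).symm))

/-- A fixed point forces the character to be trivial at a nonvanishing part. -/
theorem apply_eq_one_of_fixed {h : ℕ} (a : P ⧸ F.focalSubgroup.subgroupOf P →* ℂˣ)
    {χ : {χ : IrrCharacter G // χ ∈ B ∧ blockHeight p B (χ : G → ℂ) = h}}
    (hfix : (starAction hM hF h).toSMul.smul a χ = χ) (u : P)
    (hu : h = 0 ∨ (u : G) ∈ Subgroup.centralizer (P : Set G)) : a (QuotientGroup.mk u) = 1 := by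
  obtain ⟨f, ⟨hf, hle⟩, -⟩ := existsUnique_below hM hF.1.1.1
    (Subgroup.zpowers_le.2 u.2 : Subgroup.zpowers (u : G) ≤ P)
  have hk : ∃ k : ℕ, orderOf (u : G) = p ^ k := by
    obtain ⟨k, hk⟩ := IsPGroup.iff_orderOf.1 hF.1.1.1.1 u
    exact ⟨k, by rw [Subgroup.orderOf_coe, hk]⟩
  have hfB := (subpairLE_pairOf_iff hM (a := ⟨Subgroup.zpowers (u : G), f⟩) hle B).1 hF.1.1
  have hind := isInducedBlock_of_pairOf hM hfB
  have hH : Subgroup.centralizer (Subgroup.zpowers (u : G) : Set G) =
      Subgroup.centralizer ({(u : G)} : Set G) := by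
    rw [Subgroup.zpowers_eq_closure, Subgroup.centralizer_closure]
  have h1 := lam_eq_one_of_fixed hM hF (isFocalChar_lamOf F a) (χ := χ.1)
    (congrArg (fun x : {χ : IrrCharacter G // χ ∈ B ∧ blockHeight p B (χ : G → ℂ) = h} =>
      ((x.1 : IrrCharacter G) : G → ℂ)) hfix) hk hf hle (by
    rcases hu with hu | hu
    · exact exists_part_ne_zero_height_zero hM hk hH hind χ.2.1 (χ.2.2.trans hu)
    · exact exists_part_ne_zero_major hM hk hH hind
        (blockDefect_eq_of_central hM hF.1 hu hle) χ.2.1)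
  rw [lamOf, dif_pos u.2, Units.val_eq_one] at h1
  exact h1

theorem index_dvd_card_height_zero :
    (F.focalSubgroup.subgroupOf P).index ∣
      Nat.card {χ : IrrCharacter G // χ ∈ B ∧ blockHeight p B (χ : G → ℂ) = 0} := by
  letI := focalCommGroup F
  letI := starAction hM hF 0
  refine dvd_card_of_dvd_index (A := P ⧸ F.focalSubgroup.subgroupOf P →* ℂˣ) fun χ => ?_
  have hbot : MulAction.stabilizer (P ⧸ F.focalSubgroup.subgroupOf P →* ℂˣ) χ = ⊥ := by
    rw [eq_bot_iff]
    intro a ha
    rw [Subgroup.mem_bot]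
    refine MonoidHom.ext fun q => ?_
    induction q using QuotientGroup.induction_on with | _ u => ?_
    exact apply_eq_one_of_fixed hM hF a ha u (Or.inl rfl)
  rw [hbot, Subgroup.index_bot, CommGroup.card_monoidHom_of_hasEnoughRootsOfUnity]
  rfl

theorem relIndex_dvd_card_height (h : ℕ) :
    F.focalSubgroup.relIndex (P ⊓ Subgroup.centralizer (P : Set G)) ∣
      Nat.card {χ : IrrCharacter G // χ ∈ B ∧ blockHeight p B (χ : G → ℂ) = h} := by
  letI := focalCommGroup F
  letI := starAction hM hF h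
  set Zb : Subgroup (P ⧸ F.focalSubgroup.subgroupOf P) :=
    ((P ⊓ Subgroup.centralizer (P : Set G)).subgroupOf P).map
      (QuotientGroup.mk' (F.focalSubgroup.subgroupOf P)) with hZb
  have hidx : (MonoidHom.domRestrictHom Zb ℂˣ).ker.index =
      F.focalSubgroup.relIndex (P ⊓ Subgroup.centralizer (P : Set G)) := by
    have h1 := (MonoidHom.domRestrictHom Zb ℂˣ).ker.index_mul_card
    rw [CommGroup.card_domRestrictHom_ker ℂ Zb, CommGroup.card_monoidHom_of_hasEnoughRootsOfUnity,
      Zb.card_eq_card_quotient_mul_card_subgroup, mul_comm (Nat.card (_ ⧸ Zb))] at h1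
    rw [Nat.eq_of_mul_eq_mul_right Nat.card_pos h1,
      ← Subgroup.relIndex_subgroupOf (inf_le_left : P ⊓ Subgroup.centralizer (P : Set G) ≤ P)]
    set Z' := (P ⊓ Subgroup.centralizer (P : Set G)).subgroupOf P
    have h2 := Subgroup.index_ker ((QuotientGroup.mk' (F.focalSubgroup.subgroupOf P)).comp Z'.subtype)
    rw [MonoidHom.range_comp, Subgroup.range_subtype, ← MonoidHom.comap_ker,
      QuotientGroup.ker_mk'] at h2
    exact h2.symm
  rw [← hidx]
  refine dvd_card_of_dvd_index (A := P ⧸ F.focalSubgroup.subgroupOf P →* ℂˣ) fun χ =>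
    Subgroup.index_dvd_of_le fun a ha => ?_
  rw [MonoidHom.mem_ker, MonoidHom.domRestrictHom_apply]
  refine MonoidHom.ext fun q => ?_
  obtain ⟨u, hu, hq⟩ := q.2
  rw [MonoidHom.domRestrict_apply, MonoidHom.one_apply, ← hq]
  exact apply_eq_one_of_fixed hM hF a ha u (Or.inr hu.2)

end CfsgLib.Star
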