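import Cfsg.Agent.Lib.Blocks.Star.Global
import Cfsg.Agent.Lib.Blocks.RegCut

/-!
# The product is a generalized character
-/

namespace CfsgLib.Star

open Cfsg CfsgLib.Blocks CfsgLib.Pairs MonoidAlgebra CfsgLib.Char
open scoped ComplexConjugate Classical

variable {G : Type*} [Group G] [Fintype G] {M : Ideal AlgInt} [M.IsPrime] {p : ℕ} [Fact p.Prime]

/-- The twisted sum of the product over a nilpotent group mapped injectively to `G`. -/
theorem exists_int_sum_nilpotent (hM : IsPModular p M) {B : Set (IrrCharacter G)} {P : Subgroup G}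
    {e : Set (IrrCharacter (Subgroup.centralizer (P : Set G)))} {F : FusionSystem P}
    (hF : IsBlockFusionSystemOn p M B P e F) {lam : G → ℂ} (hlam : IsStableChar F lam)
    (χ : IrrCharacter G) {H : Type*} [Group H] [Fintype H] (hH : Group.IsNilpotent H) (φ : H →* G)
    (hφ : Function.Injective φ) (l : H →* ℂ) :
    ∃ n : ℤ, ∑ h : H, l h * star p M P e lam (χ : G → ℂ) (φ h) = n * Nat.card H := by
  have hp : p.Prime := Fact.out
  let Pp : Sylow p H := default
  have : (Pp : Subgroup H).Normal := Sylow.normal_of_normalizerCondition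
    (Group.normalizerCondition_of_isNilpotent (G := H)) Pp
  obtain ⟨Q, hQ⟩ := Subgroup.exists_right_complement'_of_coprime
    (N := (Pp : Subgroup H)) Pp.card_coprime_index
  have hpQ : ¬ p ∣ Nat.card Q := by
    have h1 := hQ.card_mul
    rw [← (Pp : Subgroup H).card_mul_index] at h1
    rw [Nat.eq_of_mul_eq_mul_left Nat.card_pos h1]
    exact Pp.not_dvd_index
  obtain ⟨a, ha⟩ := IsPGroup.iff_card.mp Pp.isPGroup'
  have hcomm : ∀ x ∈ (Pp : Subgroup H), ∀ y ∈ Q, Commute x y := by
    intro x hx y hy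
    refine CfsgLib.OddLocal.commute_of_coprime_orderOf hH ?_
    have h1 : orderOf x ∣ p ^ a := ha ▸ Subgroup.orderOf_dvd_natCard _ hx
    have h2 : orderOf y ∣ Nat.card Q := Subgroup.orderOf_dvd_natCard _ hy
    exact (Nat.Coprime.pow_left a
      ((Nat.Prime.coprime_iff_not_dvd hp).mpr hpQ)).of_dvd h1 h2
  set U := (Pp : Subgroup H).map φ with hU
  set S := Q.map φ with hSdef
  have hUp : IsPGroup p U := Pp.isPGroup'.map φ
  have hS : ¬ p ∣ Nat.card S := by
    rwa [hSdef, Subgroup.card_map_of_injective hφ]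
  let α : G → ℂ := Function.extend φ (fun h => l h) 0
  have hα : ∀ h : H, α (φ h) = l h := fun h => hφ.extend_apply _ _ h
  have hαmul : ∀ x ∈ φ.range, ∀ y ∈ φ.range, α (x * y) = α x * α y := by
    rintro _ ⟨x, rfl⟩ _ ⟨y, rfl⟩
    rw [← map_mul, hα, hα, hα, map_mul]
  obtain ⟨n, hn⟩ := exists_int_theta hM (isWeight_wt hM hF hlam) χ (α := α) (β := α) hS
    (by rw [← map_one φ, hα, map_one])
    (fun x hx y hy => hαmul x (Subgroup.map_le_range φ _ hx) y (Subgroup.map_le_range φ _ hy))
    U hUp (by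
      rintro _ ⟨y, hy, rfl⟩ _ ⟨x, hx, rfl⟩
      exact ((hcomm x hx y hy).map φ).symm)
    (fun x hx y hy => hαmul x (Subgroup.map_le_range φ _ hx) y (Subgroup.map_le_range φ _ hy))
    (1 : MonoidAlgebra (Res M) G) (one_mul _) (InvUnder.of_isCentralElt _ IsCentralElt.one)
    (InvUnder.of_isCentralElt _ IsCentralElt.one)
  refine ⟨n, ?_⟩
  have hcard : (Nat.card U : ℂ) * Nat.card S = Nat.card H := by
    rw [hU, hSdef, Subgroup.card_map_of_injective hφ, Subgroup.card_map_of_injective hφ,
      ← hQ.card_mul, Nat.cast_mul]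
  let ePQ : ↥(Pp : Subgroup H) × Q ≃ H := Equiv.ofBijective (fun x => (x.1 : H) * (x.2 : H)) hQ
  rw [← hcard, ← hn, ← ePQ.sum_comp, Fintype.sum_prod_type]
  refine Fintype.sum_equiv ((Pp : Subgroup H).equivMapOfInjective φ hφ).toEquiv _ _ fun x => ?_
  refine Fintype.sum_equiv (Q.equivMapOfInjective φ hφ).toEquiv _ _ fun y => ?_
  show l ((x : H) * (y : H)) * star p M P e lam _ (φ ((x : H) * (y : H))) =
    α (φ x) * α (φ y) * thetaQ _ _ (Subgroup.zpowers (φ x)) (φ x) (φ y) _
  rw [hα, hα, map_mul l, map_mul φ, star_mul P e lam _ ?_ ?_ ((hcomm x x.2 y y.2).map φ)]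
  · rw [orderOf_injective φ hφ]
    obtain ⟨k, -, hk⟩ := (Nat.dvd_prime_pow hp).1 (ha ▸ Subgroup.orderOf_dvd_natCard _ x.2)
    exact ⟨k, hk⟩
  · rw [orderOf_injective φ hφ]
    exact fun hd => hpQ (hd.trans (Subgroup.orderOf_dvd_natCard _ y.2))

/-- The product is a generalized character. -/
theorem star_isGen (hM : IsPModular p M) {B : Set (IrrCharacter G)} {P : Subgroup G}
    {e : Set (IrrCharacter (Subgroup.centralizer (P : Set G)))} {F : FusionSystem P}
    (hF : IsBlockFusionSystemOn p M B P e F) {lam : G → ℂ} (hlam : IsStableChar F lam)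
    (χ : IrrCharacter G) : IsGeneralizedCharacter G (star p M P e lam (χ : G → ℂ)) := by
  refine Brauer.isGeneralizedCharacter_of_elementary (star_isClassFunction hM hF hlam χ)
    fun E q hq hel => ?_
  have hnil : Group.IsNilpotent E := Brauer.isNilpotent_of_isElementary hq hel
  have hθ : IsClassFunction E (fun x : E => star p M P e lam (χ : G → ℂ) x) := fun g x => by
    have h := star_isClassFunction hM hF hlam χ (g : G) (x : G)
    simpa using h
  refine isGeneralizedCharacter_of_classInner hθ fun ψ => ?_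
  obtain ⟨H, lam0, hψ⟩ := Clifford.isMonomial_of_isNilpotent (ψ : E → ℂ) ψ.2
  let lc : H →* ℂ := (Units.coeHom ℂ).comp lam0
  let l : H →* ℂ := (starRingEnd ℂ).toMonoidHom.comp lc
  obtain ⟨n, hn⟩ := exists_int_sum_nilpotent hM hF hlam χ (H := H) inferInstance
    (E.subtype.comp H.subtype) (Subtype.val_injective.comp Subtype.val_injective) l
  refine ⟨n, ?_⟩
  have hsymm : ∀ {K : Type _} [Group K] [Fintype K] (f g : K → ℂ),
      classInner f g = conj (classInner g f) := fun f g => by
    simp [Cfsg.classInner, map_sum, mul_comm]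
  rw [hψ, hsymm, frobenius_reciprocity H _ hθ, ← hsymm, Cfsg.classInner]
  calc (Nat.card H : ℂ)⁻¹ * ∑ h : H, star p M P e lam (χ : G → ℂ) ((h : E) : G) * conj (lam0 h : ℂ)
      = (Nat.card H : ℂ)⁻¹ * ∑ h : H, l h * star p M P e lam (χ : G → ℂ)
          ((E.subtype.comp H.subtype) h) := by
        congr 1
        exact Finset.sum_congr rfl fun h _ => mul_comm _ _
    _ = n := by
        rw [hn, mul_comm (n : ℂ), ← mul_assoc,
          inv_mul_cancel₀ (Nat.cast_ne_zero.mpr Nat.card_pos.ne'), one_mul]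

end CfsgLib.Star
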