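import Cfsg.Agent.Lib.Blocks.Star.Gen

/-!
# The product is an irreducible character of the same block
-/

namespace CfsgLib.Star

open Cfsg CfsgLib.Blocks CfsgLib.Pairs MonoidAlgebra CfsgLib.Char
open scoped ComplexConjugate Classical

variable {G : Type*} [Group G] [Fintype G] {M : Ideal AlgInt} [M.IsPrime] {p : ℕ} [Fact p.Prime]

omit [M.IsPrime] in
/-- A sum over the group, section by section. -/
theorem sum_eq_sum_decomp {A : Type*} [AddCommMonoid A] (f : G → A) :
    ∑ g, f g = ∑ u ∈ Finset.univ.filter (fun u : G => ∃ k : ℕ, orderOf u = p ^ k),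
      ∑ s ∈ Finset.univ.filter (fun s : Subgroup.centralizer (Subgroup.zpowers u : Set G) =>
        ¬ p ∣ orderOf s), f (u * (s : G)) := by
  rw [← Finset.sum_fiberwise_of_maps_to (g := fun g : G => pPt p g)
    (t := Finset.univ.filter (fun u : G => ∃ k : ℕ, orderOf u = p ^ k)) (s := Finset.univ)]
  · refine Finset.sum_congr rfl fun u hu => ?_
    rw [Finset.mem_filter] at hu
    have hcomm : ∀ s : Subgroup.centralizer (Subgroup.zpowers u : Set G), Commute u (s : G) :=
      fun s => Subgroup.mem_centralizer_iff.1 s.2 u (Subgroup.mem_zpowers u)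
    symm
    refine Finset.sum_bij (fun s _ => u * (s : G)) ?_ ?_ ?_ fun _ _ => rfl
    · intro s hs
      rw [Finset.mem_filter] at hs ⊢
      exact ⟨Finset.mem_univ _, pPt_mul hu.2 (by rw [Subgroup.orderOf_coe]; exact hs.2) (hcomm s)⟩
    · intro s _ t _ h
      exact Subtype.ext (mul_left_cancel h)
    · intro g hg
      rw [Finset.mem_filter] at hg
      obtain ⟨v, y, hk, hy, hc, rfl⟩ := exists_decomp (p := p) g
      rw [pPt_mul hk hy hc] at hg
      obtain rfl := hg.2
      refine ⟨⟨y, Subgroup.mem_centralizer_iff.2 fun z hz => ?_⟩, Finset.mem_filter.2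
        ⟨Finset.mem_univ _, by rwa [Subgroup.orderOf_mk]⟩, rfl⟩
      obtain ⟨n, rfl⟩ := Subgroup.mem_zpowers_iff.1 hz
      exact (hc.zpow_left n).eq
  · intro g _
    obtain ⟨v, y, hk, hy, hc, rfl⟩ := exists_decomp (p := p) g
    rw [Finset.mem_filter, pPt_mul hk hy hc]
    exact ⟨Finset.mem_univ _, hk⟩

/-- Mixing the block parts by weights of absolute value one preserves the regular norm. -/
theorem sum_regular_mix (hM : IsPModular p M) {C : Type*} [Group C] [Fintype C]
    [Fintype {f : Set (IrrCharacter C) // IsPBlock M f}] {θ : C → ℂ} (hθ : IsClassFunction C θ)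
    (w : {f : Set (IrrCharacter C) // IsPBlock M f} → ℂ) (hw : ∀ f, w f * conj (w f) = 1) :
    ∑ y ∈ Finset.univ.filter (fun y : C => ¬ p ∣ orderOf y),
        (∑ f, w f * blockPart f.1 θ y) * conj (∑ f, w f * blockPart f.1 θ y) =
      ∑ y ∈ Finset.univ.filter (fun y : C => ¬ p ∣ orderOf y), θ y * conj (θ y) := by
  have key : ∀ w : {f : Set (IrrCharacter C) // IsPBlock M f} → ℂ, (∀ f, w f * conj (w f) = 1) →
      ∑ y ∈ Finset.univ.filter (fun y : C => ¬ p ∣ orderOf y),
        (∑ f, w f * blockPart f.1 θ y) * conj (∑ f, w f * blockPart f.1 θ y) =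
      ∑ f : {f : Set (IrrCharacter C) // IsPBlock M f},
        ∑ y ∈ Finset.univ.filter (fun y : C => ¬ p ∣ orderOf y),
          blockPart f.1 θ y * conj (blockPart f.1 θ y) := by
    intro w hw
    simp only [map_sum, map_mul, Finset.sum_mul_sum]
    rw [Finset.sum_comm]
    refine Finset.sum_congr rfl fun f _ => ?_
    rw [Finset.sum_comm, Finset.sum_eq_single f]
    · refine Finset.sum_congr rfl fun y _ => ?_
      rw [mul_mul_mul_comm, hw, one_mul]
    · intro f' _ hne
      rw [Finset.sum_congr rfl fun y _ => mul_mul_mul_comm _ _ _ _, ← Finset.mul_sum,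
        sum_regular_blockPart_mul_eq_zero hM f.2 f'.2 (fun h => hne (Subtype.ext h.symm)) θ θ,
        mul_zero]
    · exact fun h => absurd (Finset.mem_univ f) h
  rw [key w hw, ← key (fun _ => 1) (fun _ => by simp)]
  refine Finset.sum_congr rfl fun y _ => ?_
  simp only [one_mul, sum_blockPart (M := M) hθ y]

variable (hM : IsPModular p M) {B : Set (IrrCharacter G)} {P : Subgroup G}
  {e : Set (IrrCharacter (Subgroup.centralizer (P : Set G)))} {F : FusionSystem P}
  (hF : IsBlockFusionSystemOn p M B P e F) {lam : G → ℂ} (hlam : IsFocalChar F lam)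
include hM hF hlam

theorem classInner_star_self (χ : IrrCharacter G) :
    classInner (star p M P e lam (χ : G → ℂ)) (star p M P e lam (χ : G → ℂ)) = 1 := by
  rw [← classInner_irr_self χ]
  simp only [Cfsg.classInner]
  congr 1
  rw [sum_eq_sum_decomp (p := p), sum_eq_sum_decomp (p := p)]
  refine Finset.sum_congr rfl fun u hu => ?_
  rw [Finset.mem_filter] at hu
  set C := Subgroup.centralizer (Subgroup.zpowers u : Set G) with hC
  have := Fintype.ofFinite {f : Set (IrrCharacter C) // IsPBlock M f}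
  have hcl : IsClassFunction C (fun c : C => (χ : G → ℂ) (u * (c : G))) := by
    intro c d
    have hd : Commute u (d : G) := Subgroup.mem_centralizer_iff.1 d.2 u (Subgroup.mem_zpowers u)
    show (χ : G → ℂ) (u * ((d * c * d⁻¹ : C) : G)) = (χ : G → ℂ) (u * (c : G))
    rw [show u * ((d * c * d⁻¹ : C) : G) = (d : G) * (u * c) * (d : G)⁻¹ by
      simp only [Subgroup.coe_mul, Subgroup.coe_inv, ← mul_assoc, hd.eq]]
    exact Char.IsIrr.isClassFunction χ.2 _ _
  rw [← sum_regular_mix hM hcl (fun f => wt p M P e lam u ⟨Subgroup.zpowers u, f.1⟩)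
    fun f => norm_wt hM hF hlam.isStableChar hlam (Subgroup.mem_zpowers u)]
  refine Finset.sum_congr rfl fun s hs => ?_
  rw [Finset.mem_filter] at hs
  rw [star_eq_sum_blockPart hM hF hlam.isStableChar χ hu.2 hs.2]

theorem star_apply_one (χ : IrrCharacter G) :
    star p M P e lam (χ : G → ℂ) 1 = (χ : G → ℂ) 1 :=
  star_eq_of_regular hM hF hlam.isStableChar hlam.map_one χ (by simpa using (Fact.out : p.Prime).ne_one)

theorem star_isIrr (χ : IrrCharacter G) :
    IsIrrCharacter G (star p M P e lam (χ : G → ℂ)) := by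
  refine IsGen.isIrr_of_norm_one (star_isGen hM hF hlam.isStableChar χ) (classInner_star_self hM hF hlam χ) ?_
  rw [star_apply_one hM hF hlam χ]
  obtain ⟨n, hn0, hn⟩ := IsIrr.exists_degree χ.2
  rw [hn, Complex.natCast_re]
  exact_mod_cast hn0

omit hlam hF in
/-- Characters equal on the regular elements lie in the same block. -/
theorem mem_of_eq_on_regular {B' : Set (IrrCharacter G)} (hB' : IsPBlock M B') {χ ψ : IrrCharacter G}
    (hχ : χ ∈ B') (h : ∀ x : G, ¬ p ∣ orderOf x → (ψ : G → ℂ) x = (χ : G → ℂ) x) : ψ ∈ B' := by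
  rw [IsPBlock.eq_blockOf hB' hχ]
  show SameBlock M (χ : G → ℂ) (ψ : G → ℂ)
  by_contra hs
  have h0 := sum_regular_eq_zero hM (χ := χ) (ψ := ψ) hs
  have h1 : ∑ x ∈ Finset.univ.filter (fun x : G => ¬ p ∣ orderOf x),
      Complex.normSq ((χ : G → ℂ) x) = 0 := by
    apply Complex.ofReal_injective
    rw [Complex.ofReal_sum, Complex.ofReal_zero, ← h0]
    refine Finset.sum_congr rfl fun x hx => ?_
    rw [Finset.mem_filter] at hx
    rw [h x⁻¹ (by rw [orderOf_inv]; exact hx.2), Char.IsIrr.map_inv χ.2, Complex.mul_conj]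
  have h2 := (Finset.sum_eq_zero_iff_of_nonneg fun x _ => Complex.normSq_nonneg _).1 h1 1
    (Finset.mem_filter.2 ⟨Finset.mem_univ _, by simpa using (Fact.out : p.Prime).ne_one⟩)
  rw [Complex.normSq_eq_zero] at h2
  obtain ⟨n, hn0, hn⟩ := IsIrr.exists_degree χ.2
  rw [hn, Nat.cast_eq_zero] at h2
  omega

/-- The product as an irreducible character. -/
noncomputable def starIrr (χ : IrrCharacter G) : IrrCharacter G :=
  ⟨star p M P e lam (χ : G → ℂ), star_isIrr hM hF hlam χ⟩

theorem starIrr_mem {χ : IrrCharacter G} (hB : IsPBlock M B) (hχ : χ ∈ B) :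
    starIrr hM hF hlam χ ∈ B :=
  mem_of_eq_on_regular hM hB hχ fun _ hx => star_eq_of_regular hM hF hlam.isStableChar hlam.map_one χ hx

theorem blockHeight_starIrr (B' : Set (IrrCharacter G)) (χ : IrrCharacter G) :
    blockHeight p B' (starIrr hM hF hlam χ : G → ℂ) = blockHeight p B' (χ : G → ℂ) := by
  have h : charDegree (starIrr hM hF hlam χ : G → ℂ) = charDegree (χ : G → ℂ) := by
    simp only [charDegree, starIrr, star_apply_one hM hF hlam χ]
  rw [blockHeight, blockHeight, h]

end CfsgLib.Star
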